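import Mathlib
import Cfsg.Prelude.Def_FusionSystem
import Cfsg.Prelude.Def_FusionComponents
import Cfsg.Agent.H85.Basic
import Cfsg.Agent.H85.Aut
import Cfsg.Agent.H85.PrimeIdx
import Cfsg.Agent.Lib.Helper88.PResStmt

/-!
# Piece EXT of S5140: in a closed subsystem, a map of `F` whose restriction to an `F`-centric
subgroup lies in `E` lies in `E`.
-/

set_option autoImplicit false

namespace Cfsg.Agent.Lib.Helper47.PResEXT

open Cfsg Cfsg.FusionSystem Cfsg.Agent.Lib.Helper88.PResStmt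

universe u

theorem main : Cfsg.Agent.Lib.Helper88.PResStmt.ExtMem.{u} := by
  intro Ω _ S _ p _ hS F hF E hEF hE N R hRN hR ψ hψ hψR
  obtain ⟨α, hα, ψ₀, hψ₀, hψα⟩ := (H85.primeIdx_main p hS F hF E hEF hE.1).2.1 N ψ hψ
  have hψ₀S : ∀ x, ψ₀ x ∈ S := (E.le_of_mem hψ₀).2
  have hρ₀ : ψ₀.comp (Subgroup.inclusion hRN) ∈ E.Hom R := H85.restrict_mem E hψ₀ hRN
  generalize hρ₀def : ψ₀.comp (Subgroup.inclusion hRN) = ρ₀ at hρ₀
  have hρ₀x : ∀ x : R, ρ₀ x = ψ₀ (Subgroup.inclusion hRN x) := fun x => by rw [← hρ₀def]; rfl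
  have hR' : F.IsCentric ρ₀.range := H85.isCentric_of_isConj F hR ⟨ρ₀, hEF R hρ₀, rfl⟩
  obtain ⟨χ, hχ, hχx⟩ := E.inv_mem hρ₀
  have hχR : ∀ y : ρ₀.range, χ y ∈ R := by
    rintro ⟨_, x, rfl⟩
    rw [hχx]
    exact x.2
  have hres : resAut α ρ₀.range hR'.1 ∈ E.Hom ρ₀.range := by
    refine H85.comp_mem' E hχ hψR hχR (fun y => ?_)
    obtain ⟨_, x, rfl⟩ := y
    have e : (⟨χ ⟨ρ₀ x, ⟨x, rfl⟩⟩, hχR ⟨ρ₀ x, ⟨x, rfl⟩⟩⟩ : R) = x := Subtype.ext (hχx x)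
    rw [e]
    have h1 := hψα (Subgroup.inclusion hRN x) (hψ₀S _)
    show ((α ⟨ρ₀ x, _⟩ : S) : Ω) = ψ (Subgroup.inclusion hRN x)
    rw [h1]
    congr 2
    exact Subtype.ext (hρ₀x x)
  have hαE : α ∈ E.autGroup S := hE.2 α hα ρ₀.range hR' hres
  have hαE' := (H85.mem_autGroup_iff E le_rfl α).mp hαE
  exact H85.comp_mem' E hψ₀ hαE' hψ₀S (fun x => hψα x (hψ₀S x))

end Cfsg.Agent.Lib.Helper47.PResEXT
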