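import Mathlib
import Cfsg.Agent.Lib.Helper47.Cent

set_option autoImplicit false

namespace Cfsg.Agent.Lib.Helper47.Asym

open Cfsg.Agent.Lib.Helper47.Syl Cfsg.Agent.Lib.Helper47.Cent
open scoped Pointwise

variable {G : Type*} [Group G]

/-- the elements `g` such that `O` and `gOg⁻¹` normalize each other -/
def Adj (O : Subgroup G) : Set G :=
  {g | O.map (MulAut.conj g).toMonoidHom ≤ Subgroup.normalizer (O : Set G) ∧
       O ≤ Subgroup.normalizer ((O.map (MulAut.conj g).toMonoidHom : Subgroup G) : Set G)}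

theorem map_conj_le_normalizer_map_conj {K H : Subgroup G}
    (h : K ≤ Subgroup.normalizer (H : Set G)) (g : G) :
    K.map (MulAut.conj g).toMonoidHom ≤
      Subgroup.normalizer ((H.map (MulAut.conj g).toMonoidHom : Subgroup G) : Set G) := by
  intro x hx
  rw [mem_normalizer_map_conj]
  exact h (mem_map_conj.mp hx)

theorem inv_mem_adj {O : Subgroup G} {g : G} (hg : g ∈ Adj O) : g⁻¹ ∈ Adj O := by
  constructor
  · have := map_conj_le_normalizer_map_conj hg.2 g⁻¹
    rwa [map_conj_inv_map_conj] at this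
  · have := map_conj_le_normalizer_map_conj hg.1 g⁻¹
    rwa [map_conj_inv_map_conj] at this

theorem mem_adj_of_mem_normalizer {O : Subgroup G} {g : G}
    (hg : g ∈ Subgroup.normalizer (O : Set G)) : g ∈ Adj O := by
  have e := map_conj_eq_of_mem_normalizer hg
  constructor
  · rw [e]; exact Subgroup.le_normalizer
  · rw [e]; exact Subgroup.le_normalizer

theorem inv_mem_adj_pow {O : Subgroup G} :
    ∀ (n : ℕ) (σ : G), σ ∈ (Adj O) ^ n → σ⁻¹ ∈ (Adj O) ^ n := by
  intro n
  induction n with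
  | zero =>
    intro σ hσ
    rw [pow_zero, Set.mem_one] at hσ
    rw [hσ, inv_one, pow_zero]
    exact Set.mem_one.mpr rfl
  | succ n ih =>
    intro σ hσ
    rw [pow_succ, Set.mem_mul] at hσ
    obtain ⟨τ, hτ, z, hz, rfl⟩ := hσ
    rw [mul_inv_rev, pow_succ']
    exact Set.mul_mem_mul (inv_mem_adj hz) (ih τ hτ)

/-- the hypotheses of the critical pair argument: `O` is a Sylow `p`-subgroup of `C(Y)` (in the
form used), `N(O) ≤ N(Y)`, and conjugates of `Y` normalizing each other commute -/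
structure Hyp (p : ℕ) (Y O : Subgroup G) : Prop where
  le : Y ≤ O
  syl : ∀ T : Subgroup G, IsPGroup p T → O ≤ T → T ⊓ Subgroup.centralizer (Y : Set G) ≤ O
  pg : IsPGroup p O
  nor : Subgroup.normalizer (O : Set G) ≤ Subgroup.normalizer (Y : Set G)
  asym : ∀ g : G,
    Y ≤ Subgroup.normalizer ((Y.map (MulAut.conj g).toMonoidHom : Subgroup G) : Set G) →
    Y.map (MulAut.conj g).toMonoidHom ≤ Subgroup.normalizer (Y : Set G) →
    Y.map (MulAut.conj g).toMonoidHom ≤ Subgroup.centralizer (Y : Set G)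

/-- the critical pair argument: along any path of conjugates of `O`, consecutive ones normalizing
each other, the conjugate of `Y` at the end lies in `O` -/
theorem path {p : ℕ} {Y O : Subgroup G} (h : Hyp p Y O) :
    ∀ (n : ℕ) (σ : G), σ ∈ (Adj O) ^ n → Y.map (MulAut.conj σ).toMonoidHom ≤ O := by
  intro n
  induction n with
  | zero =>
    intro σ hσ
    rw [pow_zero, Set.mem_one] at hσ
    rw [hσ, map_conj_one]
    exact h.le
  | succ n ih =>
    intro σ hσ
    have hσ' := hσ
    rw [pow_succ, Set.mem_mul] at hσ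
    rw [pow_succ', Set.mem_mul] at hσ'
    obtain ⟨τ, hτ, z, hz, rfl⟩ := hσ
    obtain ⟨x, hx, τ', hτ', e⟩ := hσ'
    have hτi : τ⁻¹ ∈ (Adj O) ^ n := inv_mem_adj_pow n τ hτ
    have h1 : Y ≤ O.map (MulAut.conj τ).toMonoidHom := by
      have h0 := ih τ⁻¹ hτi
      intro y hy
      rw [mem_map_conj]
      apply h0
      rw [mem_map_conj]
      have e : τ⁻¹⁻¹ * (τ⁻¹ * y * τ) * τ⁻¹ = y := by group
      rw [e]
      exact hy
    have h2 : Y.map (MulAut.conj τ').toMonoidHom ≤ O := ih τ' hτ'
    have hA : Y ≤ Subgroup.normalizer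
        ((Y.map (MulAut.conj (τ * z)).toMonoidHom : Subgroup G) : Set G) := by
      have a1 := map_conj_le_normalizer_map_conj hz.2 τ
      rw [map_conj_map_conj] at a1
      have a2 : Subgroup.normalizer ((O.map (MulAut.conj (τ * z)).toMonoidHom : Subgroup G) : Set G)
          ≤ Subgroup.normalizer ((Y.map (MulAut.conj (τ * z)).toMonoidHom : Subgroup G) : Set G) := by
        intro w hw
        rw [mem_normalizer_map_conj] at hw ⊢
        exact h.nor hw
      exact h1.trans (a1.trans a2)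
    have hB' : Y.map (MulAut.conj (τ * z)).toMonoidHom ≤ O.map (MulAut.conj x).toMonoidHom := by
      rw [← e, ← map_conj_map_conj]
      exact Subgroup.map_mono h2
    have hB : Y.map (MulAut.conj (τ * z)).toMonoidHom ≤ Subgroup.normalizer (Y : Set G) :=
      hB'.trans (hx.1.trans h.nor)
    have hC := h.asym (τ * z) hA hB
    have hT : IsPGroup p ↥(O ⊔ O.map (MulAut.conj x).toMonoidHom) :=
      IsPGroup.to_sup_of_normal_left' h.pg (h.pg.map _) hx.1
    exact (le_inf (hB'.trans le_sup_right) hC).trans (h.syl _ hT le_sup_left)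

/-- a subgroup of `O` containing `Y` that is normalized by every element `g` for which `O` and
`gOg⁻¹` normalize each other -/
theorem exists_normalized [Finite G] {p : ℕ} {Y O : Subgroup G} (h : Hyp p Y O) :
    ∃ W : Subgroup G, Y ≤ W ∧ W ≤ O ∧ ∀ g ∈ Adj O, g ∈ Subgroup.normalizer (W : Set G) := by
  refine ⟨⨆ σ : {σ : G // ∃ n : ℕ, σ ∈ (Adj O) ^ n},
    Y.map (MulAut.conj (σ : G)).toMonoidHom, ?_, ?_, ?_⟩
  · have h0 : Y.map (MulAut.conj (1 : G)).toMonoidHom ≤ _ :=
      le_iSup (fun σ : {σ : G // ∃ n : ℕ, σ ∈ (Adj O) ^ n} =>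
        Y.map (MulAut.conj (σ : G)).toMonoidHom)
        ⟨1, 0, by rw [pow_zero]; exact Set.mem_one.mpr rfl⟩
    rwa [map_conj_one] at h0
  · apply iSup_le
    rintro ⟨σ, n, hσ⟩
    exact path h n σ hσ
  · intro g hg
    apply mem_normalizer_of_map_conj_le
    rw [Subgroup.map_iSup]
    apply iSup_le
    rintro ⟨σ, n, hσ⟩
    rw [map_conj_map_conj]
    exact le_iSup (fun σ : {σ : G // ∃ n : ℕ, σ ∈ (Adj O) ^ n} =>
      Y.map (MulAut.conj (σ : G)).toMonoidHom)
      ⟨g * σ, n + 1, by rw [pow_succ']; exact Set.mul_mem_mul hg hσ⟩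

end Cfsg.Agent.Lib.Helper47.Asym
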