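import Mathlib
import Cfsg.Prelude.Def_LocalEven
import Cfsg.Prelude.Def_LocalStructure
import Cfsg.Agent.Lib.Helper47.PRes
import Cfsg.Agent.Lib.Helper47.Syl

set_option autoImplicit false

namespace Cfsg.Agent.Lib.Helper47.PClosed

open Cfsg
open Cfsg.Agent.Lib.Helper47.Basic Cfsg.Agent.Lib.Helper47.Syl Cfsg.Agent.Lib.Helper47.PRes

variable {G : Type*} [Group G]

/-- `p`-closedness is invariant under isomorphism -/
theorem isPClosed_of_mulEquiv {p : ℕ} {A B : Type*} [Group A] [Group B] (e : A ≃* B)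
    (h : IsPClosed p A) : IsPClosed p B := by
  intro P
  have h1 : (P : Subgroup B) ≤ e.toMonoidHom.range := by
    rw [MonoidHom.range_eq_top.mpr e.surjective]; exact le_top
  have h2 : ((P : Subgroup B).comap e.toMonoidHom).Normal :=
    h (P.comapOfInjective e.toMonoidHom e.injective h1)
  have h3 := h2.map e.toMonoidHom e.surjective
  rwa [Subgroup.map_comap_eq_self_of_surjective e.surjective] at h3

/-- ambient form of `p`-irreducibility: `O^p(H)` lies in every normal subgroup of `H` that is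
not `p`-closed -/
theorem pResOf_le_of_isPIrreducible {p : ℕ} {H N : Subgroup G} (hH : IsPIrreducible p ↥H)
    (hNH : N ≤ H) (hn : H ≤ Subgroup.normalizer (N : Set G)) (hN : ¬ IsPClosed p ↥N) :
    pResOf p H ≤ N := by
  have h1 : (N.subgroupOf H).Normal := Subgroup.normal_subgroupOf_of_le_normalizer hn
  have h2 : ¬ IsPClosed p ↥(N.subgroupOf H) := fun h =>
    hN (isPClosed_of_mulEquiv (Subgroup.subgroupOfEquivOfLe hNH) h)
  have h3 := hH.2 _ h1 h2
  rintro x ⟨y, hy, rfl⟩
  exact Subgroup.mem_subgroupOf.mp (h3 hy)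

/-- a Sylow `p`-subgroup of a `p`-closed normal subgroup of `H` lies in `O_p(H)` -/
theorem le_pCoreOf_of_isPClosed [Finite G] {p : ℕ} [Fact p.Prime] {H N P : Subgroup G}
    (hNH : N ≤ H) (hn : H ≤ Subgroup.normalizer (N : Set G)) (hcl : IsPClosed p ↥N)
    (hP : IsSyl p P N) : P ≤ pCoreOf p H := by
  have hNP : N ≤ Subgroup.normalizer (P : Set G) := (isPClosed_iff N).mp hcl P hP
  apply le_pCoreOf (hP.1.trans hNH) ?_ hP.2.1
  intro g hg
  apply mem_normalizer_of_map_conj_le
  apply hP.le_of_normal hNP (hP.2.1.map _)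
  have h1 : P.map (MulAut.conj g).toMonoidHom ≤ N.map (MulAut.conj g).toMonoidHom :=
    Subgroup.map_mono hP.1
  rwa [map_conj_eq_of_mem_normalizer (hn hg)] at h1

/-- a `p`-subgroup of a `p`-closed normal subgroup of `H` lies in `O_p(H)` -/
theorem le_pCoreOf_of_isPGroup_of_isPClosed [Finite G] {p : ℕ} [Fact p.Prime] {H N Q : Subgroup G}
    (hNH : N ≤ H) (hn : H ≤ Subgroup.normalizer (N : Set G)) (hcl : IsPClosed p ↥N)
    (hQ : IsPGroup p Q) (hQN : Q ≤ N) : Q ≤ pCoreOf p H := by
  obtain ⟨P, hP, hQP⟩ := exists_isSyl_ge hQ hQN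
  exact hQP.trans (le_pCoreOf_of_isPClosed hNH hn hcl hP)

/-- `H` itself is `p`-closed iff some (every) Sylow `p`-subgroup is normalized by `H`;
here: a `p`-irreducible `H` has `O^p(H) ≠ ` anything inside a `p`-closed normal subgroup
that would force `H` to be `p`-closed -/
theorem not_isPClosed_of_isPIrreducible {p : ℕ} {H : Subgroup G} (hH : IsPIrreducible p ↥H) :
    ¬ IsPClosed p ↥H := hH.1

end Cfsg.Agent.Lib.Helper47.PClosed
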