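import Mathlib
import Cfsg.Prelude.Def_LocalEven
import Cfsg.Prelude.Def_LocalStructure
import Cfsg.Agent.Lib.Helper47.PRed

set_option autoImplicit false

namespace Cfsg.Agent.Lib.Helper47.PRed2

open Cfsg
open Cfsg.Agent.Lib.Helper47.Basic Cfsg.Agent.Lib.Helper47.Syl Cfsg.Agent.Lib.Helper47.PRes
open Cfsg.Agent.Lib.Helper47.Frat Cfsg.Agent.Lib.Helper47.Cent Cfsg.Agent.Lib.Helper47.PRed

variable {G : Type*} [Group G]

/-- the join of the `L`-conjugates of `X` -/
def nclOf (L X : Subgroup G) : Subgroup G := ⨆ g : L, X.map (MulAut.conj (g : G)).toMonoidHom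

theorem le_nclOf (L X : Subgroup G) : X ≤ nclOf L X := by
  have h : X.map (MulAut.conj ((1 : L) : G)).toMonoidHom ≤ nclOf L X :=
    le_iSup (fun g : L => X.map (MulAut.conj (g : G)).toMonoidHom) 1
  rwa [OneMemClass.coe_one, map_conj_one] at h

theorem map_conj_le_nclOf {L X : Subgroup G} {g : G} (hg : g ∈ L) :
    X.map (MulAut.conj g).toMonoidHom ≤ nclOf L X :=
  le_iSup (fun g : L => X.map (MulAut.conj (g : G)).toMonoidHom) ⟨g, hg⟩

theorem nclOf_le {L X N : Subgroup G} (hX : X ≤ N) (hL : L ≤ Subgroup.normalizer (N : Set G)) :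
    nclOf L X ≤ N := by
  apply iSup_le
  intro g
  have := Subgroup.map_mono (f := (MulAut.conj (g : G)).toMonoidHom) hX
  rwa [map_conj_eq_of_mem_normalizer (hL g.2)] at this

theorem le_normalizer_nclOf (L X : Subgroup G) :
    L ≤ Subgroup.normalizer (nclOf L X : Set G) := by
  apply le_normalizer_of_conj_mem
  intro h hh y hy
  have h1 : (nclOf L X).map (MulAut.conj h).toMonoidHom ≤ nclOf L X := by
    unfold nclOf
    rw [Subgroup.map_iSup]
    apply iSup_le
    intro g
    rw [map_conj_map_conj]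
    exact map_conj_le_nclOf (L.mul_mem hh g.2)
  exact h1 (conj_mem_map_conj hy)

/-- S2802 in ambient form: the `L`-closure of a `p`-reduced normal subgroup of an overgroup `R`
of a Sylow `p`-subgroup is `p`-reduced in `L`, for `L` of characteristic `p`. -/
theorem IsRed.nclOf [Finite G] {p : ℕ} [Fact p.Prime] {T R L X : Subgroup G}
    (hchar : L ⊓ Subgroup.centralizer (pCoreOf p L : Set G) ≤ pCoreOf p L)
    (hT : IsSyl p T L) (hTR : T ≤ R) (hRL : R ≤ L) (hX : IsRed p X R) :
    IsRed p (nclOf L X) L := by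
  have hOT : pCoreOf p L ≤ T := hT.pCoreOf_le
  have hOR : pCoreOf p L ≤ R := hOT.trans hTR
  have hOX : pCoreOf p L ≤ Subgroup.centralizer (X : Set G) :=
    hX.le_centralizer_of_isPGroup hOR (hRL.trans (le_normalizer_pCoreOf p L)) (pCoreOf_isPGroup p L)
  have hXO : X ≤ omegaOne p (pCoreOf p L ⊓ Subgroup.centralizer (pCoreOf p L : Set G)) := by
    intro x hx
    have h1 : x ∈ Subgroup.centralizer (pCoreOf p L : Set G) := le_centralizer_comm hOX hx
    exact mem_omegaOne_center_of _ (hchar (Subgroup.mem_inf.mpr ⟨hRL (hX.1 hx), h1⟩)) h1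
      (hX.pow_eq_one hx)
  have hLW : L ≤ Subgroup.normalizer
      ((omegaOne p (pCoreOf p L ⊓ Subgroup.centralizer (pCoreOf p L : Set G)) : Subgroup G) :
        Set G) := by
    apply le_normalizer_of_conj_mem
    intro g hg y hy
    obtain ⟨h1, h2, h3⟩ := mem_omegaOne_center _ hy
    have hgN := le_normalizer_pCoreOf p L hg
    refine mem_omegaOne_center_of _ (conj_mem_of_mem_normalizer hgN h1) ?_ ?_
    · exact conj_mem_of_mem_normalizer (normalizer_le_normalizer_centralizer _ hgN) h2
    · rw [conj_pow, h3]; simp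
  have hVW : PRed2.nclOf L X ≤
      omegaOne p (pCoreOf p L ⊓ Subgroup.centralizer (pCoreOf p L : Set G)) :=
    nclOf_le hXO hLW
  have hVL : PRed2.nclOf L X ≤ L := by
    intro v hv
    exact pCoreOf_le p L (mem_omegaOne_center _ (hVW hv)).1
  refine ⟨hVL, le_normalizer_nclOf L X, ?_, ?_, ?_⟩
  · intro a ha b hb
    have h1 := (mem_omegaOne_center _ (hVW ha)).1
    have h2 := (mem_omegaOne_center _ (hVW hb)).2.1
    rw [Subgroup.mem_centralizer_iff] at h2
    exact h2 a h1
  · intro a ha
    exact (mem_omegaOne_center _ (hVW ha)).2.2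
  · intro D hDL hLD hpow
    have hLV := le_normalizer_nclOf L X
    have hLC : L ≤ Subgroup.normalizer
        ((L ⊓ Subgroup.centralizer (PRed2.nclOf L X : Set G) : Subgroup G) : Set G) :=
      le_normalizer_inf Subgroup.le_normalizer (le_normalizer_centralizer hLV)
    have hD1L : D ⊔ (L ⊓ Subgroup.centralizer (PRed2.nclOf L X : Set G)) ≤ L :=
      sup_le hDL inf_le_left
    have hLD1 := le_normalizer_sup hLD hLC
    have hpow1 : ∀ x ∈ D ⊔ (L ⊓ Subgroup.centralizer (PRed2.nclOf L X : Set G)),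
        ∃ k : ℕ, x ^ p ^ k ∈ L ⊓ Subgroup.centralizer (PRed2.nclOf L X : Set G) := by
      intro x hx
      obtain ⟨d, hd, c, hc, rfl⟩ := exists_mul_of_mem_sup_left (hDL.trans hLC) hx
      obtain ⟨k, hk⟩ := hpow d hd
      exact ⟨k, mul_pow_mem (hLC (hDL hd)) hc
        (Subgroup.mem_inf.mpr ⟨L.pow_mem (hDL hd) _, hk⟩)⟩
    have hS1 := hT.inf_normal hD1L hLD1
    have hCX : Subgroup.centralizer (PRed2.nclOf L X : Set G) ≤ Subgroup.centralizer (X : Set G) :=
      Subgroup.centralizer_le (by exact_mod_cast le_nclOf L X)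
    have hE : R ⊓ (D ⊔ (L ⊓ Subgroup.centralizer (PRed2.nclOf L X : Set G))) ≤
        Subgroup.centralizer (X : Set G) := by
      apply hX.le_centralizer inf_le_left
        (le_normalizer_inf Subgroup.le_normalizer (hRL.trans hLD1))
      intro e he
      obtain ⟨k, hk⟩ := hpow1 e (Subgroup.mem_inf.mp he).2
      exact ⟨k, hCX (Subgroup.mem_inf.mp hk).2⟩
    have hD1X : D ⊔ (L ⊓ Subgroup.centralizer (PRed2.nclOf L X : Set G)) ≤
        Subgroup.centralizer (X : Set G) := by
      intro x hx
      obtain ⟨t, ht, r, hr, rfl⟩ := exists_mul_pResOf hS1 hx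
      have hr' : r ∈ L ⊓ Subgroup.centralizer (PRed2.nclOf L X : Set G) :=
        pResOf_le_of_pow_mem hpow1 hr
      have ht' := Subgroup.mem_inf.mp ht
      exact Subgroup.mul_mem _ (hE (Subgroup.mem_inf.mpr ⟨hTR ht'.1, ht'.2⟩))
        (hCX (Subgroup.mem_inf.mp hr').2)
    have hD1V : D ⊔ (L ⊓ Subgroup.centralizer (PRed2.nclOf L X : Set G)) ≤
        Subgroup.centralizer (PRed2.nclOf L X : Set G) := by
      apply le_centralizer_comm
      apply iSup_le
      intro g
      apply le_centralizer_comm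
      intro x hx
      rw [mem_centralizer_map_conj]
      exact hD1X (conj_mem_of_mem_normalizer' (hLD1 g.2) hx)
    exact le_sup_left.trans hD1V

/-- `Ω₁(Z(T))` is a `p`-reduced normal subgroup of `T` -/
theorem isRed_omegaOne_center (p : ℕ) (T : Subgroup G) :
    IsRed p (omegaOne p (T ⊓ Subgroup.centralizer (T : Set G))) T := by
  have hTC : T ≤ Subgroup.centralizer
      ((omegaOne p (T ⊓ Subgroup.centralizer (T : Set G)) : Subgroup G) : Set G) := by
    apply le_centralizer_comm
    intro z hz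
    exact (mem_omegaOne_center _ hz).2.1
  refine ⟨fun z hz => (mem_omegaOne_center _ hz).1, ?_, ?_, ?_, ?_⟩
  · intro t ht
    have h1 := hTC ht
    rw [Subgroup.mem_centralizer_iff] at h1
    rw [Subgroup.mem_normalizer_iff]
    intro z
    constructor
    · intro hz
      have : t * z * t⁻¹ = z := by rw [← h1 z hz]; group
      rwa [this]
    · intro hz
      have h2 := h1 _ hz
      have : z = t * z * t⁻¹ := by
        have h3 : t * z * t⁻¹ * t = t * (t * z * t⁻¹) := h2
        have h4 : t * z = t * (t * z * t⁻¹) := by rw [← h3]; group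
        exact mul_left_cancel h4
      rwa [this]
  · intro a ha b hb
    have h2 := (mem_omegaOne_center _ hb).2.1
    rw [Subgroup.mem_centralizer_iff] at h2
    exact h2 a (mem_omegaOne_center _ ha).1
  · intro a ha
    exact (mem_omegaOne_center _ ha).2.2
  · intro D hDT _ _
    exact hDT.trans hTC

/-- in characteristic `p`, `Ω₁(Z(T))` lies in `Y_L` for a Sylow `p`-subgroup `T` of `L` -/
theorem omegaOne_center_le_largest [Finite G] {p : ℕ} [Fact p.Prime] {T L : Subgroup G}
    (hchar : L ⊓ Subgroup.centralizer (pCoreOf p L : Set G) ≤ pCoreOf p L)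
    (hT : IsSyl p T L) :
    omegaOne p (T ⊓ Subgroup.centralizer (T : Set G)) ≤ largestPReducedOf p L :=
  (le_nclOf L _).trans
    (IsRed.nclOf hchar hT le_rfl hT.1 (isRed_omegaOne_center p T)).le_largest

/-- in characteristic `p`, `Z_L ≤ Y_L` -/
theorem sylowCenterClosure_le_largest [Finite G] {p : ℕ} [Fact p.Prime] {L : Subgroup G}
    (hchar : L ⊓ Subgroup.centralizer (pCoreOf p L : Set G) ≤ pCoreOf p L) :
    sylowCenterClosure p L ≤ largestPReducedOf p L := by
  unfold sylowCenterClosure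
  apply iSup_le
  intro S
  exact omegaOne_center_le_largest hchar (isSyl_of_sylow S)

/-- `Y_L ≤ Ω₁(Z(O_p(L)))` in characteristic `p` -/
theorem largest_le_omegaOne_center {p : ℕ} {L : Subgroup G}
    (hchar : L ⊓ Subgroup.centralizer (pCoreOf p L : Set G) ≤ pCoreOf p L) :
    largestPReducedOf p L ≤
      omegaOne p (pCoreOf p L ⊓ Subgroup.centralizer (pCoreOf p L : Set G)) :=
  (isRed_largest p L).le_omegaOne_center hchar

/-- `O_p(L)` centralizes `Y_L` -/
theorem pCoreOf_le_centralizer_largest (p : ℕ) (L : Subgroup G) :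
    pCoreOf p L ≤ Subgroup.centralizer (largestPReducedOf p L : Set G) :=
  (isRed_largest p L).pCoreOf_le_centralizer

/-- `L` normalizes `C(Y_L)` -/
theorem le_normalizer_centralizer_largest (p : ℕ) (L : Subgroup G) :
    L ≤ Subgroup.normalizer
      ((Subgroup.centralizer (largestPReducedOf p L : Set G) : Subgroup G) : Set G) :=
  le_normalizer_centralizer (isRed_largest p L).2.1

/-- `L C(Y_L)` normalizes `C(Y_L)` -/
theorem sup_le_normalizer_centralizer {L Y : Subgroup G}
    (hY : L ≤ Subgroup.normalizer (Y : Set G)) :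
    L ⊔ Subgroup.centralizer (Y : Set G) ≤
      Subgroup.normalizer ((Subgroup.centralizer (Y : Set G) : Subgroup G) : Set G) :=
  sup_le (le_normalizer_centralizer hY) Subgroup.le_normalizer

/-- `L C(Y)` normalizes `Y` when `L` does -/
theorem sup_centralizer_le_normalizer {L Y : Subgroup G}
    (hY : L ≤ Subgroup.normalizer (Y : Set G)) :
    L ⊔ Subgroup.centralizer (Y : Set G) ≤ Subgroup.normalizer (Y : Set G) :=
  sup_le hY (Subgroup.centralizer_le_normalizer _)

/-- if `T` is a Sylow `p`-subgroup of `L C` with `L` normalizing `C`, then `T ∩ C` is a Sylow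
`p`-subgroup of `C` -/
theorem isSyl_inf_centralizer [Finite G] {p : ℕ} [Fact p.Prime] {T L Y : Subgroup G}
    (hT : IsSyl p T ⊤) (hTL : T ≤ L) (hY : L ≤ Subgroup.normalizer (Y : Set G)) :
    IsSyl p (T ⊓ Subgroup.centralizer (Y : Set G)) (Subgroup.centralizer (Y : Set G)) :=
  (hT.of_le (hTL.trans le_sup_left) le_top).inf_normal le_sup_right
    (sup_le_normalizer_centralizer hY)

end Cfsg.Agent.Lib.Helper47.PRed2
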