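import Mathlib

set_option autoImplicit false

namespace Cfsg.Agent.Lib.Helper47.Quot

variable {G : Type*} [Group G]

theorem comap_map_mk' {N M : Subgroup G} [N.Normal] (hNM : N ≤ M) :
    (M.map (QuotientGroup.mk' N)).comap (QuotientGroup.mk' N) = M := by
  rw [Subgroup.comap_map_eq, QuotientGroup.ker_mk', sup_eq_left.mpr hNM]

/-- the image of a maximal subgroup containing `N` is maximal in `G/N` -/
theorem isCoatom_map_mk' {N M : Subgroup G} [N.Normal] (hM : IsCoatom M) (hNM : N ≤ M) :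
    IsCoatom (M.map (QuotientGroup.mk' N)) := by
  have hsurj := QuotientGroup.mk'_surjective N
  refine ⟨fun h => hM.1 ?_, fun K hK => ?_⟩
  · rw [← comap_map_mk' hNM, h, Subgroup.comap_top]
  · have h1 := (Subgroup.comap_lt_comap_of_surjective hsurj).mpr hK
    rw [comap_map_mk' hNM] at h1
    have h2 := hM.2 _ h1
    rw [← Subgroup.map_comap_eq_self_of_surjective hsurj K, h2,
      Subgroup.map_top_of_surjective _ hsurj]

/-- if `G = N T` with `T` a `p`-group then `G/N` is a `p`-group -/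
theorem isPGroup_quotient_of_sup_eq_top {p : ℕ} {N T : Subgroup G} [hN : N.Normal]
    (hT : IsPGroup p T) (h : N ⊔ T = ⊤) : IsPGroup p (G ⧸ N) := by
  intro q
  induction q using QuotientGroup.induction_on with
  | H x =>
    have hx : x ∈ N ⊔ T := by rw [h]; trivial
    obtain ⟨n, hn, t, ht, rfl⟩ := Subgroup.mem_sup_of_normal_left.mp hx
    obtain ⟨k, hk⟩ := hT ⟨t, ht⟩
    refine ⟨k, ?_⟩
    have hk' : t ^ p ^ k = 1 := by
      have := congrArg Subtype.val hk
      simpa using this
    rw [QuotientGroup.mk_mul, (QuotientGroup.eq_one_iff n).mpr hn, one_mul, ← QuotientGroup.mk_pow,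
      hk']
    rfl

/-- if `G/N` is a `p`-group then every element has a `p`-power in `N` -/
theorem exists_pow_mem_of_isPGroup_quotient {p : ℕ} {N : Subgroup G} [N.Normal]
    (h : IsPGroup p (G ⧸ N)) (x : G) : ∃ k : ℕ, x ^ p ^ k ∈ N := by
  obtain ⟨k, hk⟩ := h (x : G ⧸ N)
  refine ⟨k, ?_⟩
  rw [← QuotientGroup.mk_pow, QuotientGroup.eq_one_iff] at hk
  exact hk

end Cfsg.Agent.Lib.Helper47.Quot
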