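import Mathlib
import Cfsg.Prelude.Def_LocalStructure
import Cfsg.Agent.Lib.Helper47.Basic
import Cfsg.Agent.Lib.Helper47.Syl
import Cfsg.Agent.Lib.Helper47.Cent
import Cfsg.Agent.Lib.Helper47.PRed

set_option autoImplicit false

namespace Cfsg.Agent.Lib.Helper47.YMin

open Cfsg
open Cfsg.Agent.Lib.Helper47.Syl Cfsg.Agent.Lib.Helper47.Cent Cfsg.Agent.Lib.Helper47.PRed

variable {G : Type*} [Group G]

/-- index of a supplement of a normal subgroup -/
theorem index_eq_relIndex_of_sup_eq_top [Finite G] {D M : Subgroup G} [D.Normal]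
    (h : M ⊔ D = ⊤) : M.index = (D ⊓ M).relIndex D := by
  have h1 : D.relIndex (M ⊔ D) = D.relIndex M := Subgroup.relIndex_sup_right _ _
  rw [h, Subgroup.relIndex_top_right] at h1
  have h2 : (D ⊓ M).relIndex M = D.relIndex M := Subgroup.inf_relIndex_right _ _
  have hc3 : Nat.card (D ⊓ M : Subgroup G) * (D ⊓ M).relIndex M = Nat.card M := by
    rw [← Subgroup.relIndex_bot_left, ← Subgroup.relIndex_bot_left]
    exact Subgroup.relIndex_mul_relIndex _ _ _ bot_le inf_le_right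
  have hc4 : Nat.card (D ⊓ M : Subgroup G) * (D ⊓ M).relIndex D = Nat.card D := by
    rw [← Subgroup.relIndex_bot_left, ← Subgroup.relIndex_bot_left]
    exact Subgroup.relIndex_mul_relIndex _ _ _ bot_le inf_le_left
  have h5 := Subgroup.card_mul_index M
  have h6 := Subgroup.card_mul_index D
  have hpos : 0 < Nat.card M := Nat.card_pos
  have key : Nat.card M * (D ⊓ M).relIndex D = Nat.card G := by
    calc Nat.card M * (D ⊓ M).relIndex D
        = (Nat.card (D ⊓ M : Subgroup G) * (D ⊓ M).relIndex M) * (D ⊓ M).relIndex D := by rw [hc3]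
      _ = (Nat.card (D ⊓ M : Subgroup G) * (D ⊓ M).relIndex D) * (D ⊓ M).relIndex M := by ring
      _ = Nat.card D * D.index := by rw [hc4, h2, ← h1]
      _ = Nat.card G := h6
  exact Nat.eq_of_mul_eq_mul_left hpos (h5.trans key.symm)

/-- a `p`-subgroup is conjugate into any subgroup of index prime to `p` -/
theorem exists_conj_mem_of_not_dvd_index [Finite G] {p : ℕ} [Fact p.Prime] {Y M : Subgroup G}
    (hY : IsPGroup p Y) (h : ¬ p ∣ M.index) : ∃ g : G, ∀ y ∈ Y, g⁻¹ * y * g ∈ M := by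
  obtain ⟨q, hq⟩ := hY.nonempty_fixed_point_of_prime_not_dvd_card (G ⧸ M) h
  obtain ⟨g, rfl⟩ := QuotientGroup.mk_surjective q
  refine ⟨g, fun y hy => ?_⟩
  have h1 := hq ⟨y, hy⟩
  have h2 : ((y * g : G) : G ⧸ M) = (g : G ⧸ M) := h1
  rw [QuotientGroup.eq] at h2
  have h3 : g⁻¹ * y * g = ((y * g)⁻¹ * g)⁻¹ := by group
  rw [h3]
  exact M.inv_mem h2

/-- in a `Y`-minimal group every proper subgroup containing `Y` lies in the unique maximal
subgroup containing `Y` -/
theorem le_of_ne_top_of_minimalOver [Finite G] {Y L₀ X : Subgroup G} (hmin : IsMinimalOver Y)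
    (hL₀ : IsCoatom L₀) (hY : Y ≤ L₀) (hYX : Y ≤ X) (hX : X ≠ ⊤) : X ≤ L₀ := by
  obtain ⟨M, hM, hXM⟩ := exists_coatom_ge hX
  obtain ⟨M', _, huniq⟩ := hmin.2
  have h1 : M = M' := huniq M ⟨hM, hYX.trans hXM⟩
  have h2 : L₀ = M' := huniq L₀ ⟨hL₀, hY⟩
  rw [h2, ← h1]
  exact hXM

/-- `O_p(L)` lies in the maximal subgroup `L₀` of the `Y`-minimal group `L`, `Y` a `p`-group -/
theorem pCore_le_coatom_of_minimalOver [Finite G] {p : ℕ} [Fact p.Prime] {Y L₀ : Subgroup G}
    (hmin : IsMinimalOver Y) (hL₀ : IsCoatom L₀) (hY : Y ≤ L₀) (hYp : IsPGroup p Y) :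
    pCore p G ≤ L₀ := by
  by_cases h : pCore p G ⊔ Y = ⊤
  · exfalso
    have hsup : IsPGroup p (pCore p G ⊔ Y : Subgroup G) :=
      (Basic.pCore_isPGroup p G).to_sup_of_normal_left hYp
    have hG : IsPGroup p G := by
      intro g
      obtain ⟨k, hk⟩ := hsup ⟨g, by rw [h]; trivial⟩
      exact ⟨k, by simpa using congrArg Subtype.val hk⟩
    have hnil : Group.IsNilpotent G := hG.isNilpotent
    have hn : L₀.Normal :=
      Subgroup.NormalizerCondition.normal_of_coatom L₀ Group.normalizerCondition_of_isNilpotent hL₀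
    have h1 : Subgroup.normalClosure (Y : Set G) ≤ L₀ := Subgroup.normalClosure_le_normal hY
    rw [hmin.1] at h1
    exact hL₀.1 (top_le_iff.mp h1)
  · exact le_sup_left.trans (le_of_ne_top_of_minimalOver hmin hL₀ hY le_sup_right h)

/-- `O_p(L)` is a Sylow `p`-subgroup of the core `D` of `L₀` -/
theorem isSyl_pCore_normalCore [Finite G] {p : ℕ} [Fact p.Prime] {Y L₀ T : Subgroup G}
    (hmin : IsMinimalOver Y) (hL₀ : IsCoatom L₀) (hT : IsSyl p T L₀) (hYT : Y ≤ T) :
    IsSyl p (pCore p G) L₀.normalCore := by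
  have hY : Y ≤ L₀ := hYT.trans hT.1
  have hYp : IsPGroup p Y := hT.2.1.to_le hYT
  have hDL : L₀.normalCore ≤ L₀ := Subgroup.normalCore_le L₀
  have hDtop : Subgroup.normalizer ((L₀.normalCore : Subgroup G) : Set G) = ⊤ :=
    Subgroup.normalizer_eq_top_iff.mpr inferInstance
  have hLD : L₀ ≤ Subgroup.normalizer ((L₀.normalCore : Subgroup G) : Set G) := by
    rw [hDtop]; exact le_top
  have hTD := hT.inf_normal hDL hLD
  have hTN : T ≤ Subgroup.normalizer ((T ⊓ L₀.normalCore : Subgroup G) : Set G) :=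
    le_normalizer_inf Subgroup.le_normalizer (hT.1.trans hLD)
  have hNtop : Subgroup.normalizer ((T ⊓ L₀.normalCore : Subgroup G) : Set G) = ⊤ := by
    by_contra hne
    have h1 := le_of_ne_top_of_minimalOver hmin hL₀ hY (hYT.trans hTN) hne
    apply hL₀.1
    rw [eq_top_iff]
    intro g _
    obtain ⟨n, hn, x, hx, rfl⟩ := hTD.frattini le_top (by rw [hDtop]) (Subgroup.mem_top g)
    exact L₀.mul_mem (hDL hn) (h1 (Subgroup.mem_inf.mp hx).2)
  have hnorm : (T ⊓ L₀.normalCore).Normal := Subgroup.normalizer_eq_top_iff.mp hNtop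
  have h2 : T ⊓ L₀.normalCore ≤ pCore p G := Basic.le_pCore hnorm hTD.2.1
  have h3 : pCore p G ≤ L₀.normalCore :=
    Subgroup.normal_le_normalCore.mpr (pCore_le_coatom_of_minimalOver hmin hL₀ hY hYp)
  have h4 := hTD.2.2 (pCore p G) (Basic.pCore_isPGroup p G) h2 h3
  rw [h4]
  exact hTD

/-- the core of `L₀` lies in every maximal subgroup containing `O_p(L)` -/
theorem normalCore_le_coatom [Finite G] {p : ℕ} [Fact p.Prime] {Y L₀ T M : Subgroup G}
    (hmin : IsMinimalOver Y) (hL₀ : IsCoatom L₀) (hT : IsSyl p T L₀) (hYT : Y ≤ T)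
    (hM : IsCoatom M) (hRM : pCore p G ≤ M) : L₀.normalCore ≤ M := by
  have hY : Y ≤ L₀ := hYT.trans hT.1
  have hYp : IsPGroup p Y := hT.2.1.to_le hYT
  have hSyl := isSyl_pCore_normalCore hmin hL₀ hT hYT
  by_contra hDM
  have hsup : M ⊔ L₀.normalCore = ⊤ := by
    apply hM.2
    apply lt_of_le_of_ne le_sup_left
    intro h
    exact hDM (by rw [h]; exact le_sup_right)
  have hidx := index_eq_relIndex_of_sup_eq_top hsup
  have hnd : ¬ p ∣ M.index := by
    rw [hidx]
    obtain ⟨P, hP, _⟩ := hSyl.exists_sylow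
    have h1 : ¬ p ∣ (P : Subgroup L₀.normalCore).index := P.not_dvd_index
    rw [hP] at h1
    have h2 : (pCore p G).relIndex (L₀.normalCore ⊓ M) * (L₀.normalCore ⊓ M).relIndex L₀.normalCore
        = (pCore p G).relIndex L₀.normalCore :=
      Subgroup.relIndex_mul_relIndex _ _ _ (le_inf hSyl.1 hRM) inf_le_left
    intro hdvd
    apply h1
    show p ∣ (pCore p G).relIndex L₀.normalCore
    rw [← h2]
    exact Dvd.dvd.mul_left hdvd _
  obtain ⟨g, hg⟩ := exists_conj_mem_of_not_dvd_index hYp hnd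
  have hM' : IsCoatom (M.map (MulAut.conj g).toMonoidHom) := isCoatom_map_conj hM g
  have hYM' : Y ≤ M.map (MulAut.conj g).toMonoidHom := fun y hy => mem_map_conj.mpr (hg y hy)
  obtain ⟨M₀, _, huniq⟩ := hmin.2
  have e1 : M.map (MulAut.conj g).toMonoidHom = M₀ := huniq _ ⟨hM', hYM'⟩
  have e2 : L₀ = M₀ := huniq L₀ ⟨hL₀, hY⟩
  apply hDM
  intro d hd
  have hn : (L₀.normalCore).Normal := inferInstance
  have h1 : g * d * g⁻¹ ∈ M.map (MulAut.conj g).toMonoidHom := by
    rw [e1, ← e2]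
    exact Subgroup.normalCore_le L₀ (hn.conj_mem d hd g)
  have h2 := mem_map_conj.mp h1
  have h3 : g⁻¹ * (g * d * g⁻¹) * g = d := by group
  rwa [h3] at h2

end Cfsg.Agent.Lib.Helper47.YMin
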