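import Mathlib
import Cfsg.Prelude.Def_LocalEven
import Cfsg.Prelude.Def_LocalStructure
import Cfsg.Agent.Lib.Helper47.PRed2
import Cfsg.Agent.Lib.Helper47.PClosed
import Cfsg.Agent.Lib.Helper47.YMin
import Cfsg.Agent.Lib.Helper47.Quot
import Cfsg.Agent.Lib.Helper48.StrEmb
import Cfsg.Agent.S2824

set_option autoImplicit false

namespace Cfsg.Agent.Lib.Helper47.FrakM

open Cfsg
open Cfsg.Agent.Lib.Helper47.Basic Cfsg.Agent.Lib.Helper47.Syl Cfsg.Agent.Lib.Helper47.PRes
open Cfsg.Agent.Lib.Helper47.Cent Cfsg.Agent.Lib.Helper47.PRed Cfsg.Agent.Lib.Helper47.PRed2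
open Cfsg.Agent.Lib.Helper47.Frat Cfsg.Agent.Lib.Helper47.YMin

variable {G : Type*} [Group G]

/-- membership in the family of characteristic `p` subgroups, ambient form -/
theorem mem_charP_iff {p : ℕ} {L : Subgroup G} :
    L ∈ charPSubgroups p G ↔
      pCoreOf p L ≠ ⊥ ∧ Subgroup.centralizer (pCoreOf p L : Set G) ≤ pCoreOf p L := by
  constructor
  · rintro ⟨h1, h2⟩
    exact ⟨fun h => h1 ((Subgroup.map_eq_bot_iff_of_injective _ L.subtype_injective).mp h), h2⟩
  · rintro ⟨h1, h2⟩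
    refine ⟨fun h => h1 ?_, h2⟩
    show (pCore p ↥L).map L.subtype = ⊥
    rw [h, Subgroup.map_bot]

/-- characteristic `p` in the type-level form from the ambient form -/
theorem charp_type_of_ambient {p : ℕ} {L : Subgroup G}
    (h : L ⊓ Subgroup.centralizer (pCoreOf p L : Set G) ≤ pCoreOf p L) :
    Subgroup.centralizer (pCore p ↥L : Set ↥L) ≤ pCore p ↥L := by
  intro x hx
  have h1 : (x : G) ∈ Subgroup.centralizer (pCoreOf p L : Set G) :=
    (mem_centralizer_map_subtype _ x).mp hx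
  have h2 := h (Subgroup.mem_inf.mpr ⟨x.2, h1⟩)
  exact (mem_pCoreOf_iff x.2).mp h2

theorem charp_type_of_mem {p : ℕ} {L : Subgroup G} (h : L ∈ charPSubgroups p G) :
    Subgroup.centralizer (pCore p ↥L : Set ↥L) ≤ pCore p ↥L :=
  charp_type_of_ambient (inf_le_right.trans (mem_charP_iff.mp h).2)

theorem charp_ambient_of_mem {p : ℕ} {L : Subgroup G} (h : L ∈ charPSubgroups p G) :
    L ⊓ Subgroup.centralizer (pCoreOf p L : Set G) ≤ pCoreOf p L :=
  inf_le_right.trans (mem_charP_iff.mp h).2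

/-- `O_p(M) ≤ O_p(K)` for `O_p(M) ≤ K ≤ M` -/
theorem pCoreOf_le_pCoreOf {p : ℕ} {K M : Subgroup G} (hOK : pCoreOf p M ≤ K) (hKM : K ≤ M) :
    pCoreOf p M ≤ pCoreOf p K :=
  le_pCoreOf hOK (hKM.trans (le_normalizer_pCoreOf p M)) (pCoreOf_isPGroup p M)

/-- subgroups between `O_p(M)` and `M` stay in the family -/
theorem mem_charP_of_le {p : ℕ} {K M : Subgroup G} (hM : M ∈ charPSubgroups p G)
    (hOK : pCoreOf p M ≤ K) (hKM : K ≤ M) : K ∈ charPSubgroups p G := by
  rw [mem_charP_iff] at hM ⊢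
  have h := pCoreOf_le_pCoreOf hOK hKM
  refine ⟨fun hb => hM.1 (le_bot_iff.mp (hb ▸ h)), ?_⟩
  exact (Subgroup.centralizer_le (by exact_mod_cast h)).trans (hM.2.trans h)

/-- monotonicity of `Y` for subgroups containing a Sylow `p`-subgroup -/
theorem largest_mono [Finite G] {p : ℕ} [Fact p.Prime] {T R X : Subgroup G} (hT : IsSyl p T ⊤)
    (hTR : T ≤ R) (hRX : R ≤ X) (hX : X ∈ charPSubgroups p G) :
    largestPReducedOf p R ≤ largestPReducedOf p X := by
  have hchar := charp_ambient_of_mem hX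
  have hTX : IsSyl p T X := hT.of_le (hTR.trans hRX) le_top
  exact (le_nclOf X _).trans (IsRed.nclOf hchar hTX hTR hRX (isRed_largest p R)).le_largest

/-- `Y_X ≤ O_p(X)` -/
theorem largest_le_pCoreOf (p : ℕ) (X : Subgroup G) : largestPReducedOf p X ≤ pCoreOf p X := by
  have h := isRed_largest p X
  apply le_pCoreOf h.1 h.2.1
  intro v
  exact ⟨1, by rw [pow_one]; exact Subtype.ext (by simpa using h.2.2.2.1 v v.2)⟩

/-- `Y_X ≠ 1` for `X` in the family containing a Sylow `p`-subgroup -/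
theorem largest_ne_bot [Finite G] {p : ℕ} [Fact p.Prime] {T X : Subgroup G} (hT : IsSyl p T ⊤)
    (hTX : T ≤ X) (hX : X ∈ charPSubgroups p G) : largestPReducedOf p X ≠ ⊥ := by
  have hchar := charp_ambient_of_mem hX
  have hTX' : IsSyl p T X := hT.of_le hTX le_top
  have hT1 : T ≠ ⊥ := by
    intro h
    apply (mem_charP_iff.mp hX).1
    have := hTX'.pCoreOf_le
    rw [h] at this
    exact le_bot_iff.mp this
  have hZ := center_ne_bot hT.2.1 hT1
  obtain ⟨z, hz, hzp⟩ := Cfsg.Agent.Lib.Helper48.StrEmb.exists_orderOf_eq_of_ne_bot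
    (hT.2.1.to_le inf_le_left) hZ
  have hz1 : z ∈ omegaOne p (T ⊓ Subgroup.centralizer (T : Set G)) :=
    mem_omegaOne_center_of T (Subgroup.mem_inf.mp hz).1 (Subgroup.mem_inf.mp hz).2
      (by rw [← hzp]; exact pow_orderOf_eq_one z)
  have hz2 := omegaOne_center_le_largest hchar hTX' hz1
  intro h
  rw [h, Subgroup.mem_bot] at hz2
  rw [hz2, orderOf_one] at hzp
  exact (Fact.out : p.Prime).one_lt.ne hzp

/-- `Y_X` is `p`-reduced in its normalizer, when `X` contains a Sylow `p`-subgroup -/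
theorem isRed_largest_normalizer [Finite G] {p : ℕ} [Fact p.Prime] {T X : Subgroup G}
    (hT : IsSyl p T ⊤) (hTX : T ≤ X) :
    IsRed p (largestPReducedOf p X) (Subgroup.normalizer (largestPReducedOf p X : Set G)) := by
  have h := isRed_largest p X
  refine ⟨Subgroup.le_normalizer, le_rfl, h.2.2.1, h.2.2.2.1, ?_⟩
  intro D hDN hND hpow
  have hXN : X ≤ Subgroup.normalizer (largestPReducedOf p X : Set G) := h.2.1
  have h1 : D ⊓ X ≤ Subgroup.centralizer (largestPReducedOf p X : Set G) := by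
    apply h.le_centralizer inf_le_right
      (le_normalizer_inf (hXN.trans hND) Subgroup.le_normalizer)
    intro d hd
    exact hpow d (Subgroup.mem_inf.mp hd).1
  have hTN : IsSyl p T (Subgroup.normalizer (largestPReducedOf p X : Set G)) :=
    hT.of_le (hTX.trans hXN) le_top
  have hTD : IsSyl p (T ⊓ D) D := hTN.inf_normal hDN hND
  intro d hd
  obtain ⟨t, ht, r, hr, rfl⟩ := exists_mul_pResOf hTD hd
  refine Subgroup.mul_mem _ (h1 ?_) (pResOf_le_of_pow_mem hpow hr)
  exact Subgroup.mem_inf.mpr ⟨(Subgroup.mem_inf.mp ht).2, hTX (Subgroup.mem_inf.mp ht).1⟩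

theorem largest_le_largest_normalizer [Finite G] {p : ℕ} [Fact p.Prime] {T X : Subgroup G}
    (hT : IsSyl p T ⊤) (hTX : T ≤ X) :
    largestPReducedOf p X ≤
      largestPReducedOf p (Subgroup.normalizer (largestPReducedOf p X : Set G)) :=
  (isRed_largest_normalizer hT hTX).le_largest

/-- the family over which the maximal subgroup is chosen -/
def InX (p : ℕ) (T L X : Subgroup G) : Prop :=
  X ∈ charPSubgroups p G ∧ T ≤ X ∧ largestPReducedOf p L ≤ largestPReducedOf p X ∧
    ∀ l ∈ L, ∃ x ∈ X, ∃ c ∈ Subgroup.centralizer (largestPReducedOf p L : Set G), l = x * c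

theorem inX_self {p : ℕ} {T L : Subgroup G} (hL : L ∈ charPSubgroups p G) (hTL : T ≤ L) :
    InX p T L L :=
  ⟨hL, hTL, le_rfl, fun l hl => ⟨l, hl, 1, Subgroup.one_mem _, (mul_one l).symm⟩⟩

theorem InX.of_le [Finite G] {p : ℕ} [Fact p.Prime] {T L X X' : Subgroup G} (hT : IsSyl p T ⊤)
    (h : InX p T L X) (hXX' : X ≤ X') (hX' : X' ∈ charPSubgroups p G) : InX p T L X' :=
  ⟨hX', h.2.1.trans hXX', h.2.2.1.trans (largest_mono hT h.2.1 hXX' hX'), fun l hl => by
    obtain ⟨x, hx, c, hc, e⟩ := h.2.2.2 l hl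
    exact ⟨x, hXX' hx, c, hc, e⟩⟩

theorem exists_max_inX [Finite G] {p : ℕ} [Fact p.Prime] {T L : Subgroup G} (hT : IsSyl p T ⊤)
    (hyp : ∀ X : Subgroup G, X ∈ charPSubgroups p G → T ≤ X →
      Subgroup.normalizer (largestPReducedOf p X : Set G) ∈ charPSubgroups p G)
    (hTL : T ≤ L) (hL : L ∈ charPSubgroups p G) :
    ∃ X, InX p T L X ∧ Subgroup.normalizer (largestPReducedOf p X : Set G) = X ∧
      (∀ X', InX p T L X' → largestPReducedOf p X ≤ largestPReducedOf p X' →
        largestPReducedOf p X' = largestPReducedOf p X) ∧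
      (∀ X' ∈ charPSubgroups p G, X ≤ X' → X' = X) := by
  classical
  have : Nonempty {X : Subgroup G // InX p T L X} := ⟨⟨L, inX_self hL hTL⟩⟩
  obtain ⟨⟨X, hX⟩, hmax⟩ := Finite.exists_max (fun X : {X : Subgroup G // InX p T L X} =>
    Nat.card (largestPReducedOf p (X : Subgroup G)) * (Nat.card G + 1) + Nat.card (X : Subgroup G))
  have key1 : ∀ X', InX p T L X' → largestPReducedOf p X ≤ largestPReducedOf p X' →
      largestPReducedOf p X' = largestPReducedOf p X := by
    intro X' hX' hle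
    have h := hmax ⟨X', hX'⟩
    simp only at h
    have h1 : Nat.card (largestPReducedOf p X) ≤ Nat.card (largestPReducedOf p X') :=
      Subgroup.card_le_of_le hle
    have h2 : Nat.card X ≤ Nat.card G := Subgroup.card_le_card_group X
    have h3 : Nat.card (largestPReducedOf p X') ≤ Nat.card (largestPReducedOf p X) := by
      by_contra hcon
      push Not at hcon
      have h4 : (Nat.card (largestPReducedOf p X) + 1) * (Nat.card G + 1) ≤
          Nat.card (largestPReducedOf p X') * (Nat.card G + 1) := Nat.mul_le_mul_right _ hcon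
      have h5 : (Nat.card (largestPReducedOf p X) + 1) * (Nat.card G + 1) =
          Nat.card (largestPReducedOf p X) * (Nat.card G + 1) + (Nat.card G + 1) := by ring
      omega
    exact (Subgroup.eq_of_le_of_card_ge hle h3).symm
  have key2 : ∀ X', InX p T L X' → X ≤ X' →
      largestPReducedOf p X ≤ largestPReducedOf p X' → X' = X := by
    intro X' hX' hXX' hle
    have hY := key1 X' hX' hle
    have h := hmax ⟨X', hX'⟩
    simp only at h
    rw [hY] at h
    have h3 : Nat.card X' ≤ Nat.card X := by omega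
    exact (Subgroup.eq_of_le_of_card_ge hXX' h3).symm
  refine ⟨X, hX, ?_, key1, ?_⟩
  · have hN : InX p T L (Subgroup.normalizer (largestPReducedOf p X : Set G)) := by
      refine ⟨hyp X hX.1 hX.2.1, hX.2.1.trans (isRed_largest p X).2.1,
        hX.2.2.1.trans (largest_le_largest_normalizer hT hX.2.1), ?_⟩
      intro l hl
      obtain ⟨x, hx, c, hc, e⟩ := hX.2.2.2 l hl
      exact ⟨x, (isRed_largest p X).2.1 hx, c, hc, e⟩
    exact key2 _ hN (isRed_largest p X).2.1 (largest_le_largest_normalizer hT hX.2.1)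
  · intro X' hX' hXX'
    exact key2 X' (hX.of_le hT hXX' hX') hXX' (largest_mono hT hX.2.1 hXX' hX')

/-- a minimal supplement to `C` in `X` containing `T` and normalizing `T ∩ C` -/
theorem exists_min_supplement [Finite G] {p : ℕ} [Fact p.Prime] {T X C : Subgroup G}
    (hT : IsSyl p T ⊤) (hTX : T ≤ X) (hCX : C ≤ X)
    (hXC : X ≤ Subgroup.normalizer (C : Set G)) :
    ∃ M, T ≤ M ∧ M ≤ X ∧ M ≤ Subgroup.normalizer ((T ⊓ C : Subgroup G) : Set G) ∧
      (∀ g ∈ X, ∃ m ∈ M, ∃ c ∈ C, g = m * c) ∧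
      ∀ M', T ≤ M' → M' ≤ M → (∀ g ∈ X, ∃ m ∈ M', ∃ c ∈ C, g = m * c) → M' = M := by
  classical
  have hTC : IsSyl p (T ⊓ C) C := (hT.of_le hTX le_top).inf_normal hCX hXC
  have h0 : T ≤ Subgroup.normalizer ((T ⊓ C : Subgroup G) : Set G) :=
    le_normalizer_inf Subgroup.le_normalizer (hTX.trans hXC)
  have hP0 : T ≤ X ⊓ Subgroup.normalizer ((T ⊓ C : Subgroup G) : Set G) ∧
      X ⊓ Subgroup.normalizer ((T ⊓ C : Subgroup G) : Set G) ≤ X ∧
      X ⊓ Subgroup.normalizer ((T ⊓ C : Subgroup G) : Set G) ≤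
        Subgroup.normalizer ((T ⊓ C : Subgroup G) : Set G) ∧
      ∀ g ∈ X, ∃ m ∈ X ⊓ Subgroup.normalizer ((T ⊓ C : Subgroup G) : Set G), ∃ c ∈ C,
        g = m * c := by
    refine ⟨le_inf hTX h0, inf_le_left, inf_le_right, ?_⟩
    intro g hg
    obtain ⟨n, hn, x, hx, e⟩ := hTC.frattini hCX hXC hg
    refine ⟨x, hx, x⁻¹ * n * x,
      conj_mem_of_mem_normalizer' (hXC (Subgroup.mem_inf.mp hx).1) hn, ?_⟩
    rw [e]; group
  have : Nonempty {M : Subgroup G // T ≤ M ∧ M ≤ X ∧
      M ≤ Subgroup.normalizer ((T ⊓ C : Subgroup G) : Set G) ∧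
      ∀ g ∈ X, ∃ m ∈ M, ∃ c ∈ C, g = m * c} := ⟨⟨_, hP0⟩⟩
  obtain ⟨⟨M, hM⟩, hmin⟩ := Finite.exists_min (fun M : {M : Subgroup G // T ≤ M ∧ M ≤ X ∧
      M ≤ Subgroup.normalizer ((T ⊓ C : Subgroup G) : Set G) ∧
      ∀ g ∈ X, ∃ m ∈ M, ∃ c ∈ C, g = m * c} => Nat.card (M : Subgroup G))
  refine ⟨M, hM.1, hM.2.1, hM.2.2.1, hM.2.2.2, ?_⟩
  intro M' hTM' hM'M hsup
  have h := hmin ⟨M', hTM', hM'M.trans hM.2.1, hM'M.trans hM.2.2.1, hsup⟩
  exact Subgroup.eq_of_le_of_card_ge hM'M h

/-- `Y` stays `p`-reduced in a supplement to its centralizer -/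
theorem isRed_of_supplement {p : ℕ} {Y X M : Subgroup G} (hY : IsRed p Y X) (hYM : Y ≤ M)
    (hMX : M ≤ X) (hCX : Subgroup.centralizer (Y : Set G) ≤ X)
    (hsup : ∀ g ∈ X, ∃ m ∈ M, ∃ c ∈ Subgroup.centralizer (Y : Set G), g = m * c) :
    IsRed p Y M := by
  refine ⟨hYM, hMX.trans hY.2.1, hY.2.2.1, hY.2.2.2.1, ?_⟩
  intro D hDM hMD hpow
  have hCn : X ≤ Subgroup.normalizer ((Subgroup.centralizer (Y : Set G) : Subgroup G) : Set G) :=
    le_normalizer_centralizer hY.2.1
  have hDC : D ≤ Subgroup.normalizer ((Subgroup.centralizer (Y : Set G) : Subgroup G) : Set G) :=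
    hDM.trans (hMX.trans hCn)
  have h1 : D ⊔ Subgroup.centralizer (Y : Set G) ≤ Subgroup.centralizer (Y : Set G) := by
    apply hY.le_centralizer (sup_le (hDM.trans hMX) hCX)
    · intro g hg
      obtain ⟨m, hm, c, hc, rfl⟩ := hsup g hg
      exact Subgroup.mul_mem _ (le_normalizer_sup hMD (hMX.trans hCn) hm)
        (Subgroup.le_normalizer (Subgroup.mem_sup_right hc))
    · intro x hx
      obtain ⟨d, hd, c, hc, rfl⟩ := exists_mul_of_mem_sup_left hDC hx
      obtain ⟨k, hk⟩ := hpow d hd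
      exact ⟨k, mul_pow_mem (hDC hd) hc hk⟩
  exact le_sup_left.trans h1

/-- the Frattini condition for a minimal supplement -/
theorem frattini_of_min [Finite G] {p : ℕ} [Fact p.Prime] {T X C M : Subgroup G}
    (hT : IsSyl p T ⊤) (hTM : T ≤ M) (hMX : M ≤ X) (hCX : C ≤ X)
    (hXC : X ≤ Subgroup.normalizer (C : Set G))
    (hMT₀ : M ≤ Subgroup.normalizer ((T ⊓ C : Subgroup G) : Set G))
    (hsup : ∀ g ∈ X, ∃ m ∈ M, ∃ c ∈ C, g = m * c)
    (hmin : ∀ M', T ≤ M' → M' ≤ M → (∀ g ∈ X, ∃ m ∈ M', ∃ c ∈ C, g = m * c) → M' = M) :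
    ((M ⊓ C).subgroupOf M).map (QuotientGroup.mk' (pCore p ↥M)) ≤ frattini (↥M ⧸ pCore p ↥M) := by
  classical
  have hNn : ((M ⊓ C).subgroupOf M).Normal :=
    Subgroup.normal_subgroupOf_of_le_normalizer
      (le_normalizer_inf Subgroup.le_normalizer (hMX.trans hXC))
  have hNtop : Subgroup.normalizer (((M ⊓ C).subgroupOf M : Subgroup M) : Set M) = ⊤ :=
    Subgroup.normalizer_eq_top_iff.mpr hNn
  unfold frattini Order.radical
  refine le_iInf₂ (fun Kb hKb => ?_)
  have hKbc : IsCoatom Kb := hKb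
  rw [Subgroup.map_le_iff_le_comap]
  have hKc : IsCoatom (Kb.comap (QuotientGroup.mk' (pCore p ↥M))) :=
    Subgroup.isCoatom_comap_of_surjective (QuotientGroup.mk'_surjective _) hKbc
  have hkerK : pCore p ↥M ≤ Kb.comap (QuotientGroup.mk' (pCore p ↥M)) := by
    have h := MonoidHom.ker_le_comap (QuotientGroup.mk' (pCore p ↥M)) Kb
    rwa [QuotientGroup.ker_mk'] at h
  by_contra hnot
  have hsupK : Kb.comap (QuotientGroup.mk' (pCore p ↥M)) ⊔ (M ⊓ C).subgroupOf M = ⊤ :=
    hKc.2 _ (lt_of_le_of_ne le_sup_left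
      (fun h => hnot (by rw [h]; exact le_sup_right)))
  have hTC : IsSyl p (T ⊓ C) C := (hT.of_le (hTM.trans hMX) le_top).inf_normal hCX hXC
  have hT₀M : T ⊓ C ≤ M := inf_le_left.trans hTM
  have hT₀O : T ⊓ C ≤ pCoreOf p M := le_pCoreOf hT₀M hMT₀ (hT.2.1.to_le inf_le_left)
  have hT₀K : (T ⊓ C).subgroupOf M ≤ Kb.comap (QuotientGroup.mk' (pCore p ↥M)) := by
    intro x hx
    apply hkerK
    exact (mem_pCoreOf_iff x.2).mp (hT₀O (Subgroup.mem_subgroupOf.mp hx))
  have hT₀N : (T ⊓ C).subgroupOf M ≤ (M ⊓ C).subgroupOf M := by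
    intro x hx
    rw [Subgroup.mem_subgroupOf] at hx ⊢
    exact Subgroup.mem_inf.mpr ⟨x.2, (Subgroup.mem_inf.mp hx).2⟩
  have hidx := index_eq_relIndex_of_sup_eq_top hsupK
  have hdvd1 : ((M ⊓ C).subgroupOf M ⊓ Kb.comap (QuotientGroup.mk' (pCore p ↥M))).relIndex
      ((M ⊓ C).subgroupOf M) ∣ ((T ⊓ C).subgroupOf M).relIndex ((M ⊓ C).subgroupOf M) :=
    Subgroup.relIndex_dvd_of_le_left _ (le_inf hT₀N hT₀K)
  have hrel : ((T ⊓ C).subgroupOf M).relIndex ((M ⊓ C).subgroupOf M) =
      (T ⊓ C).relIndex (M ⊓ C) := Subgroup.relIndex_subgroupOf inf_le_left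
  have hSylMC : IsSyl p (T ⊓ C) (M ⊓ C) :=
    hTC.of_le (le_inf hT₀M inf_le_right) inf_le_right
  have hnd : ¬ p ∣ (T ⊓ C).relIndex (M ⊓ C) := by
    obtain ⟨P, hP, _⟩ := hSylMC.exists_sylow
    have h := P.not_dvd_index
    rw [hP] at h
    exact h
  have hKidx : ¬ p ∣ (Kb.comap (QuotientGroup.mk' (pCore p ↥M))).index := by
    rw [hidx]
    intro h
    apply hnd
    rw [← hrel]
    exact h.trans hdvd1
  obtain ⟨g, hg⟩ := exists_conj_mem_of_not_dvd_index (Y := T.subgroupOf M)
    (hT.2.1.comap_subtype) hKidx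
  have htop : (Kb.comap (QuotientGroup.mk' (pCore p ↥M))).map (MulAut.conj g).toMonoidHom ⊔
      (M ⊓ C).subgroupOf M = ⊤ := by
    have h := congrArg (Subgroup.map (MulAut.conj g).toMonoidHom) hsupK
    have hgN : g ∈ Subgroup.normalizer (((M ⊓ C).subgroupOf M : Subgroup M) : Set M) := by
      rw [hNtop]; trivial
    rw [Subgroup.map_sup, map_conj_eq_of_mem_normalizer hgN,
      Subgroup.map_top_of_surjective _ (MulAut.conj g).surjective] at h
    exact h
  have hK₂M : ((Kb.comap (QuotientGroup.mk' (pCore p ↥M))).map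
      (MulAut.conj g).toMonoidHom).map M.subtype ≤ M := Subgroup.map_subtype_le _
  have hTK₂ : T ≤ ((Kb.comap (QuotientGroup.mk' (pCore p ↥M))).map
      (MulAut.conj g).toMonoidHom).map M.subtype := by
    intro t ht
    refine ⟨⟨t, hTM ht⟩, ?_, rfl⟩
    rw [SetLike.mem_coe, mem_map_conj]
    exact hg ⟨t, hTM ht⟩ (Subgroup.mem_subgroupOf.mpr ht)
  have hsup₂ : ∀ x ∈ X, ∃ m ∈ ((Kb.comap (QuotientGroup.mk' (pCore p ↥M))).map
      (MulAut.conj g).toMonoidHom).map M.subtype, ∃ c ∈ C, x = m * c := by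
    intro x hx
    obtain ⟨m₀, hm₀, c₀, hc₀, rfl⟩ := hsup x hx
    have hm : (⟨m₀, hm₀⟩ : M) ∈ (Kb.comap (QuotientGroup.mk' (pCore p ↥M))).map
        (MulAut.conj g).toMonoidHom ⊔ (M ⊓ C).subgroupOf M := by rw [htop]; trivial
    obtain ⟨k, hk, n, hn, e⟩ := exists_mul_of_mem_sup_left
      (by rw [hNtop]; exact le_top) hm
    refine ⟨(k : G), ⟨k, hk, rfl⟩, (n : G) * c₀,
      Subgroup.mul_mem _ (Subgroup.mem_inf.mp (Subgroup.mem_subgroupOf.mp hn)).2 hc₀, ?_⟩
    have e' : m₀ = (k : G) * (n : G) := congrArg Subtype.val e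
    rw [e', mul_assoc]
  have hK₂eq := hmin _ hTK₂ hK₂M hsup₂
  apply hKc.1
  have h1 : (Kb.comap (QuotientGroup.mk' (pCore p ↥M))).map (MulAut.conj g).toMonoidHom = ⊤ := by
    rw [eq_top_iff]
    intro x _
    have hx : (x : G) ∈ ((Kb.comap (QuotientGroup.mk' (pCore p ↥M))).map
        (MulAut.conj g).toMonoidHom).map M.subtype := by rw [hK₂eq]; exact x.2
    obtain ⟨y, hy, hyx⟩ := hx
    have : y = x := Subtype.ext hyx
    rwa [this] at hy
  have h2 := congrArg (Subgroup.map (MulAut.conj g⁻¹).toMonoidHom) h1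
  rw [map_conj_inv_map_conj, Subgroup.map_top_of_surjective _ (MulAut.conj g⁻¹).surjective] at h2
  exact h2

/-- the abstract existence theorem for subgroups with the basic property: under the hypothesis
that `N(Y_X)` is in the characteristic `p` family for every member `X` containing `T` -/
theorem exists_frakM [Finite G] {p : ℕ} [Fact p.Prime] (T : Sylow p G)
    (hyp : ∀ X : Subgroup G, X ∈ charPSubgroups p G → (T : Subgroup G) ≤ X →
      Subgroup.normalizer (largestPReducedOf p X : Set G) ∈ charPSubgroups p G)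
    (L : Subgroup G) (hTL : (T : Subgroup G) ≤ L) (hL : L ∈ charPSubgroups p G) :
    ∃ M Ls : Subgroup G, (T : Subgroup G) ≤ M ∧ IsInFrakM p M ∧ (T : Subgroup G) ≤ Ls ∧ Ls ≤ M ∧
      Ls ∈ charPSubgroups p G ∧ largestPReducedOf p L = largestPReducedOf p Ls ∧
      largestPReducedOf p L ≤ largestPReducedOf p M ∧
      L ⊔ Subgroup.centralizer (largestPReducedOf p L : Set G) =
        Ls ⊔ Subgroup.centralizer (largestPReducedOf p L : Set G) := by
  classical
  have hT := isSyl_top T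
  obtain ⟨X, hX, hNX, hYmax, hXmax⟩ := exists_max_inX hT hyp hTL hL
  obtain ⟨hXL, hTX, hYLX, hLX⟩ := hX
  have hYred := isRed_largest p X
  have hXY : X ≤ Subgroup.normalizer (largestPReducedOf p X : Set G) := hYred.2.1
  have hCX : Subgroup.centralizer (largestPReducedOf p X : Set G) ≤ X := by
    have h : Subgroup.centralizer (largestPReducedOf p X : Set G) ≤
        Subgroup.normalizer (largestPReducedOf p X : Set G) := Subgroup.centralizer_le_normalizer _
    exact h.trans hNX.le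
  have hXC : X ≤ Subgroup.normalizer
      ((Subgroup.centralizer (largestPReducedOf p X : Set G) : Subgroup G) : Set G) :=
    le_normalizer_centralizer hXY
  obtain ⟨M, hTM, hMX, hMT₀, hsup, hmin⟩ := exists_min_supplement hT hTX hCX hXC
  have hTXs : IsSyl p (T : Subgroup G) X := hT.of_le hTX le_top
  have hYT : largestPReducedOf p X ≤ (T : Subgroup G) :=
    (largest_le_pCoreOf p X).trans hTXs.pCoreOf_le
  have hYM : largestPReducedOf p X ≤ M := hYT.trans hTM
  have hredM : IsRed p (largestPReducedOf p X) M := isRed_of_supplement hYred hYM hMX hCX hsup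
  have hYMeq : largestPReducedOf p M = largestPReducedOf p X :=
    le_antisymm (largest_mono hT hTM hMX hXL) hredM.le_largest
  have hOX : pCoreOf p X ≤ M := hTXs.pCoreOf_le.trans hTM
  have hML : M ∈ charPSubgroups p G := mem_charP_of_le hXL hOX hMX
  have hMC : M ⊔ Subgroup.centralizer (largestPReducedOf p M : Set G) = X := by
    rw [hYMeq]
    apply le_antisymm (sup_le hMX hCX)
    intro g hg
    obtain ⟨m, hm, c, hc, rfl⟩ := hsup g hg
    exact Subgroup.mul_mem _ (Subgroup.mem_sup_left hm) (Subgroup.mem_sup_right hc)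
  have hXmaxP : X ∈ maxCharPSubgroups p G := ⟨hXL, fun X' hX' hXX' => hXmax X' hX' hXX'⟩
  have huniq : ∀ X' ∈ maxCharPSubgroups p G, M ≤ X' → X' = X := by
    rintro X' ⟨hX'L, hX'max⟩ hMX'
    have hYX' : largestPReducedOf p X ≤ largestPReducedOf p X' := by
      have h := largest_mono hT hTM hMX' hX'L
      rwa [hYMeq] at h
    have hInX' : InX p (T : Subgroup G) L X' := by
      refine ⟨hX'L, hTM.trans hMX', hYLX.trans hYX', ?_⟩
      intro l hl
      obtain ⟨x, hx, c, hc, rfl⟩ := hLX l hl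
      obtain ⟨m, hm, c', hc', rfl⟩ := hsup x hx
      exact ⟨m, hMX' hm, c' * c, Subgroup.mul_mem _
        (Subgroup.centralizer_le (by exact_mod_cast hYLX) hc') hc, by rw [mul_assoc]⟩
    have hYeq := hYmax X' hInX' hYX'
    have hX'X : X' ≤ X := by
      have h1 : X' ≤ Subgroup.normalizer (largestPReducedOf p X' : Set G) :=
        (isRed_largest p X').2.1
      rw [hYeq] at h1
      exact h1.trans hNX.le
    exact (hX'max X hXL hX'X).symm
  have hTC : IsSyl p ((T : Subgroup G) ⊓ Subgroup.centralizer (largestPReducedOf p X : Set G))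
      (Subgroup.centralizer (largestPReducedOf p X : Set G)) := hTXs.inf_normal hCX hXC
  have hpc : IsPClosed p ↥(M ⊓ Subgroup.centralizer (largestPReducedOf p M : Set G)) := by
    rw [hYMeq]
    have hs : IsSyl p ((T : Subgroup G) ⊓ Subgroup.centralizer (largestPReducedOf p X : Set G))
        (M ⊓ Subgroup.centralizer (largestPReducedOf p X : Set G)) :=
      hTC.of_le (le_inf (inf_le_left.trans hTM) inf_le_right) inf_le_right
    exact isPClosed_of_isSyl_normal hs (inf_le_left.trans hMT₀)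
  have hfr := frattini_of_min hT hTM hMX hCX hXC hMT₀ hsup hmin
  have hFrak : IsInFrakM p M := by
    refine ⟨hML, ?_, ?_, ?_, hpc, ?_⟩
    · rw [hMC]; exact hXmaxP
    · intro X' hX' hMX'
      rw [hMC]
      exact huniq X' hX' hMX'
    · rw [hMC, hYMeq]
    · rw [hYMeq]; exact hfr
  -- the subgroup `L*`
  have hYLred := isRed_largest p L
  have hLCL : L ≤ Subgroup.normalizer
      ((Subgroup.centralizer (largestPReducedOf p L : Set G) : Subgroup G) : Set G) :=
    le_normalizer_centralizer hYLred.2.1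
  have hTM' : (T : Subgroup G) ≤
      (L ⊔ Subgroup.centralizer (largestPReducedOf p L : Set G)) ⊓ M :=
    le_inf (hTL.trans le_sup_left) hTM
  have hOM : pCoreOf p M ≤ (T : Subgroup G) := (hT.of_le hTM le_top).pCoreOf_le
  have hM'L : (L ⊔ Subgroup.centralizer (largestPReducedOf p L : Set G)) ⊓ M ∈
      charPSubgroups p G := mem_charP_of_le hML (hOM.trans hTM') inf_le_right
  have hfac : (L ⊔ Subgroup.centralizer (largestPReducedOf p L : Set G)) ⊓ M ⊔
      Subgroup.centralizer (largestPReducedOf p L : Set G) =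
      L ⊔ Subgroup.centralizer (largestPReducedOf p L : Set G) := by
    apply le_antisymm (sup_le inf_le_left le_sup_right)
    apply sup_le _ le_sup_right
    intro l hl
    obtain ⟨x, hx, c, hc, rfl⟩ := hLX l hl
    obtain ⟨m, hm, c', hc', rfl⟩ := hsup x hx
    have hc'' : c' ∈ Subgroup.centralizer (largestPReducedOf p L : Set G) :=
      Subgroup.centralizer_le (by exact_mod_cast hYLX) hc'
    have hmL : m ∈ L ⊔ Subgroup.centralizer (largestPReducedOf p L : Set G) := by
      have e : m = (m * c' * c) * (c' * c)⁻¹ := by group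
      rw [e]
      exact Subgroup.mul_mem _ (Subgroup.mem_sup_left hl)
        (Subgroup.inv_mem _ (Subgroup.mem_sup_right (Subgroup.mul_mem _ hc'' hc)))
    rw [mul_assoc]
    exact Subgroup.mul_mem _ (Subgroup.mem_sup_left (Subgroup.mem_inf.mpr ⟨hmL, hm⟩))
      (Subgroup.mem_sup_right (Subgroup.mul_mem _ hc'' hc))
  obtain ⟨hYLs, hLLs⟩ := Cfsg.Agent.S2824.result T L
    ((L ⊔ Subgroup.centralizer (largestPReducedOf p L : Set G)) ⊓ M) hTL hTM'
    (charp_type_of_mem hL) (charp_type_of_mem hM'L) _ rfl hfac _ rfl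
  have hTLs : (T : Subgroup G) ≤ (L ⊔ Subgroup.centralizer (largestPReducedOf p L : Set G)) ⊓ M ⊓
      Subgroup.normalizer (((T : Subgroup G) ⊓
        Subgroup.centralizer (largestPReducedOf p L : Set G) : Subgroup G) : Set G) :=
    le_inf hTM' (le_normalizer_inf Subgroup.le_normalizer (hTL.trans hLCL))
  refine ⟨M, _, hTM, hFrak, hTLs, inf_le_left.trans inf_le_right, ?_, hYLs.symm, ?_, hLLs⟩
  · exact mem_charP_of_le hML (hOM.trans hTLs) (inf_le_left.trans inf_le_right)
  · rw [hYMeq]; exact hYLX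

/-- parabolic characteristic `p` gives the hypothesis of `exists_frakM` -/
theorem hyp_of_parabolic [Finite G] {p : ℕ} [Fact p.Prime]
    (hH : IsOfParabolicCharacteristic p G) (T : Sylow p G) :
    ∀ X : Subgroup G, X ∈ charPSubgroups p G → (T : Subgroup G) ≤ X →
      Subgroup.normalizer (largestPReducedOf p X : Set G) ∈ charPSubgroups p G := by
  intro X hX hTX
  have hT := isSyl_top T
  have hY1 := largest_ne_bot hT hTX hX
  have hYp : IsPGroup p (largestPReducedOf p X) :=
    (pCoreOf_isPGroup p X).to_le (largest_le_pCoreOf p X)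
  have hXN : X ≤ Subgroup.normalizer (largestPReducedOf p X : Set G) := (isRed_largest p X).2.1
  have hchar := charp_ambient (hH _ hYp hY1 ⟨T, hTX.trans hXN⟩)
  have hYO : largestPReducedOf p X ≤
      pCoreOf p (Subgroup.normalizer (largestPReducedOf p X : Set G)) :=
    le_pCoreOf Subgroup.le_normalizer le_rfl hYp
  rw [mem_charP_iff]
  refine ⟨fun h => hY1 (le_bot_iff.mp (h ▸ hYO)), ?_⟩
  intro x hx
  apply hchar
  refine Subgroup.mem_inf.mpr ⟨?_, hx⟩
  exact Subgroup.centralizer_le_normalizer _ (Subgroup.centralizer_le (by exact_mod_cast hYO) hx)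

/-- existence of subgroups with the basic property in parabolic characteristic `p` -/
theorem exists_frakM_of_parabolic [Finite G] {p : ℕ} [Fact p.Prime]
    (hH : IsOfParabolicCharacteristic p G) (T : Sylow p G)
    (L : Subgroup G) (hTL : (T : Subgroup G) ≤ L) (hL : L ∈ charPSubgroups p G) :
    ∃ M Ls : Subgroup G, (T : Subgroup G) ≤ M ∧ IsInFrakM p M ∧ (T : Subgroup G) ≤ Ls ∧ Ls ≤ M ∧
      Ls ∈ charPSubgroups p G ∧ largestPReducedOf p L = largestPReducedOf p Ls ∧
      largestPReducedOf p L ≤ largestPReducedOf p M ∧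
      L ⊔ Subgroup.centralizer (largestPReducedOf p L : Set G) =
        Ls ⊔ Subgroup.centralizer (largestPReducedOf p L : Set G) :=
  exists_frakM T (hyp_of_parabolic hH T) L hTL hL

end Cfsg.Agent.Lib.Helper47.FrakM
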