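import Mathlib
import Cfsg.Agent.Lib.Helper47.FrakM
import Cfsg.Agent.Lib.Helper47.Asym
import Cfsg.Agent.S2838
import Cfsg.Agent.S2845

set_option autoImplicit false

namespace Cfsg.Agent.Lib.Helper47.FrakM2

open Cfsg Cfsg.Agent.Lib.Helper47.Syl Cfsg.Agent.Lib.Helper47.PRed Cfsg.Agent.Lib.Helper47.PRed2
  Cfsg.Agent.Lib.Helper47.Cent Cfsg.Agent.Lib.Helper47.FrakM Cfsg.Agent.Lib.Helper47.Asym

variable {G : Type*} [Group G]

/-- `O_p(M) = S ∩ C_G(Y_M)` for `M ∈ 𝔐_G(S)` -/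
theorem pCoreOf_eq [Finite G] {p : ℕ} [Fact p.Prime] (S : Sylow p G) {M : Subgroup G}
    (hSM : (S : Subgroup G) ≤ M) (hM : IsInFrakM p M) :
    pCoreOf p M = (S : Subgroup G) ⊓ Subgroup.centralizer (largestPReducedOf p M : Set G) := by
  obtain ⟨_, _, _, _, hpc, _⟩ := hM
  have hSsM : IsSyl p (S : Subgroup G) M := isSyl_of_sylow_le S hSM
  have hY := isRed_largest p M
  have hMC := le_normalizer_centralizer hY.2.1
  have hMCM : M ≤ Subgroup.normalizer ((M ⊓ Subgroup.centralizer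
      (largestPReducedOf p M : Set G) : Subgroup G) : Set G) :=
    le_normalizer_inf Subgroup.le_normalizer hMC
  have hSCM := hSsM.inf_normal inf_le_left hMCM
  have hn := (isPClosed_iff _).mp hpc _ hSCM
  have hMn : M ≤ Subgroup.normalizer (((S : Subgroup G) ⊓ (M ⊓ Subgroup.centralizer
      (largestPReducedOf p M : Set G)) : Subgroup G) : Set G) := by
    intro m hm
    rw [mem_normalizer_iff_map_conj]
    have h1 := hSCM.map_conj m
    rw [map_conj_eq_of_mem_normalizer (hMCM hm)] at h1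
    exact hSCM.eq_of_normal hn h1
  apply le_antisymm
  · exact le_inf hSsM.pCoreOf_le (pCoreOf_le_centralizer_largest p M)
  · have h1 : (S : Subgroup G) ⊓ Subgroup.centralizer (largestPReducedOf p M : Set G) ≤
        (S : Subgroup G) ⊓ (M ⊓ Subgroup.centralizer (largestPReducedOf p M : Set G)) :=
      le_inf inf_le_left (le_inf (inf_le_left.trans hSsM.1) inf_le_right)
    exact h1.trans (le_pCoreOf (inf_le_right.trans inf_le_left) hMn hSCM.2.1)

/-- `O_p(M)` is a Sylow `p`-subgroup of `C_G(Y_M)` -/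
theorem isSyl_pCoreOf [Finite G] {p : ℕ} [Fact p.Prime] (S : Sylow p G) {M : Subgroup G}
    (hSM : (S : Subgroup G) ≤ M) (hM : IsInFrakM p M) :
    IsSyl p (pCoreOf p M) (Subgroup.centralizer (largestPReducedOf p M : Set G)) := by
  rw [pCoreOf_eq S hSM hM]
  have hY := isRed_largest p M
  exact ((isSyl_top S).of_le (hSM.trans hY.2.1) le_top).inf_normal
    (Subgroup.centralizer_le_normalizer _) (normalizer_le_normalizer_centralizer _)

/-- a `p`-subgroup containing `O_p(M)` meets `C_G(Y_M)` in `O_p(M)` -/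
theorem inf_centralizer_le [Finite G] {p : ℕ} [Fact p.Prime] (S : Sylow p G) {M : Subgroup G}
    (hSM : (S : Subgroup G) ≤ M) (hM : IsInFrakM p M) {T : Subgroup G} (hT : IsPGroup p ↥T)
    (hOT : pCoreOf p M ≤ T) :
    T ⊓ Subgroup.centralizer (largestPReducedOf p M : Set G) ≤ pCoreOf p M := by
  have hOSyl := isSyl_pCoreOf S hSM hM
  exact (hOSyl.2.2 _ (hT.to_le inf_le_left) (le_inf hOT hOSyl.1) inf_le_right).le

/-- uniqueness of `M†`: the normalizer of a nontrivial `p`-subgroup normalized by `M` lies in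
`M† = M C_G(Y_M)` -/
theorem normalizer_le_dagger [Finite G] {p : ℕ} [Fact p.Prime] (S : Sylow p G) {Q : Subgroup G}
    (hQp : IsPGroup p ↥Q) (hQ1 : Q ≠ ⊥) (hQ : IsLarge Q) {M : Subgroup G}
    (hSM : (S : Subgroup G) ≤ M) (hM : IsInFrakM p M) {R : Subgroup G} (hRp : IsPGroup p ↥R)
    (hR1 : R ≠ ⊥) (hMR : M ≤ Subgroup.normalizer (R : Set G)) :
    Subgroup.normalizer (R : Set G) ≤
      M ⊔ Subgroup.centralizer (largestPReducedOf p M : Set G) := by
  obtain ⟨_, _, hMuniq, _, _, _⟩ := hM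
  have hpar := (Cfsg.Agent.S2845.result Q hQp hQ1 hQ).2.1
  have hRN : R ≤ pCoreOf p (Subgroup.normalizer (R : Set G)) :=
    le_pCoreOf Subgroup.le_normalizer le_rfl hRp
  have hN1 : pCoreOf p (Subgroup.normalizer (R : Set G)) ≠ ⊥ :=
    fun h => hR1 (le_bot_iff.mp (h ▸ hRN))
  have hNc : Subgroup.normalizer (R : Set G) ∈ charPSubgroups p G := by
    rw [mem_charP_iff]
    refine ⟨hN1, hpar _ ⟨S, hSM.trans hMR⟩ ?_⟩
    intro h
    apply hN1
    unfold pCoreOf
    rw [h, Subgroup.map_bot]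
  obtain ⟨X, hNX, hXmax⟩ :=
    (Set.toFinite {X : Subgroup G | X ∈ charPSubgroups p G}).exists_le_maximal hNc
  have hXm : X ∈ maxCharPSubgroups p G :=
    ⟨hXmax.1, fun L hL hXL => le_antisymm (hXmax.2 hL hXL) hXL⟩
  have hXe := hMuniq X hXm (hMR.trans hNX)
  rw [← hXe]
  exact hNX

/-- `O_p(M) ≠ 1` -/
theorem pCoreOf_ne_bot {p : ℕ} {M : Subgroup G} (hM : IsInFrakM p M) : pCoreOf p M ≠ ⊥ :=
  (mem_charP_iff.mp hM.1).1

/-- `C_G(O_p(M)) ≤ O_p(M)` -/
theorem centralizer_pCoreOf_le {p : ℕ} {M : Subgroup G} (hM : IsInFrakM p M) :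
    Subgroup.centralizer (pCoreOf p M : Set G) ≤ pCoreOf p M :=
  (mem_charP_iff.mp hM.1).2

/-- `N_G(O_p(M)) ≤ M†` -/
theorem normalizer_pCoreOf_le [Finite G] {p : ℕ} [Fact p.Prime] (S : Sylow p G) {Q : Subgroup G}
    (hQp : IsPGroup p ↥Q) (hQ1 : Q ≠ ⊥) (hQ : IsLarge Q) {M : Subgroup G}
    (hSM : (S : Subgroup G) ≤ M) (hM : IsInFrakM p M) :
    Subgroup.normalizer (pCoreOf p M : Set G) ≤
      M ⊔ Subgroup.centralizer (largestPReducedOf p M : Set G) :=
  normalizer_le_dagger S hQp hQ1 hQ hSM hM (pCoreOf_isPGroup p M) (pCoreOf_ne_bot hM)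
    (le_normalizer_pCoreOf p M)

/-- `Y_M ≠ 1` -/
theorem largest_ne_bot' [Finite G] {p : ℕ} [Fact p.Prime] (S : Sylow p G) {M : Subgroup G}
    (hSM : (S : Subgroup G) ≤ M) (hM : IsInFrakM p M) : largestPReducedOf p M ≠ ⊥ :=
  largest_ne_bot (isSyl_top S) hSM hM.1

/-- `Y_M` is a `p`-group -/
theorem largest_isPGroup (p : ℕ) (M : Subgroup G) : IsPGroup p ↥(largestPReducedOf p M) :=
  (pCoreOf_isPGroup p M).to_le (largest_le_pCoreOf p M)

/-- `N_G(Y_M) = M†` -/
theorem normalizer_largest_eq [Finite G] {p : ℕ} [Fact p.Prime] (S : Sylow p G) {Q : Subgroup G}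
    (hQp : IsPGroup p ↥Q) (hQ1 : Q ≠ ⊥) (hQ : IsLarge Q) {M : Subgroup G}
    (hSM : (S : Subgroup G) ≤ M) (hM : IsInFrakM p M) :
    Subgroup.normalizer (largestPReducedOf p M : Set G) =
      M ⊔ Subgroup.centralizer (largestPReducedOf p M : Set G) := by
  have hY := isRed_largest p M
  exact le_antisymm
    (normalizer_le_dagger S hQp hQ1 hQ hSM hM (largest_isPGroup p M) (largest_ne_bot' S hSM hM)
      hY.2.1)
    (sup_centralizer_le_normalizer hY.2.1)

/-- elements of `M†` are products -/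
theorem exists_mul_of_mem_dagger {p : ℕ} {M : Subgroup G} {n : G}
    (hn : n ∈ M ⊔ Subgroup.centralizer (largestPReducedOf p M : Set G)) :
    ∃ m ∈ M, ∃ c ∈ Subgroup.centralizer (largestPReducedOf p M : Set G), n = m * c :=
  exists_mul_of_mem_sup_left (le_normalizer_centralizer (isRed_largest p M).2.1) hn

/-- the hypotheses of the critical pair argument hold when `Y_M` is asymmetric -/
theorem hyp_of_asym [Finite G] {p : ℕ} [Fact p.Prime] (S : Sylow p G) {Q : Subgroup G}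
    (hQp : IsPGroup p ↥Q) (hQ1 : Q ≠ ⊥) (hQ : IsLarge Q) {M : Subgroup G}
    (hSM : (S : Subgroup G) ≤ M) (hM : IsInFrakM p M)
    (hasym : ¬ IsSymmetricIn (largestPReducedOf p M)) :
    Hyp p (largestPReducedOf p M) (pCoreOf p M) := by
  have hY := isRed_largest p M
  refine ⟨largest_le_pCoreOf p M, fun T hT hOT => inf_centralizer_le S hSM hM hT hOT,
    pCoreOf_isPGroup p M, ?_, ?_⟩
  · exact (normalizer_pCoreOf_le S hQp hQ1 hQ hSM hM).trans
      (sup_centralizer_le_normalizer hY.2.1)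
  · intro g hA hB
    by_contra hC
    apply hasym
    refine ⟨g, ?_, Cfsg.Agent.S2838.comm_le_of_normalize hA hB⟩
    intro hbot
    apply hC
    rw [Subgroup.commutator_eq_bot_iff_le_centralizer] at hbot
    exact Subgroup.le_centralizer_iff.mp hbot

end Cfsg.Agent.Lib.Helper47.FrakM2
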