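import Mathlib
import Cfsg.Agent.Lib.Helper70.HallHigman
import Cfsg.Agent.Lib.Helper63.PFrattini

set_option autoImplicit false

namespace Cfsg.Agent.Lib.Helper47.Burn

open Cfsg

variable {G : Type*} [Group G]

/-- conjugation by an element of the normalizer, as an automorphism of the subgroup -/
def conjAut (A : Subgroup G) (x : ↥(Subgroup.normalizer (A : Set G))) : MulAut ↥A where
  toFun a := ⟨x * a * x⁻¹, (Subgroup.mem_normalizer_iff.mp x.2 a).mp a.2⟩
  invFun a := ⟨x⁻¹ * a * x, by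
    have := (Subgroup.mem_normalizer_iff.mp (inv_mem x.2) a).mp a.2
    simpa using this⟩
  left_inv a := by ext; simp [mul_assoc]
  right_inv a := by ext; simp [mul_assoc]
  map_mul' a b := by ext; simp [mul_assoc]

/-- conjugation, as a homomorphism `N_G(A) → Aut(A)` -/
def conjHom (A : Subgroup G) : ↥(Subgroup.normalizer (A : Set G)) →* MulAut ↥A where
  toFun x := conjAut A x
  map_one' := by ext a; simp [conjAut]
  map_mul' x y := by ext a; simp [conjAut, mul_assoc]

theorem conjHom_apply (A : Subgroup G) (x : ↥(Subgroup.normalizer (A : Set G))) (a : ↥A) :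
    ((conjHom A x a : ↥A) : G) = x * a * x⁻¹ := rfl

/-- Burnside: a `p'`-element normalizing a `p`-group `A` and centralizing `A/A'` centralizes
`A` -/
theorem conj_eq_of_comm_mem_commutator [Finite G] {p : ℕ} [Fact p.Prime] {A : Subgroup G}
    (hA : IsPGroup p ↥A) {x : G} (hx : x ∈ Subgroup.normalizer (A : Set G))
    (hc : (orderOf x).Coprime p) (h : ∀ a ∈ A, x * a * x⁻¹ * a⁻¹ ∈ ⁅A, A⁆) :
    ∀ a ∈ A, x * a * x⁻¹ = a := by
  set α : MulAut ↥A := conjHom A ⟨x, hx⟩ with hα
  have hmem : α ∈ Cfsg.Agent.S4189.frattiniKer ↥A := by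
    intro a
    have h1 := h a a.2
    rw [← Subgroup.map_subtype_commutator] at h1
    obtain ⟨c, hc1, hc2⟩ := h1
    have h2 : c = α a * a⁻¹ := by
      apply Subtype.ext
      rw [Subgroup.coe_mul, Subgroup.coe_inv, hα, conjHom_apply]
      exact hc2
    rw [← h2]
    exact Cfsg.Agent.Lib.Helper63.PFrattini.commutator_le_frattini hA hc1
  have hker := Cfsg.Agent.Lib.Helper70.HallHigman.isPGroup_frattiniKer hA
  obtain ⟨k, hk⟩ := hker ⟨α, hmem⟩
  have h1 : α ^ p ^ k = 1 := by simpa using congrArg Subtype.val hk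
  have h2 : α ^ orderOf x = 1 := by
    rw [hα, ← map_pow]
    have : (⟨x, hx⟩ : ↥(Subgroup.normalizer (A : Set G))) ^ orderOf x = 1 := by
      apply Subtype.ext
      simp [pow_orderOf_eq_one]
    rw [this, map_one]
  have h3 : orderOf α ∣ (orderOf x).gcd (p ^ k) :=
    Nat.dvd_gcd (orderOf_dvd_of_pow_eq_one h2) (orderOf_dvd_of_pow_eq_one h1)
  have h4 : (orderOf x).gcd (p ^ k) = 1 := Nat.Coprime.pow_right k hc
  rw [h4, Nat.dvd_one, orderOf_eq_one_iff] at h3
  intro a ha
  have h5 := conjHom_apply A ⟨x, hx⟩ ⟨a, ha⟩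
  rw [← hα, h3] at h5
  simpa using h5.symm

end Cfsg.Agent.Lib.Helper47.Burn
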