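import Mathlib
import Cfsg.Agent.Lib.Helper47.Burn
import Cfsg.Agent.Lib.Helper47.Syl
import Cfsg.Agent.Lib.Helper47.PRes
import Cfsg.Agent.Lib.Helper47.Cent
import Cfsg.Agent.Lib.Helper47.Frat

set_option autoImplicit false

namespace Cfsg.Agent.Lib.Helper47.SecCent

open Cfsg Cfsg.Agent.Lib.Helper47.Syl Cfsg.Agent.Lib.Helper47.Cent Cfsg.Agent.Lib.Helper47.PRes

variable {G : Type*} [Group G]

/-- the elements normalizing `V` and centralizing `U` modulo `V` -/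
def secCent (U V : Subgroup G) : Subgroup G where
  carrier := {x | x ∈ Subgroup.normalizer (V : Set G) ∧ ∀ u ∈ U, x * u * x⁻¹ * u⁻¹ ∈ V}
  one_mem' := ⟨Subgroup.one_mem _, fun u _ => by simp⟩
  mul_mem' := by
    rintro x y ⟨hx, hxu⟩ ⟨hy, hyu⟩
    refine ⟨Subgroup.mul_mem _ hx hy, fun u hu => ?_⟩
    have h1 := conj_mem_of_mem_normalizer hx (hyu u hu)
    have h2 := V.mul_mem h1 (hxu u hu)
    have h3 : x * (y * u * y⁻¹ * u⁻¹) * x⁻¹ * (x * u * x⁻¹ * u⁻¹) =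
        x * y * u * (x * y)⁻¹ * u⁻¹ := by group
    rwa [h3] at h2
  inv_mem' := by
    rintro x ⟨hx, hxu⟩
    refine ⟨Subgroup.inv_mem _ hx, fun u hu => ?_⟩
    have h1 := conj_mem_of_mem_normalizer' hx (V.inv_mem (hxu u hu))
    have h3 : x⁻¹ * (x * u * x⁻¹ * u⁻¹)⁻¹ * x = x⁻¹ * u * x⁻¹⁻¹ * u⁻¹ := by group
    rwa [h3] at h1

theorem mem_secCent {U V : Subgroup G} {x : G} :
    x ∈ secCent U V ↔
      x ∈ Subgroup.normalizer (V : Set G) ∧ ∀ u ∈ U, x * u * x⁻¹ * u⁻¹ ∈ V := Iff.rfl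

theorem conj_mem_secCent {U V : Subgroup G} {g : G} (hU : g ∈ Subgroup.normalizer (U : Set G))
    (hV : g ∈ Subgroup.normalizer (V : Set G)) {x : G} (hx : x ∈ secCent U V) :
    g * x * g⁻¹ ∈ secCent U V := by
  obtain ⟨hxV, hxu⟩ := hx
  refine ⟨Subgroup.mul_mem _ (Subgroup.mul_mem _ hV hxV) (Subgroup.inv_mem _ hV), fun u hu => ?_⟩
  have h1 := hxu _ (conj_mem_of_mem_normalizer' hU hu)
  have h2 := conj_mem_of_mem_normalizer hV h1
  have h3 : g * (x * (g⁻¹ * u * g) * x⁻¹ * (g⁻¹ * u * g)⁻¹) * g⁻¹ =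
      g * x * g⁻¹ * u * (g * x * g⁻¹)⁻¹ * u⁻¹ := by group
  rwa [h3] at h2

theorem mem_normalizer_secCent {U V : Subgroup G} {g : G}
    (hU : g ∈ Subgroup.normalizer (U : Set G)) (hV : g ∈ Subgroup.normalizer (V : Set G)) :
    g ∈ Subgroup.normalizer ((secCent U V : Subgroup G) : Set G) := by
  rw [Subgroup.mem_normalizer_iff]
  intro x
  refine ⟨fun hx => conj_mem_secCent hU hV hx, fun hx => ?_⟩
  have h1 := conj_mem_secCent (Subgroup.inv_mem _ hU) (Subgroup.inv_mem _ hV) hx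
  have h2 : g⁻¹ * (g * x * g⁻¹) * g⁻¹⁻¹ = x := by group
  rwa [h2] at h1

/-- `N(E) ≤ N(O_p(E))` -/
theorem normalizer_le_normalizer_pCoreOf [Finite G] (p : ℕ) (E : Subgroup G) :
    Subgroup.normalizer (E : Set G) ≤ Subgroup.normalizer ((pCoreOf p E : Subgroup G) : Set G) := by
  intro g hg
  apply mem_normalizer_of_map_conj_le
  apply le_pCoreOf
  · intro x hx
    have h1 := mem_map_conj.mp hx
    have h2 := conj_mem_of_mem_normalizer hg (pCoreOf_le p E h1)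
    have h3 : g * (g⁻¹ * x * g) * g⁻¹ = x := by group
    rwa [h3] at h2
  · intro e he
    rw [mem_normalizer_map_conj]
    exact le_normalizer_pCoreOf p E (conj_mem_of_mem_normalizer' hg he)
  · exact (pCoreOf_isPGroup p E).map _

/-- a criterion for `Y ≤ O_p(L)`: `A` a normal `p`-subgroup of `L`, `Y` centralizes `A/A'`
and centralizes `C_L(A)` modulo `O_p(C_L(A))` -/
theorem le_pCoreOf_of_secCent [Finite G] {p : ℕ} [Fact p.Prime] {L A Y : Subgroup G}
    (hA : IsPGroup p ↥A) (hLA : L ≤ Subgroup.normalizer (A : Set G)) (hY : IsPGroup p ↥Y)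
    (hYL : Y ≤ L) (h1 : ∀ y ∈ Y, ∀ a ∈ A, y * a * y⁻¹ * a⁻¹ ∈ ⁅A, A⁆)
    (h2 : ∀ y ∈ Y, ∀ e ∈ L ⊓ Subgroup.centralizer (A : Set G),
      y * e * y⁻¹ * e⁻¹ ∈ pCoreOf p (L ⊓ Subgroup.centralizer (A : Set G))) :
    Y ≤ pCoreOf p L := by
  set E : Subgroup G := L ⊓ Subgroup.centralizer (A : Set G) with hE
  set R : Subgroup G := pCoreOf p E with hR
  have hLE : L ≤ Subgroup.normalizer (E : Set G) := fun l hl =>
    normalizer_inf_le _ _ ⟨Subgroup.le_normalizer hl, normalizer_le_normalizer_centralizer A (hLA hl)⟩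
  have hLR : L ≤ Subgroup.normalizer (R : Set G) :=
    hLE.trans (normalizer_le_normalizer_pCoreOf p E)
  have hLA' : L ≤ Subgroup.normalizer ((⁅A, A⁆ : Subgroup G) : Set G) :=
    hLA.trans (Frat.normalizer_le_normalizer_commutator A)
  set N : Subgroup G := L ⊓ secCent A ⁅A, A⁆ ⊓ secCent E R with hN
  have hNL : N ≤ L := inf_le_left.trans inf_le_left
  have hLN : L ≤ Subgroup.normalizer (N : Set G) := fun l hl =>
    normalizer_inf_le _ _ ⟨normalizer_inf_le _ _ ⟨Subgroup.le_normalizer hl,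
      mem_normalizer_secCent (hLA hl) (hLA' hl)⟩, mem_normalizer_secCent (hLE hl) (hLR hl)⟩
  have hYN : Y ≤ N := fun y hy =>
    ⟨⟨hYL hy, hLA' (hYL hy), h1 y hy⟩, hLR (hYL hy), h2 y hy⟩
  obtain ⟨P, hP, hYP⟩ := exists_isSyl_ge hY hYN
  have hRN : R ⊓ N ≤ P := by
    refine le_trans (le_pCoreOf inf_le_right ?_ ((pCoreOf_isPGroup p E).to_le inf_le_left))
      hP.pCoreOf_le
    exact fun n hn => normalizer_inf_le _ _ ⟨hLR (hNL hn), Subgroup.le_normalizer hn⟩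
  have hcop : ∀ x ∈ N, (orderOf x).Coprime p → x ∈ Subgroup.normalizer (P : Set G) := by
    intro x hx hc
    have hxL : x ∈ L := hNL hx
    have hxA := Burn.conj_eq_of_comm_mem_commutator hA (hLA hxL) hc hx.1.2.2
    have hxC : x ∈ Subgroup.centralizer (A : Set G) := by
      rw [Subgroup.mem_centralizer_iff]
      intro a ha
      have := hxA a ha
      calc a * x = (x * a * x⁻¹) * x := by rw [this]
        _ = x * a := by group
    have hxE : x ∈ E := ⟨hxL, hxC⟩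
    apply mem_normalizer_of_map_conj_le
    intro z hz
    have hs := mem_map_conj.mp hz
    have hsN : x⁻¹ * z * x ∈ N := hP.1 hs
    have h3 := hsN.2.2 x hxE
    have h4 : (x⁻¹ * z * x * x * (x⁻¹ * z * x)⁻¹ * x⁻¹)⁻¹ ∈ R ⊓ N :=
      ⟨R.inv_mem h3, N.inv_mem (N.mul_mem (N.mul_mem (N.mul_mem hsN hx) (N.inv_mem hsN))
        (N.inv_mem hx))⟩
    have h5 := P.mul_mem (hRN h4) hs
    have h6 : (x⁻¹ * z * x * x * (x⁻¹ * z * x)⁻¹ * x⁻¹)⁻¹ * (x⁻¹ * z * x) = z := by group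
    rwa [h6] at h5
  have hNP : N ≤ Subgroup.normalizer (P : Set G) := by
    intro n hn
    obtain ⟨t, ht, r, hr, rfl⟩ := exists_mul_pResOf hP hn
    exact Subgroup.mul_mem _ (Subgroup.le_normalizer ht) (pResOf_le_of_coprime_mem hcop hr)
  have hLP : L ≤ Subgroup.normalizer (P : Set G) := by
    intro l hl
    rw [mem_normalizer_iff_map_conj]
    have h3 := hP.map_conj l
    rw [map_conj_eq_of_mem_normalizer (hLN hl)] at h3
    exact hP.eq_of_normal hNP h3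
  exact hYP.trans (le_pCoreOf (hP.1.trans hNL) hLP hP.2.1)

end Cfsg.Agent.Lib.Helper47.SecCent
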