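import Mathlib
import Cfsg.Agent.Lib.Helper47.SecCent
import Cfsg.Agent.Lib.Helper47.FrakM2

set_option autoImplicit false

namespace Cfsg.Agent.Lib.Helper47.FrakH

open Cfsg Cfsg.Agent.Lib.Helper47.Syl Cfsg.Agent.Lib.Helper47.Cent Cfsg.Agent.Lib.Helper47.PRes
  Cfsg.Agent.Lib.Helper47.SecCent
open scoped commutatorElement

variable {G : Type*} [Group G]

/-- the largest subgroup of `T` all of whose `H`-conjugates lie in `T` -/
def coreIn (T H : Subgroup G) : Subgroup G where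
  carrier := {x | ∀ g ∈ H, g * x * g⁻¹ ∈ T}
  one_mem' := fun g _ => by simp
  mul_mem' := by
    intro x y hx hy g hg
    have h := T.mul_mem (hx g hg) (hy g hg)
    have h3 : g * x * g⁻¹ * (g * y * g⁻¹) = g * (x * y) * g⁻¹ := by group
    rwa [h3] at h
  inv_mem' := by
    intro x hx g hg
    have h := T.inv_mem (hx g hg)
    have h3 : (g * x * g⁻¹)⁻¹ = g * x⁻¹ * g⁻¹ := by group
    rwa [h3] at h

theorem coreIn_le (T H : Subgroup G) : coreIn T H ≤ T := fun x hx => by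
  have := hx 1 H.one_mem
  simpa using this

theorem le_normalizer_coreIn (T H : Subgroup G) :
    H ≤ Subgroup.normalizer ((coreIn T H : Subgroup G) : Set G) := by
  have key : ∀ g ∈ H, ∀ x ∈ coreIn T H, g * x * g⁻¹ ∈ coreIn T H := by
    intro g hg x hx h hh
    have := hx (h * g) (H.mul_mem hh hg)
    have h3 : h * g * x * (h * g)⁻¹ = h * (g * x * g⁻¹) * h⁻¹ := by group
    rwa [h3] at this
  intro g hg
  rw [Subgroup.mem_normalizer_iff]
  intro x
  refine ⟨fun hx => key g hg x hx, fun hx => ?_⟩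
  have := key g⁻¹ (H.inv_mem hg) _ hx
  have h2 : g⁻¹ * (g * x * g⁻¹) * g⁻¹⁻¹ = x := by group
  rwa [h2] at this

/-- a subgroup all of whose `H`-conjugates lie in a `p`-subgroup of `H` lies in `O_p(H)` -/
theorem le_pCoreOf_of_conj_mem {p : ℕ} {W T H : Subgroup G} (hT : IsPGroup p ↥T) (hTH : T ≤ H)
    (h : ∀ g ∈ H, ∀ w ∈ W, g * w * g⁻¹ ∈ T) : W ≤ pCoreOf p H := by
  have h1 : W ≤ coreIn T H := fun w hw g hg => h g hg w hw
  exact h1.trans (le_pCoreOf ((coreIn_le T H).trans hTH) (le_normalizer_coreIn T H)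
    (hT.to_le (coreIn_le T H)))

/-- `O_p(P) ≤ O_p(H)` for `O^p(H) ≤ P ≤ H` -/
theorem pCoreOf_le_pCoreOf_of_pResOf_le [Finite G] {p : ℕ} [Fact p.Prime] {P H : Subgroup G}
    (hRP : pResOf p H ≤ P) (hPH : P ≤ H) : pCoreOf p P ≤ pCoreOf p H := by
  obtain ⟨TP, hTP⟩ := exists_isSyl p P
  obtain ⟨T, hT, hTPT⟩ := exists_isSyl_ge hTP.2.1 (hTP.1.trans hPH)
  apply le_pCoreOf_of_conj_mem hT.2.1 hT.1
  intro g hg w hw
  obtain ⟨t, ht, r, hr, rfl⟩ := exists_mul_pResOf hT hg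
  have h1 : r * w * r⁻¹ ∈ pCoreOf p P :=
    conj_mem_of_mem_normalizer (le_normalizer_pCoreOf p P (hRP hr)) hw
  have h2 := T.mul_mem (T.mul_mem ht (hTPT (hTP.pCoreOf_le h1))) (T.inv_mem ht)
  have h3 : t * (r * w * r⁻¹) * t⁻¹ = t * r * w * (t * r)⁻¹ := by group
  rwa [h3] at h2

/-- `O_p(X) ≤ O_p(H)` for `X` normal in `H` -/
theorem pCoreOf_le_pCoreOf_of_normal [Finite G] {p : ℕ} {X H : Subgroup G} (hXH : X ≤ H)
    (hHX : H ≤ Subgroup.normalizer (X : Set G)) : pCoreOf p X ≤ pCoreOf p H :=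
  le_pCoreOf ((pCoreOf_le p X).trans hXH) (hHX.trans (normalizer_le_normalizer_pCoreOf p X))
    (pCoreOf_isPGroup p X)

/-- for `H ∈ ℌ_G(O_p(M))`: a normal subgroup of `H` containing `Y_M` supplements `O_p(M)` -/
theorem sup_eq_of_frakH [Finite G] {p : ℕ} {M H X : Subgroup G} (hH : IsInFrakH p M H)
    (hXH : X ≤ H) (hHX : H ≤ Subgroup.normalizer (X : Set G))
    (hYX : largestPReducedOf p M ≤ X) : X ⊔ pCoreOf p M = H := by
  obtain ⟨_, hOH, hYH, hmin⟩ := hH
  by_contra hne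
  have hlt : X ⊔ pCoreOf p M < H := lt_of_le_of_ne (sup_le hXH hOH) hne
  have hY := hmin _ le_sup_right hlt
  apply hYH
  have h1 : pCoreOf p (X ⊔ pCoreOf p M) ⊓ X ≤ pCoreOf p X := by
    refine le_pCoreOf inf_le_right ?_ ((pCoreOf_isPGroup p _).to_le inf_le_left)
    intro x hx
    exact normalizer_inf_le _ _ ⟨le_normalizer_pCoreOf p _ (le_sup_left (a := X) hx),
      Subgroup.le_normalizer hx⟩
  exact (le_inf hY hYX).trans (h1.trans (pCoreOf_le_pCoreOf_of_normal hXH hHX))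

/-- a `p'`-element of `X B`, `B` a `p`-group normalizing `X`, lies in `X` -/
theorem mem_of_coprime_of_mem_sup {p : ℕ} {X B : Subgroup G} (hB : IsPGroup p ↥B)
    (hBX : B ≤ Subgroup.normalizer (X : Set G)) {x : G} (hx : x ∈ X ⊔ B)
    (hc : (orderOf x).Coprime p) : x ∈ X := by
  obtain ⟨a, ha, b, hb, rfl⟩ := exists_mul_of_mem_sup_right hBX hx
  have key : ∀ n : ℕ, (a * b) ^ n * (b ^ n)⁻¹ ∈ X := by
    intro n
    induction n with
    | zero => simp
    | succ n ih =>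
      have h1 := conj_mem_of_mem_normalizer (hBX (B.pow_mem hb n)) ha
      have h2 := X.mul_mem ih h1
      have h3 : (a * b) ^ n * (b ^ n)⁻¹ * (b ^ n * a * (b ^ n)⁻¹) =
          (a * b) ^ (n + 1) * (b ^ (n + 1))⁻¹ := by
        rw [pow_succ, pow_succ]; group
      rwa [h3] at h2
  obtain ⟨k, hk⟩ := hB ⟨b, hb⟩
  have hk' : b ^ p ^ k = 1 := by
    have := congrArg Subtype.val hk
    simpa using this
  have h4 := key (p ^ k)
  rw [hk', inv_one, mul_one] at h4
  exact coprime_mem_of_pow_mem hc h4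

/-- `O^p(H) ≤ X` when `H = X B` with `B` a `p`-group normalizing `X` -/
theorem pResOf_le_of_sup_eq {p : ℕ} {X B H : Subgroup G} (hB : IsPGroup p ↥B)
    (hBX : B ≤ Subgroup.normalizer (X : Set G)) (h : X ⊔ B = H) : pResOf p H ≤ X :=
  pResOf_le_of_coprime_mem fun _ hx hc => mem_of_coprime_of_mem_sup hB hBX (h ▸ hx) hc

/-- `N(A) ⊓ N(B) ≤ N(A ⊔ B)` -/
theorem mem_normalizer_sup {A B : Subgroup G} {g : G}
    (hA : g ∈ Subgroup.normalizer (A : Set G)) (hB : g ∈ Subgroup.normalizer (B : Set G)) :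
    g ∈ Subgroup.normalizer ((A ⊔ B : Subgroup G) : Set G) := by
  rw [mem_normalizer_iff_map_conj] at hA hB ⊢
  rw [Subgroup.map_sup, hA, hB]

/-- `N(A) ⊓ N(B) ≤ N([A, B])` -/
theorem mem_normalizer_commutator {A B : Subgroup G} {g : G}
    (hA : g ∈ Subgroup.normalizer (A : Set G)) (hB : g ∈ Subgroup.normalizer (B : Set G)) :
    g ∈ Subgroup.normalizer ((⁅A, B⁆ : Subgroup G) : Set G) := by
  rw [mem_normalizer_iff_map_conj] at hA hB ⊢
  rw [Subgroup.map_commutator, hA, hB]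

/-- `[A, B] ≤ A` when `B` normalizes `A` -/
theorem commutator_le_left {A B : Subgroup G} (hB : B ≤ Subgroup.normalizer (A : Set G)) :
    ⁅A, B⁆ ≤ A := by
  rw [Subgroup.commutator_le]
  intro a ha b hb
  have h1 := A.mul_mem ha (A.inv_mem (conj_mem_of_mem_normalizer (hB hb) ha))
  have h2 : a * (b * a * b⁻¹)⁻¹ = ⁅a, b⁆ := by rw [commutatorElement_def]; group
  rwa [h2] at h1

/-- `A ≤ N([A, B])` -/
theorem le_normalizer_commutator_left [Finite G] (A B : Subgroup G) :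
    A ≤ Subgroup.normalizer ((⁅A, B⁆ : Subgroup G) : Set G) := by
  intro r hr
  apply mem_normalizer_of_map_conj_le
  rw [Subgroup.map_le_iff_le_comap, Subgroup.commutator_le]
  intro a ha b hb
  rw [Subgroup.mem_comap]
  have h1 : (MulAut.conj r).toMonoidHom ⁅a, b⁆ = ⁅r * a, b⁆ * ⁅r, b⁆⁻¹ := by
    simp only [MulEquiv.toMonoidHom_eq_coe, MonoidHom.coe_coe, MulAut.conj_apply,
      commutatorElement_def]
    group
  rw [h1]
  exact Subgroup.mul_mem _ (Subgroup.commutator_mem_commutator (A.mul_mem hr ha) hb)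
    (Subgroup.inv_mem _ (Subgroup.commutator_mem_commutator hr hb))

/-- `B ≤ N([A, B])` -/
theorem le_normalizer_commutator_right [Finite G] (A B : Subgroup G) :
    B ≤ Subgroup.normalizer ((⁅A, B⁆ : Subgroup G) : Set G) := by
  rw [Subgroup.commutator_comm]
  exact le_normalizer_commutator_left B A

/-- the normal closure of `Y` in `H`, as a subgroup of the ambient group -/
def nclIn (Y H : Subgroup G) : Subgroup G :=
  (Subgroup.normalClosure ((Y.subgroupOf H : Subgroup ↥H) : Set ↥H)).map H.subtype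

theorem le_nclIn {Y H : Subgroup G} (hYH : Y ≤ H) : Y ≤ nclIn Y H := fun y hy =>
  ⟨⟨y, hYH hy⟩, Subgroup.subset_normalClosure (Subgroup.mem_subgroupOf.mpr hy), rfl⟩

theorem nclIn_le (Y H : Subgroup G) : nclIn Y H ≤ H := Subgroup.map_subtype_le _

theorem le_normalizer_nclIn (Y H : Subgroup G) :
    H ≤ Subgroup.normalizer ((nclIn Y H : Subgroup G) : Set G) :=
  le_normalizer_map_subtype _

theorem nclIn_le_of {Y H X : Subgroup G} (hYX : Y ≤ X)
    (hHX : H ≤ Subgroup.normalizer (X : Set G)) : nclIn Y H ≤ X := by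
  have hn : (X.subgroupOf H).Normal := Subgroup.normal_subgroupOf_of_le_normalizer hHX
  have h1 : Subgroup.normalClosure ((Y.subgroupOf H : Subgroup ↥H) : Set ↥H) ≤ X.subgroupOf H :=
    Subgroup.normalClosure_le_normal fun y hy =>
      Subgroup.mem_subgroupOf.mpr (hYX (Subgroup.mem_subgroupOf.mp hy))
  rintro _ ⟨y, hy, rfl⟩
  exact Subgroup.mem_subgroupOf.mp (h1 hy)

end Cfsg.Agent.Lib.Helper47.FrakH
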