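import Mathlib
import Cfsg.Prelude.Def_LocalStructure
import Cfsg.Agent.Lib.Helper21.Quasi
import Cfsg.Agent.Lib.Helper47.Syl
import Cfsg.Agent.Lib.Helper47.PRes
import Cfsg.Agent.Lib.Helper47.PRed

set_option autoImplicit false

namespace Cfsg.Agent.Lib.Helper47.Qs

open Cfsg
open Cfsg.Agent.Lib.Helper47.Syl Cfsg.Agent.Lib.Helper47.PRes Cfsg.Agent.Lib.Helper47.PRed
open scoped commutatorElement

variable {G : Type*} [Group G]

/-- a subgroup of a quasisimple subgroup `K` normalized by `K` is `K` or central in `K` -/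
theorem eq_or_le_centralizer {K A : Subgroup G} (hq : IsQuasisimple ↥K) (hAK : A ≤ K)
    (hn : K ≤ Subgroup.normalizer (A : Set G)) :
    A = K ∨ A ≤ Subgroup.centralizer (K : Set G) := by
  have hN : (A.subgroupOf K).Normal := Subgroup.normal_subgroupOf_of_le_normalizer hn
  rcases Cfsg.Agent.Lib.Helper21.Quasi.normal_eq_top_or_le_center hq (A.subgroupOf K) with h | h
  · left
    exact le_antisymm hAK (Subgroup.subgroupOf_eq_top.mp h)
  · right
    intro a ha
    rw [Subgroup.mem_centralizer_iff]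
    intro k hk
    have h1 : (⟨a, hAK ha⟩ : K) ∈ Subgroup.center K := h (Subgroup.mem_subgroupOf.mpr ha)
    have h2 := Subgroup.mem_center_iff.mp h1 ⟨k, hk⟩
    exact congrArg Subtype.val h2

/-- if `[C, K]` centralizes the perfect subgroup `K` then so does `C` -/
theorem le_centralizer_of_commutator_le {K C : Subgroup G} (hperf : ⁅K, K⁆ = K)
    (h : ⁅C, K⁆ ≤ Subgroup.centralizer (K : Set G)) : C ≤ Subgroup.centralizer (K : Set G) := by
  have h1 : ⁅⁅C, K⁆, K⁆ = ⊥ := Subgroup.commutator_eq_bot_iff_le_centralizer.mpr h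
  have h2 : ⁅⁅K, C⁆, K⁆ = ⊥ := by rw [Subgroup.commutator_comm K C]; exact h1
  have h3 : ⁅⁅K, K⁆, C⁆ = ⊥ := Subgroup.commutator_commutator_eq_bot_of_rotate h2 h1
  rw [hperf] at h3
  exact le_centralizer_comm (Subgroup.commutator_eq_bot_iff_le_centralizer.mp h3)

/-- `[A, B]` is normalized by `A` -/
theorem conj_mem_commutator {A B : Subgroup G} {a x : G} (ha : a ∈ A) (hx : x ∈ ⁅A, B⁆) :
    a * x * a⁻¹ ∈ ⁅A, B⁆ := by
  have h : ⁅A, B⁆ ≤ (⁅A, B⁆).comap (MulAut.conj a).toMonoidHom := by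
    rw [Subgroup.commutator_le]
    intro k hk y hy
    rw [Subgroup.mem_comap]
    have e : (MulAut.conj a).toMonoidHom ⁅k, y⁆ = ⁅a * k, y⁆ * ⁅a, y⁆⁻¹ := by
      simp only [MulEquiv.coe_toMonoidHom, MulAut.conj_apply, commutatorElement_def]
      group
    rw [e]
    exact Subgroup.mul_mem _ (Subgroup.commutator_mem_commutator (A.mul_mem ha hk) hy)
      (Subgroup.inv_mem _ (Subgroup.commutator_mem_commutator ha hy))
  have h2 := h hx
  rw [Subgroup.mem_comap] at h2
  simpa [MulAut.conj_apply] using h2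

theorem le_normalizer_commutator (A B : Subgroup G) :
    A ≤ Subgroup.normalizer ((⁅A, B⁆ : Subgroup G) : Set G) :=
  le_normalizer_of_conj_mem fun _ ha _ hx => conj_mem_commutator ha hx

/-- a `p`-group of order prime to `p` is trivial -/
theorem eq_bot_of_isPGroup_of_coprime [Finite G] {p : ℕ} [hp : Fact p.Prime] {Y : Subgroup G}
    (hY : IsPGroup p Y) (hc : (Nat.card Y).Coprime p) : Y = ⊥ := by
  obtain ⟨n, hn⟩ := hY.exists_card_eq
  cases n with
  | zero => exact Subgroup.eq_bot_of_card_eq Y (by rw [hn, pow_zero])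
  | succ m =>
    exfalso
    have hdvd : p ∣ Nat.card Y := by rw [hn]; exact dvd_pow_self p (Nat.succ_ne_zero m)
    exact hp.out.ne_one (hc.symm.eq_one_of_dvd hdvd)

/-- a perfect subgroup lies in `O^p` -/
theorem perfect_le_pResidual [Finite G] {p : ℕ} [Fact p.Prime] {J : Subgroup G}
    (hperf : Group.IsPerfect ↥J) : J ≤ pResidual p G := by
  have hN : (pResidual p ↥J).Normal := pResidual_normal p J
  have hpg : IsPGroup p (↥J ⧸ pResidual p ↥J) := by
    intro q
    obtain ⟨x, rfl⟩ := QuotientGroup.mk_surjective q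
    obtain ⟨k, hk⟩ := exists_pow_mem_pResOf (p := p) (L := (⊤ : Subgroup J)) (Subgroup.mem_top x)
    rw [pResOf_top] at hk
    refine ⟨k, ?_⟩
    rw [← QuotientGroup.mk_pow]
    exact (QuotientGroup.eq_one_iff _).mpr hk
  have hnil : Group.IsNilpotent (↥J ⧸ pResidual p ↥J) := hpg.isNilpotent
  have hperfq : Group.IsPerfect (↥J ⧸ pResidual p ↥J) := inferInstance
  have hsub : Subsingleton (↥J ⧸ pResidual p ↥J) := by
    by_contra hns
    rw [not_subsingleton_iff_nontrivial] at hns
    exact Group.IsPerfect.not_isNilpotent (G := ↥J ⧸ pResidual p ↥J) hnil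
  have htop : pResidual p ↥J = ⊤ := QuotientGroup.subgroup_eq_top_of_subsingleton _ hsub
  have h1 : pResOf p J = J := by
    unfold pResOf
    rw [htop, ← MonoidHom.range_eq_map, Subgroup.range_subtype]
  have h2 : pResOf p J ≤ pResOf p (⊤ : Subgroup G) := pResOf_mono le_top
  rw [h1, pResOf_top] at h2
  exact h2

end Cfsg.Agent.Lib.Helper47.Qs
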