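import Mathlib
import Cfsg.Agent.Lib.Helper47.FrakH
import Cfsg.Agent.S2838
import Cfsg.Agent.S2839

set_option autoImplicit false

namespace Cfsg.Agent.Lib.Helper47.WeakCl

open Cfsg Cfsg.Agent.Lib.Helper47.Syl Cfsg.Agent.Lib.Helper47.Cent Cfsg.Agent.Lib.Helper47.PRes
  Cfsg.Agent.Lib.Helper47.SecCent Cfsg.Agent.Lib.Helper47.FrakH
open scoped commutatorElement

variable {G : Type*} [Group G]

/-- `X` is generated by its own conjugates of `Q` (universal form) -/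
def Gen (Q X : Subgroup G) : Prop :=
  Q ≤ X ∧ ∀ N : Subgroup G, Q ≤ N → X ≤ Subgroup.normalizer (N : Set G) → X ≤ N

theorem weakClosure_le (Q L : Subgroup G) : weakClosure Q L ≤ L :=
  iSup_le fun g => g.2

theorem map_conj_le_weakClosure {Q L : Subgroup G} {g : G}
    (h : Q.map (MulAut.conj g).toMonoidHom ≤ L) :
    Q.map (MulAut.conj g).toMonoidHom ≤ weakClosure Q L :=
  le_iSup (fun g : {g : G // Q.map (MulAut.conj g).toMonoidHom ≤ L} =>
    Q.map (MulAut.conj (g : G)).toMonoidHom) ⟨g, h⟩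

theorem le_weakClosure {Q L : Subgroup G} (hQL : Q ≤ L) : Q ≤ weakClosure Q L := by
  have h : Q.map (MulAut.conj (1 : G)).toMonoidHom ≤ L := by rw [map_conj_one]; exact hQL
  have := map_conj_le_weakClosure h
  rwa [map_conj_one] at this

theorem weakClosure_mono {Q L L' : Subgroup G} (h : L ≤ L') : weakClosure Q L ≤ weakClosure Q L' :=
  iSup_le fun g => map_conj_le_weakClosure (g.2.trans h)

/-- `N(L) ≤ N(L°)` -/
theorem normalizer_le_normalizer_weakClosure [Finite G] (Q L : Subgroup G) :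
    Subgroup.normalizer (L : Set G) ≤
      Subgroup.normalizer ((weakClosure Q L : Subgroup G) : Set G) := by
  intro l hl
  apply mem_normalizer_of_map_conj_le
  unfold weakClosure
  rw [Subgroup.map_iSup]
  apply iSup_le
  rintro ⟨g, hg⟩
  rw [map_conj_map_conj]
  apply map_conj_le_weakClosure
  rw [← map_conj_map_conj]
  have := Subgroup.map_mono (f := (MulAut.conj l).toMonoidHom) hg
  rwa [map_conj_eq_of_mem_normalizer hl] at this

/-- for a weakly closed `Q ≤ L`, the weak closure of `Q` in `L` is generated by its own conjugates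
of `Q` -/
theorem gen_weakClosure [Finite G] {p : ℕ} [Fact p.Prime] {Q L : Subgroup G} (hQp : IsPGroup p ↥Q)
    (hQ1 : Q ≠ ⊥) (hwc : IsWeaklyClosedSubgroup p Q) (hQL : Q ≤ L) : Gen Q (weakClosure Q L) := by
  refine ⟨le_weakClosure hQL, fun N hQN hXN => ?_⟩
  apply iSup_le
  rintro ⟨g, hg⟩
  obtain ⟨k, hk, hgk⟩ := (Cfsg.Agent.S2839.result Q hQp hQ1 hwc (weakClosure Q L)
    (le_weakClosure hQL) ⊥).2.1 g (map_conj_le_weakClosure hg)
  show Q.map (MulAut.conj g).toMonoidHom ≤ N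
  rw [hgk]
  have := Subgroup.map_mono (f := (MulAut.conj k).toMonoidHom) hQN
  rwa [map_conj_eq_of_mem_normalizer (hXN hk)] at this

/-- a `p`-subgroup containing the weakly closed subgroup `Q` normalizes it -/
theorem le_normalizer_of_wc [Finite G] {p : ℕ} [Fact p.Prime] {Q T : Subgroup G}
    (hQp : IsPGroup p ↥Q) (hQ1 : Q ≠ ⊥) (hwc : IsWeaklyClosedSubgroup p Q) (hT : IsPGroup p ↥T)
    (hQT : Q ≤ T) : T ≤ Subgroup.normalizer (Q : Set G) :=
  Subgroup.le_normalizer.trans (((Cfsg.Agent.S2838.result Q hQp hQ1).2.mp hwc) T hT hQT)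

/-- `X = O^p(X) Q` when `X` is generated by its conjugates of the weakly closed `p`-subgroup
`Q` -/
theorem Gen.pRes_sup [Finite G] {p : ℕ} [Fact p.Prime] {Q X : Subgroup G} (hQp : IsPGroup p ↥Q)
    (hQ1 : Q ≠ ⊥) (hwc : IsWeaklyClosedSubgroup p Q) (h : Gen Q X) : pResOf p X ⊔ Q = X := by
  apply le_antisymm (sup_le (pResOf_le p X) h.1)
  apply h.2 _ le_sup_right
  obtain ⟨T, hT, hQT⟩ := exists_isSyl_ge hQp h.1
  have hTQ := le_normalizer_of_wc hQp hQ1 hwc hT.2.1 hQT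
  intro x hx
  obtain ⟨t, ht, r, hr, rfl⟩ := exists_mul_pResOf hT hx
  exact Subgroup.mul_mem _ (mem_normalizer_sup (le_normalizer_pResOf p X (hT.1 ht)) (hTQ ht))
    (Subgroup.le_normalizer (Subgroup.mem_sup_left hr))

/-- `O^p(X) = [O^p(X), Q]` when `X` is generated by its conjugates of the weakly closed
`p`-subgroup `Q` -/
theorem Gen.pRes_comm [Finite G] {p : ℕ} [Fact p.Prime] {Q X : Subgroup G} (hQp : IsPGroup p ↥Q)
    (hQ1 : Q ≠ ⊥) (hwc : IsWeaklyClosedSubgroup p Q) (h : Gen Q X) :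
    ⁅pResOf p X, Q⁆ = pResOf p X := by
  have hXR : X ≤ Subgroup.normalizer ((pResOf p X : Subgroup G) : Set G) := le_normalizer_pResOf p X
  have hQR : Q ≤ Subgroup.normalizer ((pResOf p X : Subgroup G) : Set G) := h.1.trans hXR
  have hWR : ⁅pResOf p X, Q⁆ ≤ pResOf p X := commutator_le_left hQR
  apply le_antisymm hWR
  have hQW : Q ≤ Subgroup.normalizer ((⁅pResOf p X, Q⁆ : Subgroup G) : Set G) :=
    le_normalizer_commutator_right _ _
  have hRW : pResOf p X ≤ Subgroup.normalizer ((⁅pResOf p X, Q⁆ : Subgroup G) : Set G) :=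
    le_normalizer_commutator_left _ _
  have hXW : X ≤ Subgroup.normalizer ((⁅pResOf p X, Q⁆ ⊔ Q : Subgroup G) : Set G) := by
    refine (h.pRes_sup hQp hQ1 hwc).ge.trans ?_
    refine sup_le ?_ (le_sup_right.trans Subgroup.le_normalizer)
    intro r hr
    apply mem_normalizer_of_map_conj_le
    rw [Subgroup.map_sup]
    refine sup_le ?_ ?_
    · rw [map_conj_eq_of_mem_normalizer (hRW hr)]
      exact le_sup_left
    · rintro _ ⟨q, hq, rfl⟩
      have h1 : (MulAut.conj r).toMonoidHom q = ⁅r, q⁆ * q := by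
        simp [commutatorElement_def, MulAut.conj_apply]
      rw [h1]
      exact Subgroup.mul_mem _ (Subgroup.mem_sup_left (Subgroup.commutator_mem_commutator hr hq))
        (Subgroup.mem_sup_right hq)
  have hX : ⁅pResOf p X, Q⁆ ⊔ Q = X :=
    le_antisymm (sup_le (hWR.trans (pResOf_le p X)) h.1) (h.2 _ le_sup_right hXW)
  exact pResOf_le_of_sup_eq hQp hQW hX

/-- for a central `z`, `⁅z * x, w⁆ = ⁅x, w⁆` -/
theorem comm_central_mul_left {H : Type*} [Group H] {z : H} (hz : ∀ g : H, g * z = z * g)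
    (x w : H) : ⁅z * x, w⁆ = ⁅x, w⁆ := by
  rw [commutatorElement_def, commutatorElement_def]
  have h1 := hz (x * w * x⁻¹)
  calc z * x * w * (z * x)⁻¹ * w⁻¹ = z * (x * w * x⁻¹) * z⁻¹ * w⁻¹ := by group
    _ = (x * w * x⁻¹) * z * z⁻¹ * w⁻¹ := by rw [h1]
    _ = x * w * x⁻¹ * w⁻¹ := by group

/-- for a central `z`, `⁅x, z * w⁆ = ⁅x, w⁆` -/
theorem comm_central_mul_right {H : Type*} [Group H] {z : H} (hz : ∀ g : H, g * z = z * g)
    (x w : H) : ⁅x, z * w⁆ = ⁅x, w⁆ := by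
  rw [commutatorElement_def, commutatorElement_def]
  have h1 := hz (w * x⁻¹ * w⁻¹)
  calc x * (z * w) * x⁻¹ * (z * w)⁻¹ = x * (z * (w * x⁻¹ * w⁻¹)) * z⁻¹ := by group
    _ = x * ((w * x⁻¹ * w⁻¹) * z) * z⁻¹ := by rw [h1]
    _ = x * w * x⁻¹ * w⁻¹ := by group

/-- in any group: if `⁅a,x⁆` and `⁅a,y⁆` are central then `a` commutes with `⁅x,y⁆` -/
theorem comm_comm_eq_one {H : Type*} [Group H] (a x y : H) (hx : ⁅a, x⁆ ∈ Subgroup.center H)
    (hy : ⁅a, y⁆ ∈ Subgroup.center H) : ⁅a, ⁅x, y⁆⁆ = 1 := by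
  rw [Subgroup.mem_center_iff] at hx hy
  have h1 : a * x * a⁻¹ = ⁅a, x⁆ * x := by simp [commutatorElement_def]
  have h2 : a * y * a⁻¹ = ⁅a, y⁆ * y := by simp [commutatorElement_def]
  have h3 : a * ⁅x, y⁆ * a⁻¹ = ⁅a * x * a⁻¹, a * y * a⁻¹⁆ := by
    simp only [commutatorElement_def]; group
  rw [h1, h2, comm_central_mul_left hx, comm_central_mul_right hy] at h3
  rw [commutatorElement_def a, h3]
  group

/-- if `C` is central modulo `D` in `M` and `⁅a,x⁆, ⁅a,y⁆ ∈ C` then `⁅a,⁅x,y⁆⁆ ∈ D` -/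
theorem comm_comm_mem {M C D : Subgroup G}
    (hMD : M ≤ Subgroup.normalizer (D : Set G))
    (hC : ∀ u ∈ M, ∀ c ∈ C, u * c * u⁻¹ * c⁻¹ ∈ D) (hCM : C ≤ M) {a x y : G} (ha : a ∈ M)
    (hx : x ∈ M) (hy : y ∈ M) (hax : ⁅a, x⁆ ∈ C) (hay : ⁅a, y⁆ ∈ C) : ⁅a, ⁅x, y⁆⁆ ∈ D := by
  have : (D.subgroupOf M).Normal := Subgroup.normal_subgroupOf_of_le_normalizer hMD
  have hcen : ∀ (c : G) (hc : c ∈ C),
      (QuotientGroup.mk' (D.subgroupOf M)) ⟨c, hCM hc⟩ ∈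
        Subgroup.center (↥M ⧸ D.subgroupOf M) := by
    intro c hc
    rw [Subgroup.mem_center_iff]
    intro g
    obtain ⟨⟨u, hu⟩, rfl⟩ := QuotientGroup.mk'_surjective _ g
    rw [← map_mul, ← map_mul]
    apply QuotientGroup.eq.mpr
    rw [Subgroup.mem_subgroupOf]
    have h1 := D.inv_mem (hC u⁻¹ (M.inv_mem hu) c⁻¹ (C.inv_mem hc))
    have h2 : (u⁻¹ * c⁻¹ * u⁻¹⁻¹ * c⁻¹⁻¹)⁻¹ = c⁻¹ * u⁻¹ * (c * u) := by group
    rw [h2] at h1
    simpa using h1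
  have h := comm_comm_eq_one ((QuotientGroup.mk' (D.subgroupOf M)) ⟨a, ha⟩)
    ((QuotientGroup.mk' (D.subgroupOf M)) ⟨x, hx⟩) ((QuotientGroup.mk' (D.subgroupOf M)) ⟨y, hy⟩)
    (by rw [← map_commutatorElement]; exact hcen _ hax)
    (by rw [← map_commutatorElement]; exact hcen _ hay)
  rw [← map_commutatorElement, ← map_commutatorElement] at h
  have h' := (QuotientGroup.eq_one_iff _).mp h
  rw [Subgroup.mem_subgroupOf] at h'
  exact h'

section half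

variable [Finite G] {p : ℕ} [Fact p.Prime] {Q H₁ H₂ : Subgroup G}

/-- the weak closure `H°` of `Q` centralizes a normal subgroup `C ≤ N(Q)` modulo `O_p(C)` -/
theorem central_mod (hQp : IsPGroup p ↥Q) (hQ1 : Q ≠ ⊥) (hwc : IsWeaklyClosedSubgroup p Q)
    {C : Subgroup G} (hCN : weakClosure Q ⊤ ≤ Subgroup.normalizer (C : Set G))
    (hCQ : C ≤ Subgroup.normalizer (Q : Set G)) :
    ∀ u ∈ weakClosure Q ⊤, ∀ c ∈ C, u * c * u⁻¹ * c⁻¹ ∈ pCoreOf p C := by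
  have hQHc : Q ≤ weakClosure Q ⊤ := le_weakClosure le_top
  have hND : weakClosure Q ⊤ ≤ Subgroup.normalizer ((pCoreOf p C : Subgroup G) : Set G) :=
    hCN.trans (normalizer_le_normalizer_pCoreOf p C)
  have hQC : Q ⊓ C ≤ pCoreOf p C := le_pCoreOf inf_le_right
    (fun c hc => normalizer_inf_le _ _ ⟨hCQ hc, Subgroup.le_normalizer hc⟩) (hQp.to_le inf_le_left)
  have hQs : Q ≤ secCent C (pCoreOf p C) := by
    intro q hq
    refine ⟨hND (hQHc hq), fun c hc => hQC ⟨?_, ?_⟩⟩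
    · have h1 := conj_mem_of_mem_normalizer (hCQ hc) (Q.inv_mem hq)
      have h2 := Q.mul_mem hq h1
      have h3 : q * (c * q⁻¹ * c⁻¹) = q * c * q⁻¹ * c⁻¹ := by group
      rwa [h3] at h2
    · have h1 := conj_mem_of_mem_normalizer (hCN (hQHc hq)) hc
      exact C.mul_mem h1 (C.inv_mem hc)
  have hle : weakClosure Q ⊤ ≤ secCent C (pCoreOf p C) := by
    apply iSup_le
    rintro ⟨g, hg⟩
    obtain ⟨k, hk, hgk⟩ := (Cfsg.Agent.S2839.result Q hQp hQ1 hwc (weakClosure Q ⊤) hQHc ⊥).2.1 g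
      (map_conj_le_weakClosure hg)
    show Q.map (MulAut.conj g).toMonoidHom ≤ _
    rw [hgk]
    rintro _ ⟨q, hq, rfl⟩
    exact conj_mem_secCent (hCN hk) (hND hk) (hQs hq)
  intro u hu c hc
  exact (hle hu).2 c hc

/-- one half of the factorization lemma for the weak closure -/
theorem half (hQp : IsPGroup p ↥Q) (hQ1 : Q ≠ ⊥) (hwc : IsWeaklyClosedSubgroup p Q)
    (hn₁ : H₁ ≤ weakClosure Q ⊤ ∧ weakClosure Q ⊤ ≤ Subgroup.normalizer (H₁ : Set G))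
    (hn₂ : H₂ ≤ weakClosure Q ⊤ ∧ weakClosure Q ⊤ ≤ Subgroup.normalizer (H₂ : Set G))
    (hprod : H₁ ⊔ H₂ = weakClosure Q ⊤)
    (hcomm : ⁅H₁, H₂⁆ ≤ Subgroup.normalizer (Q : Set G)) :
    ⁅pResOf p (weakClosure Q (H₁ ⊔ Q)), Q⁆ = pResOf p (weakClosure Q (H₁ ⊔ Q)) ∧
    ⁅pResOf p (weakClosure Q (H₁ ⊔ Q)), H₁⁆ = pResOf p (weakClosure Q (H₁ ⊔ Q)) ∧
    pResOf p (weakClosure Q (H₁ ⊔ Q)) ≤ ⁅H₁, H₁⁆ ∧
    weakClosure Q ⊤ ≤
      Subgroup.normalizer ((pResOf p (weakClosure Q (H₁ ⊔ Q)) : Subgroup G) : Set G) ∧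
    pResOf p (weakClosure Q (H₁ ⊔ Q)) ≤ H₁ ∧
    H₁ ≤ Subgroup.normalizer ((pResOf p (weakClosure Q (H₁ ⊔ Q)) ⊔ Q : Subgroup G) : Set G) := by
  set Hc := weakClosure Q ⊤ with hHc
  set X := weakClosure Q (H₁ ⊔ Q) with hX
  set K := pResOf p X with hK
  set C := ⁅H₁, H₂⁆ with hC
  set D := pCoreOf p C with hD
  have hQHc : Q ≤ Hc := le_weakClosure le_top
  have hgen : Gen Q X := gen_weakClosure hQp hQ1 hwc le_sup_right
  have hXsup : K ⊔ Q = X := hgen.pRes_sup hQp hQ1 hwc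
  have hKQ : ⁅K, Q⁆ = K := hgen.pRes_comm hQp hQ1 hwc
  have hQH₁ : Q ≤ Subgroup.normalizer (H₁ : Set G) := hQHc.trans hn₁.2
  have hXle : X ≤ H₁ ⊔ Q := weakClosure_le _ _
  have hKH₁ : K ≤ H₁ := pResOf_le_of_coprime_mem fun x hx hc =>
    mem_of_coprime_of_mem_sup hQp hQH₁ (hXle hx) hc
  have hLX : H₁ ⊔ Q ≤ Subgroup.normalizer (X : Set G) :=
    Subgroup.le_normalizer.trans (normalizer_le_normalizer_weakClosure Q (H₁ ⊔ Q))
  have hLK : H₁ ⊔ Q ≤ Subgroup.normalizer (K : Set G) :=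
    hLX.trans (normalizer_le_normalizer_pResOf p X)
  have hH₁K : H₁ ≤ Subgroup.normalizer (K : Set G) := le_sup_left.trans hLK
  have hQK : Q ≤ Subgroup.normalizer (K : Set G) := le_sup_right.trans hLK
  have hKHc : K ≤ Hc := hKH₁.trans hn₁.1
  have hCH₁ : C ≤ H₁ := commutator_le_left (hn₂.1.trans hn₁.2)
  have hHcC : Hc ≤ Subgroup.normalizer (C : Set G) := fun h hh =>
    mem_normalizer_commutator (hn₁.2 hh) (hn₂.2 hh)
  have hHcD : Hc ≤ Subgroup.normalizer (D : Set G) :=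
    hHcC.trans (normalizer_le_normalizer_pCoreOf p C)
  have hcen := central_mod hQp hQ1 hwc hHcC hcomm
  set W := ⁅K, H₁⁆ with hW
  have hWK : W ≤ K := commutator_le_left hH₁K
  have hQW : Q ≤ Subgroup.normalizer (W : Set G) := fun q hq =>
    mem_normalizer_commutator (hQK hq) (hQH₁ hq)
  have hKW : K ≤ Subgroup.normalizer (W : Set G) := le_normalizer_commutator_left _ _
  have hWC : W ≤ Subgroup.normalizer (C : Set G) := (hWK.trans hKHc).trans hHcC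
  have hKQ' : ⁅K, Q⁆ ≤ W ⊔ C := by
    rw [Subgroup.commutator_le]
    intro k hk q hq
    have hq' : q ∈ H₁ ⊔ H₂ := hprod ▸ hQHc hq
    obtain ⟨h₁, hh₁, h₂, hh₂, rfl⟩ := exists_mul_of_mem_sup_left (hn₁.1.trans hn₂.2) hq'
    have e : ⁅k, h₁ * h₂⁆ = ⁅k, h₁⁆ * (h₁ * ⁅k, h₂⁆ * h₁⁻¹) := by
      simp only [commutatorElement_def]; group
    rw [e]
    exact Subgroup.mul_mem _ (Subgroup.mem_sup_left (Subgroup.commutator_mem_commutator hk hh₁))
      (Subgroup.mem_sup_right (conj_mem_of_mem_normalizer (hHcC (hn₁.1 hh₁))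
        (Subgroup.commutator_mem_commutator (hKH₁ hk) hh₂)))
  have hKQ'' : ⁅K, Q⁆ ≤ W ⊔ (Q ⊓ K) := by
    rw [Subgroup.commutator_le]
    intro k hk q hq
    obtain ⟨w, hw, z, hz, rfl⟩ := exists_mul_of_mem_sup_left hWC (hKQ.ge.trans hKQ' hk)
    have hzK : z ∈ K := by
      have := K.mul_mem (K.inv_mem (hWK hw)) hk
      simpa using this
    have heQ : ⁅z, q⁆ ∈ Q := by
      have h1 := conj_mem_of_mem_normalizer (hcomm hz) hq
      exact Q.mul_mem h1 (Q.inv_mem hq)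
    have heK : ⁅z, q⁆ ∈ K := by
      have h1 := conj_mem_of_mem_normalizer (hQK hq) (K.inv_mem hzK)
      have h2 := K.mul_mem hzK h1
      have h3 : z * (q * z⁻¹ * q⁻¹) = ⁅z, q⁆ := by rw [commutatorElement_def]; group
      rwa [h3] at h2
    have e1 : ⁅w * z, q⁆ = (w * ⁅z, q⁆ * w⁻¹ * ⁅z, q⁆⁻¹) * ⁅z, q⁆ * ⁅w, q⁆ := by
      simp only [commutatorElement_def]; group
    rw [e1]
    have h3 : w * ⁅z, q⁆ * w⁻¹ * ⁅z, q⁆⁻¹ ∈ W := by
      have h1 := conj_mem_of_mem_normalizer (hKW heK) (W.inv_mem hw)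
      have h2 := W.mul_mem hw h1
      have h4 : w * (⁅z, q⁆ * w⁻¹ * ⁅z, q⁆⁻¹) = w * ⁅z, q⁆ * w⁻¹ * ⁅z, q⁆⁻¹ := by group
      rwa [h4] at h2
    have h4 : ⁅w, q⁆ ∈ W := by
      have h1 := conj_mem_of_mem_normalizer (hQW hq) (W.inv_mem hw)
      have h2 := W.mul_mem hw h1
      have h5 : w * (q * w⁻¹ * q⁻¹) = ⁅w, q⁆ := by rw [commutatorElement_def]; group
      rwa [h5] at h2
    exact Subgroup.mul_mem _ (Subgroup.mul_mem _ (Subgroup.mem_sup_left h3)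
      (Subgroup.mem_sup_right ⟨heQ, heK⟩)) (Subgroup.mem_sup_left h4)
  have hWsup : W ⊔ (Q ⊓ K) = K :=
    le_antisymm (sup_le hWK inf_le_right) (hKQ.ge.trans hKQ'')
  have hpK : pResOf p K = K := pResOf_pResOf p X
  have hKW' : K ≤ W :=
    hpK.ge.trans (pResOf_le_of_sup_eq (hQp.to_le inf_le_left) (inf_le_left.trans hQW) hWsup)
  have hWeq : W = K := le_antisymm hWK hKW'
  have hKder : K ≤ ⁅H₁, H₁⁆ := hKW'.trans (Subgroup.commutator_mono hKH₁ le_rfl)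
  have hHcKC : Hc ≤ Subgroup.normalizer ((K ⊔ C : Subgroup G) : Set G) := by
    refine hprod.ge.trans ?_
    refine sup_le (fun h hh => mem_normalizer_sup (hH₁K hh) (hHcC (hn₁.1 hh))) ?_
    intro h hh
    apply mem_normalizer_of_map_conj_le
    rw [Subgroup.map_sup]
    refine sup_le ?_ ?_
    · rintro _ ⟨k, hk, rfl⟩
      have h1 : (MulAut.conj h).toMonoidHom k = ⁅h, k⁆ * k := by
        simp [commutatorElement_def, MulAut.conj_apply]
      rw [h1]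
      refine Subgroup.mul_mem _ (Subgroup.mem_sup_right ?_) (Subgroup.mem_sup_left hk)
      rw [hC, Subgroup.commutator_comm]
      exact Subgroup.commutator_mem_commutator hh (hKH₁ hk)
    · rw [map_conj_eq_of_mem_normalizer (hHcC (hn₂.1 hh))]
      exact le_sup_right
  set J := ⁅K ⊔ C, H₁⁆ with hJ
  have hHcJ : Hc ≤ Subgroup.normalizer (J : Set G) := fun h hh =>
    mem_normalizer_commutator (hHcKC hh) (hn₁.2 hh)
  have hKJ : K ≤ J := hKW'.trans (Subgroup.commutator_mono le_sup_left le_rfl)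
  have hDC : D ≤ C := pCoreOf_le p C
  have hDK : D ≤ Subgroup.normalizer (K : Set G) := (hDC.trans hCH₁).trans hH₁K
  have hJle : J ≤ K ⊔ D := by
    rw [hJ, Subgroup.commutator_le]
    intro x hx h hh
    obtain ⟨k, hk, c, hc, rfl⟩ := exists_mul_of_mem_sup_left (hKHc.trans hHcC) hx
    have e1 : ⁅k * c, h⁆ = (k * ⁅c, h⁆ * k⁻¹) * ⁅k, h⁆ := by
      simp only [commutatorElement_def]; group
    rw [e1]
    have h1 : ⁅c, h⁆ ∈ D := by
      have h2 := D.inv_mem (hcen h (hn₁.1 hh) c hc)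
      have h3 : (h * c * h⁻¹ * c⁻¹)⁻¹ = ⁅c, h⁆ := by rw [commutatorElement_def]; group
      rwa [h3] at h2
    have h2 : ⁅k, h⁆ ∈ K := by
      have h3 := conj_mem_of_mem_normalizer (hH₁K hh) (K.inv_mem hk)
      have h4 := K.mul_mem hk h3
      have h5 : k * (h * k⁻¹ * h⁻¹) = ⁅k, h⁆ := by rw [commutatorElement_def]; group
      rwa [h5] at h4
    exact Subgroup.mul_mem _
      (Subgroup.mem_sup_right (conj_mem_of_mem_normalizer (hHcD (hKHc hk)) h1))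
      (Subgroup.mem_sup_left h2)
  have hJK : pResOf p J = K := by
    apply le_antisymm
    · exact (pResOf_mono hJle).trans (pResOf_le_of_sup_eq (pCoreOf_isPGroup p C) hDK rfl)
    · exact hpK.ge.trans (pResOf_mono hKJ)
  have hHcK : Hc ≤ Subgroup.normalizer (K : Set G) := by
    have h1 := hHcJ.trans (normalizer_le_normalizer_pResOf p J)
    rwa [hJK] at h1
  refine ⟨hKQ, hWeq, hKder, hHcK, hKH₁, ?_⟩
  rw [hXsup]
  exact le_sup_left.trans hLX

/-- the factorization lemma for the weak closure of a weakly closed `p`-subgroup -/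
theorem main (hQp : IsPGroup p ↥Q) (hQ1 : Q ≠ ⊥) (hwc : IsWeaklyClosedSubgroup p Q)
    (hn₁ : H₁ ≤ weakClosure Q ⊤ ∧ weakClosure Q ⊤ ≤ Subgroup.normalizer (H₁ : Set G))
    (hn₂ : H₂ ≤ weakClosure Q ⊤ ∧ weakClosure Q ⊤ ≤ Subgroup.normalizer (H₂ : Set G))
    (hprod : H₁ ⊔ H₂ = weakClosure Q ⊤)
    (hcomm : ⁅H₁, H₂⁆ ≤ Subgroup.normalizer (Q : Set G)) :
    (⁅pResOf p (weakClosure Q (H₁ ⊔ Q)), Q⁆ = pResOf p (weakClosure Q (H₁ ⊔ Q)) ∧
      ⁅pResOf p (weakClosure Q (H₁ ⊔ Q)), H₁⁆ = pResOf p (weakClosure Q (H₁ ⊔ Q)) ∧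
      pResOf p (weakClosure Q (H₁ ⊔ Q)) ≤ ⁅H₁, H₁⁆ ∧
      weakClosure Q ⊤ ≤
        Subgroup.normalizer ((pResOf p (weakClosure Q (H₁ ⊔ Q)) : Subgroup G) : Set G)) ∧
    (⁅pResOf p (weakClosure Q (H₂ ⊔ Q)), Q⁆ = pResOf p (weakClosure Q (H₂ ⊔ Q)) ∧
      ⁅pResOf p (weakClosure Q (H₂ ⊔ Q)), H₂⁆ = pResOf p (weakClosure Q (H₂ ⊔ Q)) ∧
      pResOf p (weakClosure Q (H₂ ⊔ Q)) ≤ ⁅H₂, H₂⁆ ∧
      weakClosure Q ⊤ ≤
        Subgroup.normalizer ((pResOf p (weakClosure Q (H₂ ⊔ Q)) : Subgroup G) : Set G)) ∧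
    pResOf p (weakClosure Q (H₁ ⊔ Q)) ⊔ pResOf p (weakClosure Q (H₂ ⊔ Q)) =
      pResOf p (weakClosure Q ⊤) ∧
    ⁅pResOf p (weakClosure Q (H₁ ⊔ Q)), pResOf p (weakClosure Q (H₂ ⊔ Q))⁆ ≤
      pCoreOf p (weakClosure Q ⊤) := by
  have hcomm' : ⁅H₂, H₁⁆ ≤ Subgroup.normalizer (Q : Set G) := by
    rw [Subgroup.commutator_comm]; exact hcomm
  have hprod' : H₂ ⊔ H₁ = weakClosure Q ⊤ := by rw [sup_comm]; exact hprod
  obtain ⟨a1, a2, a3, a4, a5, a6⟩ := half hQp hQ1 hwc hn₁ hn₂ hprod hcomm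
  obtain ⟨b1, b2, b3, b4, b5, b6⟩ := half hQp hQ1 hwc hn₂ hn₁ hprod' hcomm'
  set Hc := weakClosure Q ⊤ with hHc
  set K₁ := pResOf p (weakClosure Q (H₁ ⊔ Q)) with hK₁
  set K₂ := pResOf p (weakClosure Q (H₂ ⊔ Q)) with hK₂
  set C := ⁅H₁, H₂⁆ with hC
  have hQHc : Q ≤ Hc := le_weakClosure le_top
  have hK₁Hc : K₁ ≤ Hc := a5.trans hn₁.1
  have hK₂Hc : K₂ ≤ Hc := b5.trans hn₂.1
  have hHcC : Hc ≤ Subgroup.normalizer (C : Set G) := fun h hh =>
    mem_normalizer_commutator (hn₁.2 hh) (hn₂.2 hh)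
  have hHcD : Hc ≤ Subgroup.normalizer ((pCoreOf p C : Subgroup G) : Set G) :=
    hHcC.trans (normalizer_le_normalizer_pCoreOf p C)
  have hCH₁ : C ≤ H₁ := commutator_le_left (hn₂.1.trans hn₁.2)
  have hcen := central_mod hQp hQ1 hwc hHcC hcomm
  refine ⟨⟨a1, a2, a3, a4⟩, ⟨b1, b2, b3, b4⟩, ?_, ?_⟩
  · apply le_antisymm
    · exact sup_le (pResOf_mono ((weakClosure_le _ _).trans (sup_le hn₁.1 hQHc)))
        (pResOf_mono ((weakClosure_le _ _).trans (sup_le hn₂.1 hQHc)))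
    · have hQKK : Q ≤ Subgroup.normalizer ((K₁ ⊔ K₂ : Subgroup G) : Set G) := fun q hq =>
        mem_normalizer_sup (a4 (hQHc hq)) (b4 (hQHc hq))
      have hgen : Gen Q Hc := gen_weakClosure hQp hQ1 hwc le_top
      have hsup : K₁ ⊔ K₂ ⊔ Q = Hc := by
        apply le_antisymm (sup_le (sup_le hK₁Hc hK₂Hc) hQHc)
        apply hgen.2 _ le_sup_right
        refine hprod.ge.trans (sup_le ?_ ?_)
        · intro h hh
          have h1 := mem_normalizer_sup (a6 hh) (b4 (hn₁.1 hh))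
          have h2 : K₁ ⊔ Q ⊔ K₂ = K₁ ⊔ K₂ ⊔ Q := sup_right_comm _ _ _
          rwa [h2] at h1
        · intro h hh
          have h1 := mem_normalizer_sup (a4 (hn₂.1 hh)) (b6 hh)
          have h2 : K₁ ⊔ (K₂ ⊔ Q) = K₁ ⊔ K₂ ⊔ Q := (sup_assoc _ _ _).symm
          rwa [h2] at h1
      exact pResOf_le_of_sup_eq hQp hQKK hsup
  · have hD : pCoreOf p C ≤ pCoreOf p Hc :=
      pCoreOf_le_pCoreOf_of_normal (hCH₁.trans hn₁.1) hHcC
    refine le_trans ?_ hD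
    have hsec : K₁ ≤ secCent K₂ (pCoreOf p C) := by
      refine a2.ge.trans ?_
      rw [Subgroup.commutator_le]
      intro x hx y hy
      have hxy : ⁅x, y⁆ ∈ Hc := by
        rw [commutatorElement_def]
        exact Hc.mul_mem (Hc.mul_mem (Hc.mul_mem (hK₁Hc hx) (hn₁.1 hy)) (Hc.inv_mem (hK₁Hc hx)))
          (Hc.inv_mem (hn₁.1 hy))
      refine ⟨hHcD hxy, fun u hu => ?_⟩
      have hux : ⁅u, x⁆ ∈ C := by
        rw [hC, Subgroup.commutator_comm]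
        exact Subgroup.commutator_mem_commutator (b5 hu) (a5 hx)
      have huy : ⁅u, y⁆ ∈ C := by
        rw [hC, Subgroup.commutator_comm]
        exact Subgroup.commutator_mem_commutator (b5 hu) hy
      have h1 := comm_comm_mem hHcD hcen (hCH₁.trans hn₁.1) (hK₂Hc hu) (hK₁Hc hx) (hn₁.1 hy)
        hux huy
      have h2 := Subgroup.inv_mem _ h1
      have h3 : (⁅u, ⁅x, y⁆⁆)⁻¹ = ⁅x, y⁆ * u * ⁅x, y⁆⁻¹ * u⁻¹ := by
        rw [commutatorElement_def u]; group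
      rwa [h3] at h2
    rw [Subgroup.commutator_le]
    intro k₁ hk₁ k₂ hk₂
    exact (hsec hk₁).2 k₂ hk₂

end half

end Cfsg.Agent.Lib.Helper47.WeakCl
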