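import Mathlib
import Cfsg.Agent.Lib.Helper25.BSWSpec
import Cfsg.Agent.Lib.Helper77.BSWBasicOf
import Cfsg.Agent.S3277

/-!
S3282, piece `CaseTwo`: the case `|K| = 2` of the Brauer--Suzuki--Wall theorem.  Here
`C(t) = {1, t, s, ts}` is a four-group; either it is normal (and `|G| = 12`) or `G ≃ A₅`
(by S3277) and `|G| = 60`.
-/

set_option autoImplicit false

namespace Cfsg.Agent.Lib.Helper47.BSWCaseTwo

open Cfsg Cfsg.Agent.Lib.Helper25.BSWSpec

universe u

/-- `C(t) = {1, t, s, ts}` is a four-group -/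
structure Four {G : Type u} [Group G] (t s : G) : Prop where
  tt : t * t = 1
  ss : s * s = 1
  t1 : t ≠ 1
  s1 : s ≠ 1
  st : s ≠ t
  comm : s * t = t * s
  cent : ∀ h : G, h * t = t * h → h = 1 ∨ h = t ∨ h = s ∨ h = t * s

section
variable {G : Type u} [Group G]

theorem orderOf_two_of {w : G} (h1 : w * w = 1) (h2 : w ≠ 1) : orderOf w = 2 := by
  apply orderOf_eq_prime
  · rw [pow_two]; exact h1
  · exact h2

theorem mul_self_of_orderOf {w : G} (h : orderOf w = 2) : w * w = 1 := by
  rw [← pow_two, ← h]; exact pow_orderOf_eq_one w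

theorem ne_one_of_orderOf {w : G} (h : orderOf w = 2) : w ≠ 1 := by
  rintro rfl; rw [orderOf_one] at h; omega

theorem conj_eq_iff (g c x : G) : g⁻¹ * c * g = x ↔ c = g * x * g⁻¹ := by
  constructor
  · rintro rfl; group
  · rintro rfl; group

theorem mem_zpowers_two {w : G} (hw : w * w = 1) {d : G} (hd : d ∈ Subgroup.zpowers w) :
    d = 1 ∨ d = w := by
  obtain ⟨k, rfl⟩ := Subgroup.mem_zpowers_iff.mp hd
  have hw2 : w ^ (2 : ℤ) = 1 := by rw [zpow_two]; exact hw
  rcases Int.even_or_odd' k with ⟨m, rfl | rfl⟩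
  · left; rw [zpow_mul, hw2, one_zpow]
  · right; rw [zpow_add, zpow_mul, hw2, one_zpow, one_mul, zpow_one]

theorem zpowers_le_centralizer (y : G) :
    Subgroup.zpowers y ≤ Subgroup.centralizer ({y} : Set G) := by
  intro q hq
  obtain ⟨k, rfl⟩ := Subgroup.mem_zpowers_iff.mp hq
  rw [Subgroup.mem_centralizer_singleton_iff]
  exact ((Commute.refl y).zpow_left k).eq

theorem cent_le_normalizer_of_zpowers (y : G) :
    Subgroup.centralizer ({y} : Set G) ≤
      Subgroup.normalizer ((Subgroup.zpowers y : Subgroup G) : Set G) := by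
  intro c hc
  rw [Subgroup.mem_centralizer_singleton_iff] at hc
  have hcomm : ∀ q ∈ Subgroup.zpowers y, c * q * c⁻¹ = q := by
    intro q hq
    obtain ⟨k, rfl⟩ := Subgroup.mem_zpowers_iff.mp hq
    have : c * y ^ k = y ^ k * c := ((show Commute c y from hc).zpow_right k).eq
    rw [this, mul_inv_cancel_right]
  rw [Subgroup.mem_normalizer_iff]
  intro q
  constructor
  · intro hq
    rw [hcomm q hq]; exact hq
  · intro hq
    have h1 := hcomm _ hq
    have h2 : c * q = q * c := by
      have h3 : c * (c * q * c⁻¹) = c * q := by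
        rw [mul_inv_eq_iff_eq_mul] at h1
        rw [h1]; group
      have h4 : c * (c * q * c⁻¹) = c * c * q * c⁻¹ := by group
      rw [h4] at h3
      have h5 : c * q * c⁻¹ = q := by
        have : c * (c * q * c⁻¹) = c * q := by rw [h4, h3]
        exact mul_left_cancel this
      rw [mul_inv_eq_iff_eq_mul] at h5
      exact h5
    have h6 : c * q * c⁻¹ = q := by rw [h2, mul_inv_cancel_right]
    rw [← h6]; exact hq

theorem prime_card_facts [Finite G] (Q : Subgroup G) (q : ℕ) (hq : q.Prime)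
    (hQ : Nat.card Q = q) (y : G) (hy : y ∈ Q) (hy1 : y ≠ 1) :
    Subgroup.zpowers y = Q ∧ y ^ q = 1 := by
  have hpow : y ^ q = 1 := by
    have h1 : (⟨y, hy⟩ : Q) ^ Nat.card Q = 1 := pow_card_eq_one'
    rw [hQ] at h1
    have := congrArg Subtype.val h1
    simpa using this
  refine ⟨?_, hpow⟩
  have hord : orderOf y = q := by
    have hd : orderOf y ∣ q := orderOf_dvd_of_pow_eq_one hpow
    rcases (Nat.dvd_prime hq).mp hd with h1 | h1
    · exact absurd (orderOf_eq_one_iff.mp h1) hy1
    · exact h1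
  apply Subgroup.eq_of_le_of_card_ge (Subgroup.zpowers_le.mpr hy)
  rw [Nat.card_zpowers, hord, hQ]

theorem odd_card_of_no_invol [Finite G] (L : Subgroup G) (hL : ∀ u ∈ L, orderOf u ≠ 2) :
    ¬ 2 ∣ Nat.card L := by
  intro h2
  obtain ⟨e, he⟩ := exists_prime_orderOf_dvd_card' (G := L) 2 h2
  exact hL e e.2 (by rw [Subgroup.orderOf_coe]; exact he)

namespace Four

variable {t s : G}

theorem inv_t (h : Four t s) : t⁻¹ = t := inv_eq_of_mul_eq_one_left h.tt

theorem inv_s (h : Four t s) : s⁻¹ = s := inv_eq_of_mul_eq_one_left h.ss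

theorem ts1 (h : Four t s) : t * s ≠ 1 := by
  intro hh
  exact h.st ((eq_inv_of_mul_eq_one_right hh).trans h.inv_t)

theorem ts_sq (h : Four t s) : (t * s) * (t * s) = 1 := by
  calc t * s * (t * s) = t * (s * t) * s := by group
    _ = t * (t * s) * s := by rw [h.comm]
    _ = (t * t) * (s * s) := by group
    _ = 1 := by rw [h.tt, h.ss, one_mul]

theorem ord_t (h : Four t s) : orderOf t = 2 := orderOf_two_of h.tt h.t1

theorem ord_s (h : Four t s) : orderOf s = 2 := orderOf_two_of h.ss h.s1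

theorem ord_ts (h : Four t s) : orderOf (t * s) = 2 := orderOf_two_of h.ts_sq h.ts1

theorem sq_of_comm (h : Four t s) {c : G} (hc : c * t = t * c) : c * c = 1 := by
  rcases h.cent c hc with h1 | h1 | h1 | h1
  · rw [h1, one_mul]
  · rw [h1]; exact h.tt
  · rw [h1]; exact h.ss
  · rw [h1]; exact h.ts_sq

theorem conj (h : Four t s) (g : G) : Four (g * t * g⁻¹) (g * s * g⁻¹) where
  tt := by
    rw [show g * t * g⁻¹ * (g * t * g⁻¹) = g * (t * t) * g⁻¹ by group, h.tt]; group
  ss := by
    rw [show g * s * g⁻¹ * (g * s * g⁻¹) = g * (s * s) * g⁻¹ by group, h.ss]; group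
  t1 := fun hh => h.t1 (conj_eq_one_iff.mp hh)
  s1 := fun hh => h.s1 (conj_eq_one_iff.mp hh)
  st := fun hh => h.st (by
    have := congrArg (fun x => g⁻¹ * x * g) hh
    simpa [mul_assoc] using this)
  comm := by
    calc g * s * g⁻¹ * (g * t * g⁻¹) = g * (s * t) * g⁻¹ := by group
      _ = g * (t * s) * g⁻¹ := by rw [h.comm]
      _ = g * t * g⁻¹ * (g * s * g⁻¹) := by group
  cent := by
    intro c hc
    have hc' : (g⁻¹ * c * g) * t = t * (g⁻¹ * c * g) := by
      calc g⁻¹ * c * g * t = g⁻¹ * (c * (g * t * g⁻¹)) * g := by group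
        _ = g⁻¹ * (g * t * g⁻¹ * c) * g := by rw [hc]
        _ = t * (g⁻¹ * c * g) := by group
    rcases h.cent _ hc' with h1 | h1 | h1 | h1
    · left
      rw [conj_eq_iff] at h1
      rw [h1]; group
    · right; left
      rw [conj_eq_iff] at h1
      exact h1
    · right; right; left
      rw [conj_eq_iff] at h1
      exact h1
    · right; right; right
      rw [conj_eq_iff] at h1
      rw [h1]; group

theorem mem_centralizer_iff (h : Four t s) (c : G) :
    c ∈ Subgroup.centralizer ({t} : Set G) ↔ c = 1 ∨ c = t ∨ c = s ∨ c = t * s := by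
  rw [Subgroup.mem_centralizer_singleton_iff]
  constructor
  · exact h.cent c
  · rintro (h1 | h1 | h1 | h1)
    · rw [h1, one_mul, mul_one]
    · rw [h1]
    · rw [h1]; exact h.comm
    · rw [h1, mul_assoc, h.comm]

theorem card_centralizer (h : Four t s) :
    Nat.card (Subgroup.centralizer ({t} : Set G)) = 4 := by
  have hset : ((Subgroup.centralizer ({t} : Set G) : Subgroup G) : Set G) =
      insert 1 {t, s, t * s} := by
    ext c
    simp only [SetLike.mem_coe, Set.mem_insert_iff, Set.mem_singleton_iff]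
    exact h.mem_centralizer_iff c
  have h3 : ({t, s, t * s} : Set G).ncard = 3 :=
    Set.ncard_eq_three.mpr ⟨t, s, t * s, h.st.symm, fun e => h.s1 (left_eq_mul.mp e),
      fun e => h.t1 (right_eq_mul.mp e), rfl⟩
  have h1 : (1 : G) ∉ ({t, s, t * s} : Set G) := by
    simp only [Set.mem_insert_iff, Set.mem_singleton_iff, not_or]
    exact ⟨fun e => h.t1 e.symm, fun e => h.s1 e.symm, fun e => h.ts1 e.symm⟩
  have h4 : (insert 1 ({t, s, t * s} : Set G)).ncard = 4 := by
    rw [Set.ncard_insert_of_notMem h1 (Set.toFinite _), h3]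
  calc Nat.card (Subgroup.centralizer ({t} : Set G))
      = ((Subgroup.centralizer ({t} : Set G) : Subgroup G) : Set G).ncard :=
        Nat.card_coe_set_eq _
    _ = 4 := by rw [hset, h4]

end Four

theorem four_of_invol {t s : G} (h : Four t s)
    (hconj : ∀ x y : G, orderOf x = 2 → orderOf y = 2 → IsConj x y)
    (u : G) (hu : orderOf u = 2) : ∃ s' : G, Four u s' := by
  obtain ⟨g, hg⟩ := isConj_iff.mp (hconj t u h.ord_t hu)
  exact ⟨g * s * g⁻¹, hg ▸ h.conj g⟩

theorem no_invol_comm {t s : G} (h : Four t s)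
    (hconj : ∀ x y : G, orderOf x = 2 → orderOf y = 2 → IsConj x y)
    (y : G) (m : ℕ) (hy : y ^ (2 * m + 1) = 1) (hy1 : y ≠ 1) (u : G) (hu : orderOf u = 2)
    (hc : y * u = u * y) : False := by
  obtain ⟨s', h'⟩ := four_of_invol h hconj u hu
  have h2 := h'.sq_of_comm hc
  apply hy1
  rw [pow_succ, pow_mul, pow_two, h2, one_pow, one_mul] at hy
  exact hy

theorem no_normal_complement [Finite G] {t s : G} (h : Four t s)
    (hconj : ∀ x y : G, orderOf x = 2 → orderOf y = 2 → IsConj x y) :
    ¬ Cfsg.HasNormalPComplement 2 G := by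
  rintro ⟨P, N, hN, hcompl⟩
  have h2 : 2 ∣ Nat.card G := h.ord_t ▸ orderOf_dvd_natCard t
  have hPne : (P : Subgroup G) ≠ ⊥ := P.ne_bot_of_dvd_card h2
  have : Nontrivial (P : Subgroup G) := (Subgroup.nontrivial_iff_ne_bot _).mpr hPne
  have : Nontrivial (Subgroup.center (P : Subgroup G)) := P.isPGroup'.center_nontrivial
  have h2c : 2 ∣ Nat.card (Subgroup.center (P : Subgroup G)) := by
    rcases (P.isPGroup'.to_subgroup (Subgroup.center (P : Subgroup G))).card_eq_or_dvd with h1 | h1
    · exfalso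
      have := Finite.one_lt_card (α := Subgroup.center (P : Subgroup G))
      omega
    · exact h1
  obtain ⟨z, hz⟩ := exists_prime_orderOf_dvd_card' (G := Subgroup.center (P : Subgroup G)) 2 h2c
  have hzG : orderOf (((z : (P : Subgroup G)) : G)) = 2 := by
    rw [Subgroup.orderOf_coe, Subgroup.orderOf_coe]; exact hz
  have hzP : ((z : (P : Subgroup G)) : G) ∈ (P : Subgroup G) := (z : (P : Subgroup G)).2
  have hcentral : ∀ p ∈ (P : Subgroup G), p * ((z : (P : Subgroup G)) : G) =
      ((z : (P : Subgroup G)) : G) * p := by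
    intro p hp
    have h1 := Subgroup.mem_center_iff.mp z.2 ⟨p, hp⟩
    exact congrArg Subtype.val h1
  obtain ⟨zG, hzGdef⟩ : ∃ zG : G, zG = ((z : (P : Subgroup G)) : G) := ⟨_, rfl⟩
  rw [← hzGdef] at hzG hzP hcentral
  obtain ⟨s', h'⟩ := four_of_invol h hconj zG hzG
  have hPle : (P : Subgroup G) ≤ Subgroup.centralizer ({zG} : Set G) := by
    intro p hp
    rw [Subgroup.mem_centralizer_singleton_iff]
    exact hcentral p hp
  have hC2 : IsPGroup 2 (Subgroup.centralizer ({zG} : Set G)) :=
    IsPGroup.of_card (n := 2) (by rw [h'.card_centralizer]; norm_num)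
  have hCP : Subgroup.centralizer ({zG} : Set G) = (P : Subgroup G) := P.3 hC2 hPle
  have hs'P : s' ∈ (P : Subgroup G) := by
    rw [← hCP, h'.mem_centralizer_iff]
    exact Or.inr (Or.inr (Or.inl rfl))
  obtain ⟨a, ha⟩ := isConj_iff.mp (hconj zG s' hzG h'.ord_s)
  obtain ⟨⟨⟨n, hn⟩, ⟨p, hp⟩⟩, hnp⟩ := hcompl.2 a
  have hnp' : n * p = a := hnp
  have hn' : n ∈ N := hn
  have hp' : p ∈ (P : Subgroup G) := hp
  have hs'z : s' * zG⁻¹ = n * (zG * n⁻¹ * zG⁻¹) := by
    rw [← ha, ← hnp']
    calc n * p * zG * (n * p)⁻¹ * zG⁻¹ = n * (p * zG) * p⁻¹ * n⁻¹ * zG⁻¹ := by group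
      _ = n * (zG * p) * p⁻¹ * n⁻¹ * zG⁻¹ := by rw [hcentral p hp']
      _ = n * (zG * n⁻¹ * zG⁻¹) := by group
  have hmemN : s' * zG⁻¹ ∈ N := by
    rw [hs'z]
    exact N.mul_mem hn' (hN.conj_mem _ (N.inv_mem hn') zG)
  have hmemP : s' * zG⁻¹ ∈ (P : Subgroup G) :=
    Subgroup.mul_mem _ hs'P (Subgroup.inv_mem _ hzP)
  have hone : s' * zG⁻¹ = 1 := Subgroup.disjoint_def.mp hcompl.disjoint hmemN hmemP
  exact h'.st (mul_inv_eq_one.mp hone)

theorem no_small_normal [Finite G] {t s : G} (h : Four t s)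
    (hconj : ∀ x y : G, orderOf x = 2 → orderOf y = 2 → IsConj x y)
    (hnn : ¬ (Subgroup.centralizer ({t} : Set G)).Normal)
    (E : Subgroup G) (hE : E.Normal) : Nat.card E ≠ 2 ∧ Nat.card E ≠ 4 := by
  have key : 2 ∣ Nat.card E → Subgroup.centralizer ({t} : Set G) ≤ E := by
    intro h2
    obtain ⟨e, he⟩ := exists_prime_orderOf_dvd_card' (G := E) 2 h2
    have heG : orderOf (e : G) = 2 := by rw [Subgroup.orderOf_coe]; exact he
    have hall : ∀ u : G, orderOf u = 2 → u ∈ E := by
      intro u hu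
      obtain ⟨g, hg⟩ := isConj_iff.mp (hconj (e : G) u heG hu)
      rw [← hg]; exact hE.conj_mem _ e.2 g
    intro c hc
    rcases (h.mem_centralizer_iff c).mp hc with h1 | h1 | h1 | h1
    · rw [h1]; exact E.one_mem
    · rw [h1]; exact hall _ h.ord_t
    · rw [h1]; exact hall _ h.ord_s
    · rw [h1]; exact hall _ h.ord_ts
  constructor
  · intro h2
    have h3 := Subgroup.card_le_of_le (key (by rw [h2]))
    rw [h.card_centralizer, h2] at h3
    omega
  · intro h4
    have hle := key (by rw [h4]; norm_num)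
    have h5 : Subgroup.centralizer ({t} : Set G) = E :=
      Subgroup.eq_of_le_of_card_ge hle (by rw [h.card_centralizer, h4])
    exact hnn (h5 ▸ hE)

theorem caseA [Finite G] {t s : G} (h : Four t s)
    (hconj : ∀ x y : G, orderOf x = 2 → orderOf y = 2 → IsConj x y)
    (hn : (Subgroup.centralizer ({t} : Set G)).Normal) : Conclusion G := by
  have ht : orderOf t = 2 := h.ord_t
  have htH : t ∈ Subgroup.centralizer ({t} : Set G) :=
    (h.mem_centralizer_iff t).mpr (Or.inr (Or.inl rfl))
  have hinvH : ∀ u : G, orderOf u = 2 → u ∈ Subgroup.centralizer ({t} : Set G) := by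
    intro u hu
    obtain ⟨g, hg⟩ := isConj_iff.mp (hconj t u ht hu)
    rw [← hg]; exact hn.conj_mem _ htH g
  have horb : MulAction.orbit (ConjAct G) t = {t, s, t * s} := by
    ext x
    rw [ConjAct.mem_orbit_conjAct]
    simp only [Set.mem_insert_iff, Set.mem_singleton_iff]
    constructor
    · intro hx
      obtain ⟨g, hg⟩ := isConj_iff.mp hx.symm
      have hxH : x ∈ Subgroup.centralizer ({t} : Set G) := by
        rw [← hg]; exact hn.conj_mem _ htH g
      rcases (h.mem_centralizer_iff x).mp hxH with h1 | h1 | h1 | h1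
      · exfalso; rw [h1] at hg; exact h.t1 (conj_eq_one_iff.mp hg)
      · exact Or.inl h1
      · exact Or.inr (Or.inl h1)
      · exact Or.inr (Or.inr h1)
    · rintro (h1 | h1 | h1)
      · rw [h1]
      · rw [h1]; exact hconj _ _ h.ord_s ht
      · rw [h1]; exact hconj _ _ h.ord_ts ht
  have h3 : ({t, s, t * s} : Set G).ncard = 3 :=
    Set.ncard_eq_three.mpr ⟨t, s, t * s, h.st.symm, fun e => h.s1 (left_eq_mul.mp e),
      fun e => h.t1 (right_eq_mul.mp e), rfl⟩
  have hcard : Nat.card G = 12 := by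
    have h1 := Subgroup.card_mul_index (MulAction.stabilizer (ConjAct G) t)
    rw [MulAction.index_stabilizer, horb, h3,
      ← Subgroup.nat_card_centralizer_nat_card_stabilizer, h.card_centralizer] at h1
    change Nat.card (ConjAct G) = 12
    omega
  obtain ⟨x, hx⟩ := exists_prime_orderOf_dvd_card' (G := G) 3 (by rw [hcard]; norm_num)
  have hx1 : x ≠ 1 := by
    rintro rfl; rw [orderOf_one] at hx; omega
  have hx3 : x ^ 3 = 1 := by rw [← hx]; exact pow_orderOf_eq_one x
  have hQ : Nat.card (Subgroup.zpowers x) = 3 := by rw [Nat.card_zpowers, hx]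
  have hNinv : ∀ u ∈ Subgroup.normalizer ((Subgroup.zpowers x : Subgroup G) : Set G),
      orderOf u ≠ 2 := by
    intro u hu hu2
    have huH := hinvH u hu2
    obtain ⟨c, hc⟩ : ∃ c : G, c = u * x * u⁻¹ * x⁻¹ := ⟨_, rfl⟩
    have hcQ : c ∈ Subgroup.zpowers x := by
      have h1 : u * x * u⁻¹ ∈ Subgroup.zpowers x :=
        (Subgroup.mem_normalizer_iff.mp hu x).mp (Subgroup.mem_zpowers x)
      rw [hc]
      exact Subgroup.mul_mem _ h1 (Subgroup.inv_mem _ (Subgroup.mem_zpowers x))
    have hcH : c ∈ Subgroup.centralizer ({t} : Set G) := by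
      have h1 : x * u⁻¹ * x⁻¹ ∈ Subgroup.centralizer ({t} : Set G) :=
        hn.conj_mem _ (Subgroup.inv_mem _ huH) x
      have h2 : c = u * (x * u⁻¹ * x⁻¹) := by rw [hc]; group
      rw [h2]; exact Subgroup.mul_mem _ huH h1
    have hcc : c * c = 1 := h.sq_of_comm (Subgroup.mem_centralizer_singleton_iff.mp hcH)
    have hc3 : c ^ 3 = 1 := by
      obtain ⟨k, hk⟩ := Subgroup.mem_zpowers_iff.mp hcQ
      rw [← hk, ← zpow_natCast, ← zpow_mul, mul_comm, zpow_mul, zpow_natCast, hx3, one_zpow]
    have hc1 : c = 1 := by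
      rw [pow_succ, pow_two, hcc, one_mul] at hc3; exact hc3
    have hux : x * u = u * x := by
      rw [hc, mul_inv_eq_one] at hc1
      rw [mul_inv_eq_iff_eq_mul] at hc1
      exact hc1.symm
    exact no_invol_comm h hconj x 1 (by simpa using hx3) hx1 u hu2 hux
  have hNodd := odd_card_of_no_invol _ hNinv
  have hNdvd : Nat.card (Subgroup.normalizer ((Subgroup.zpowers x : Subgroup G) : Set G)) ∣ 12 :=
    hcard ▸ Subgroup.card_subgroup_dvd_card _
  have hN3 : Nat.card (Subgroup.normalizer ((Subgroup.zpowers x : Subgroup G) : Set G)) ∣ 3 :=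
    (by decide : ∀ m ≤ 12, m ∣ 12 → ¬ 2 ∣ m → m ∣ 3) _
      (Nat.le_of_dvd (by norm_num) hNdvd) hNdvd hNodd
  have hNQ : Subgroup.normalizer ((Subgroup.zpowers x : Subgroup G) : Set G) =
      Subgroup.zpowers x :=
    (Subgroup.eq_of_le_of_card_ge Subgroup.le_normalizer
      (by rw [hQ]; exact Nat.le_of_dvd (by norm_num) hN3)).symm
  refine ⟨Subgroup.zpowers x, ⊥, ?_, ?_, ?_, ?_, ?_, ?_, ?_⟩
  · rw [hcard, hQ]
  · intro y hy hy1
    obtain ⟨hzy, hy3⟩ := prime_card_facts (Subgroup.zpowers x) 3 Nat.prime_three hQ y hy hy1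
    apply le_antisymm
    · calc Subgroup.centralizer ({y} : Set G)
          ≤ Subgroup.normalizer ((Subgroup.zpowers y : Subgroup G) : Set G) :=
            cent_le_normalizer_of_zpowers y
        _ = Subgroup.normalizer ((Subgroup.zpowers x : Subgroup G) : Set G) := by rw [hzy]
        _ = Subgroup.zpowers x := hNQ
    · rw [← hzy]; exact zpowers_le_centralizer y
  · infer_instance
  · rw [Subgroup.card_bot, hQ]
  · exact inf_bot_eq _
  · rw [sup_bot_eq, hNQ]
  · intro X hX hX1; exact absurd (le_bot_iff.mp hX) hX1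

theorem caseB [Finite G] {t s : G} (h : Four t s)
    (hconj : ∀ x y : G, orderOf x = 2 → orderOf y = 2 → IsConj x y)
    (hcard : Nat.card G = 60) (hsimple : IsSimpleGroup G) : Conclusion G := by
  have : Fact (Nat.Prime 5) := ⟨by norm_num⟩
  obtain ⟨P⟩ : Nonempty (Sylow 5 G) := inferInstance
  have hP : Nat.card (P : Subgroup G) = 5 := by
    obtain ⟨n, hn⟩ := IsPGroup.iff_card.mp P.isPGroup'
    have h5 : 5 ∣ Nat.card (P : Subgroup G) :=
      P.dvd_card_of_dvd_card (by rw [hcard]; norm_num)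
    have hd : Nat.card (P : Subgroup G) ∣ 60 := hcard ▸ Subgroup.card_subgroup_dvd_card _
    rcases n with _ | _ | n
    · rw [hn] at h5; norm_num at h5
    · rw [hn]; norm_num
    · exfalso
      have h25 : 25 ∣ 60 := by
        refine dvd_trans ?_ hd
        rw [hn, pow_succ, pow_succ, mul_assoc]
        exact Dvd.intro_left _ rfl
      norm_num at h25
  have hidx : (Subgroup.normalizer ((P : Subgroup G) : Set G)).index = 6 := by
    have h1 : Nat.card (Sylow 5 G) = (Subgroup.normalizer ((P : Subgroup G) : Set G)).index :=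
      P.card_eq_index_normalizer
    have h2 : Nat.card (Sylow 5 G) ≡ 1 [MOD 5] := card_sylow_modEq_one 5 G
    have h3 : Nat.card (Sylow 5 G) ∣ (P : Subgroup G).index := P.card_dvd_index
    have h4 : (P : Subgroup G).index = 12 := by
      have h5 := (P : Subgroup G).card_mul_index
      rw [hP, hcard] at h5; omega
    rw [h4] at h3
    have h5 : Nat.card (Sylow 5 G) = 1 ∨ Nat.card (Sylow 5 G) = 6 :=
      (by decide : ∀ m ≤ 12, m ∣ 12 → m % 5 = 1 → m = 1 ∨ m = 6) _
        (Nat.le_of_dvd (by norm_num) h3) h3 h2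
    rcases h5 with h5 | h5
    · exfalso
      rw [h1] at h5
      have htop : Subgroup.normalizer ((P : Subgroup G) : Set G) = ⊤ :=
        Subgroup.index_eq_one.mp h5
      have hnorm : (P : Subgroup G).Normal := Subgroup.normalizer_eq_top_iff.mp htop
      rcases hnorm.eq_bot_or_eq_top with hb | ht
      · rw [hb, Subgroup.card_bot] at hP; omega
      · rw [ht, Subgroup.card_top, hcard] at hP; omega
    · rw [← h1]; exact h5
  have hN10 : Nat.card (Subgroup.normalizer ((P : Subgroup G) : Set G)) = 10 := by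
    have h1 := (Subgroup.normalizer ((P : Subgroup G) : Set G)).card_mul_index
    rw [hidx, hcard] at h1; omega
  obtain ⟨w', hw'⟩ := exists_prime_orderOf_dvd_card'
    (G := Subgroup.normalizer ((P : Subgroup G) : Set G)) 2 (by rw [hN10]; norm_num)
  obtain ⟨w, hwdef⟩ : ∃ w : G, w = (w' : G) := ⟨_, rfl⟩
  have hw : orderOf w = 2 := by rw [hwdef, Subgroup.orderOf_coe]; exact hw'
  have hwN : w ∈ Subgroup.normalizer ((P : Subgroup G) : Set G) := by rw [hwdef]; exact w'.2
  obtain ⟨v, hv⟩ := four_of_invol h hconj w hw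
  have hD : Nat.card (Subgroup.zpowers w) = 2 := by rw [Nat.card_zpowers, hw]
  have hmemD : ∀ d ∈ Subgroup.zpowers w, d = 1 ∨ d = w := fun d hd => mem_zpowers_two hv.tt hd
  refine ⟨(P : Subgroup G), Subgroup.zpowers w, ?_, ?_, ?_, ?_, ?_, ?_, ?_⟩
  · rw [hcard, hP]
  · intro y hy hy1
    obtain ⟨hzy, hy5⟩ := prime_card_facts (P : Subgroup G) 5 (by norm_num) hP y hy hy1
    have hle : Subgroup.centralizer ({y} : Set G) ≤
        Subgroup.normalizer ((P : Subgroup G) : Set G) := by
      calc Subgroup.centralizer ({y} : Set G)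
          ≤ Subgroup.normalizer ((Subgroup.zpowers y : Subgroup G) : Set G) :=
            cent_le_normalizer_of_zpowers y
        _ = Subgroup.normalizer ((P : Subgroup G) : Set G) := by rw [hzy]
    have hQle : (P : Subgroup G) ≤ Subgroup.centralizer ({y} : Set G) := by
      rw [← hzy]; exact zpowers_le_centralizer y
    have hodd : ¬ 2 ∣ Nat.card (Subgroup.centralizer ({y} : Set G)) := by
      apply odd_card_of_no_invol
      intro u hu hu2
      rw [Subgroup.mem_centralizer_singleton_iff] at hu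
      exact no_invol_comm h hconj y 2 (by simpa using hy5) hy1 u hu2 hu.symm
    have hdvd : Nat.card (Subgroup.centralizer ({y} : Set G)) ∣ 10 :=
      hN10 ▸ Subgroup.card_dvd_of_le hle
    have hdvd5 : Nat.card (Subgroup.centralizer ({y} : Set G)) ∣ 5 :=
      (by decide : ∀ m ≤ 10, m ∣ 10 → ¬ 2 ∣ m → m ∣ 5) _
        (Nat.le_of_dvd (by norm_num) hdvd) hdvd hodd
    exact (Subgroup.eq_of_le_of_card_ge hQle
      (by rw [hP]; exact Nat.le_of_dvd (by norm_num) hdvd5)).symm
  · infer_instance
  · rw [hD, hP]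
  · exact (Subgroup.disjoint_of_coprime_natCard (by rw [hP, hD]; norm_num)).eq_bot
  · have hle : (P : Subgroup G) ⊔ Subgroup.zpowers w ≤
        Subgroup.normalizer ((P : Subgroup G) : Set G) :=
      sup_le Subgroup.le_normalizer (Subgroup.zpowers_le.mpr hwN)
    have h5 : 5 ∣ Nat.card ((P : Subgroup G) ⊔ Subgroup.zpowers w : Subgroup G) := by
      have h5' : Nat.card (P : Subgroup G) ∣
          Nat.card ((P : Subgroup G) ⊔ Subgroup.zpowers w : Subgroup G) :=
        Subgroup.card_dvd_of_le le_sup_left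
      rw [hP] at h5'; exact h5'
    have h2 : 2 ∣ Nat.card ((P : Subgroup G) ⊔ Subgroup.zpowers w : Subgroup G) := by
      have h2' : Nat.card (Subgroup.zpowers w) ∣
          Nat.card ((P : Subgroup G) ⊔ Subgroup.zpowers w : Subgroup G) :=
        Subgroup.card_dvd_of_le le_sup_right
      rw [hD] at h2'; exact h2'
    have h10 : 5 * 2 ∣ Nat.card ((P : Subgroup G) ⊔ Subgroup.zpowers w : Subgroup G) :=
      Nat.Coprime.mul_dvd_of_dvd_of_dvd (by norm_num) h5 h2
    exact (Subgroup.eq_of_le_of_card_ge hle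
      (by rw [hN10]; exact Nat.le_of_dvd Nat.card_pos h10)).symm
  · intro X hX hX1
    have hXD : X = Subgroup.zpowers w := by
      apply le_antisymm hX
      obtain ⟨x, hxX, hx1⟩ : ∃ x ∈ X, x ≠ 1 := by
        by_contra hcon
        push Not at hcon
        exact hX1 ((Subgroup.eq_bot_iff_forall X).mpr hcon)
      rcases hmemD x (hX hxX) with h1 | h1
      · exact absurd h1 hx1
      · rw [Subgroup.zpowers_le, ← h1]; exact hxX
    rw [hXD]
    have hvN : v ∈ Subgroup.normalizer ((Subgroup.zpowers w : Subgroup G) : Set G) := by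
      apply cent_le_normalizer_of_zpowers w
      rw [Subgroup.mem_centralizer_singleton_iff]
      exact hv.comm
    refine ⟨rfl, v, hv.ord_s, ?_, ?_, ?_⟩
    · intro hvD
      rcases hmemD v hvD with h1 | h1
      · exact hv.s1 h1
      · exact hv.st h1
    · intro d hd
      rcases hmemD d hd with h1 | h1
      · rw [h1]; group
      · rw [h1, hv.inv_t, hv.comm, mul_inv_cancel_right]
    · apply le_antisymm
      · intro g hg
        have h1 : g * w * g⁻¹ ∈ Subgroup.zpowers w :=
          (Subgroup.mem_normalizer_iff.mp hg w).mp (Subgroup.mem_zpowers w)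
        rcases hmemD _ h1 with h2 | h2
        · exact absurd (conj_eq_one_iff.mp h2) hv.t1
        · rw [mul_inv_eq_iff_eq_mul] at h2
          rcases hv.cent g h2 with h3 | h3 | h3 | h3
          · rw [h3]; exact Subgroup.one_mem _
          · rw [h3]; exact (le_sup_left : Subgroup.zpowers w ≤ _) (Subgroup.mem_zpowers w)
          · rw [h3]; exact (le_sup_right : Subgroup.zpowers v ≤ _) (Subgroup.mem_zpowers v)
          · rw [h3]
            exact Subgroup.mul_mem _
              ((le_sup_left : Subgroup.zpowers w ≤ _) (Subgroup.mem_zpowers w))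
              ((le_sup_right : Subgroup.zpowers v ≤ _) (Subgroup.mem_zpowers v))
      · exact sup_le Subgroup.le_normalizer (Subgroup.zpowers_le.mpr hvN)

end

theorem main : CaseTwo.{u} := by
  intro G _ _ t K s hB hK
  have hb := Cfsg.Agent.Lib.Helper77.BSWBasicOf.main G t K s hB
  rw [hK] at hb
  have hKmem : ∀ x ∈ K, x = 1 ∨ x = t := by
    intro x hx
    by_cases hx1 : x = 1
    · exact Or.inl hx1
    · right
      obtain ⟨y₀, -, hy₀⟩ := (Nat.card_eq_two_iff' (1 : K)).mp hK
      have h1 : (⟨x, hx⟩ : K) = y₀ := hy₀ _ (fun e => hx1 (congrArg Subtype.val e))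
      have h2 : (⟨t, hb.htK⟩ : K) = y₀ :=
        hy₀ _ (fun e => ne_one_of_orderOf hb.ht (congrArg Subtype.val e))
      exact congrArg Subtype.val (h1.trans h2.symm)
  have h4 : Four t s :=
    { tt := mul_self_of_orderOf hb.ht
      ss := mul_self_of_orderOf hb.hs
      t1 := ne_one_of_orderOf hb.ht
      s1 := ne_one_of_orderOf hb.hs
      st := fun e => hb.hsK (e ▸ hb.htK)
      comm := Subgroup.mem_centralizer_singleton_iff.mp hB.hsH
      cent := by
        intro c hc
        rcases (hb.cent_t c).mp hc with h1 | ⟨x, hx, h1⟩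
        · rcases hKmem c h1 with h2 | h2
          · exact Or.inl h2
          · exact Or.inr (Or.inl h2)
        · rcases hKmem x hx with h2 | h2
          · right; right; left; rw [h1, h2, one_mul]
          · right; right; right; rw [h1, h2] }
  by_cases hn : (Subgroup.centralizer ({t} : Set G)).Normal
  · exact caseA h4 hB.hconj hn
  · obtain ⟨e⟩ := Cfsg.Agent.S3277.result t hB.ht h4.card_centralizer
      (fun c hc => by
        rw [pow_two]; exact h4.sq_of_comm (Subgroup.mem_centralizer_singleton_iff.mp hc))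
      (no_normal_complement h4 hB.hconj)
      (fun E hE _ => no_small_normal h4 hB.hconj hn E hE)
    have hcard : Nat.card G = 60 := by
      rw [Nat.card_congr e.toEquiv, nat_card_alternatingGroup, Nat.card_fin]
      decide
    have : IsSimpleGroup (alternatingGroup (Fin 5)) :=
      alternatingGroup.isSimpleGroup (by rw [Nat.card_fin])
    have hsimple : IsSimpleGroup G := e.isSimpleGroup
    exact caseB h4 hB.hconj hcard hsimple

end Cfsg.Agent.Lib.Helper47.BSWCaseTwo
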