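import Mathlib
import Cfsg.Agent.Lib.Helper10.C2MStmt
import Cfsg.Agent.Lib.Helper70.C2BLOCK4
import Cfsg.Agent.Lib.Helper44.NegPairs

/-!
# S5990C piece BLOCK4M (sub-call by helper10; helper47)

Minus-form port of `Helper70.C2BLOCK4.main`, through its form-free `core`.
-/

set_option autoImplicit false

namespace Cfsg.Agent.Lib.Helper47.C2MBLOCK4M

open Cfsg.Agent.Lib.Helper45.OMiStmt (M Aniso NDegM StabM)
open Cfsg.Agent.Lib.Helper41.TMTwoStmt (PlusM)
open Cfsg.Agent.Lib.Helper10.C2MStmt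
open Cfsg.Agent.Lib.Helper44.NegPairs (minusQ)
open scoped Matrix

universe u

/-- [BLOCK4M] -/
theorem main : Block4M.{u} := by
  intro F _ _ a₀ b₀ _ _ d x hx hxx A hSt hAN hg u hu hxu
  have hiso : ∀ v, minusQ (d - 1) F a₀ b₀ (Matrix.toLin' (x : Matrix (M d) (M d) F) v) =
      minusQ (d - 1) F a₀ b₀ v := by
    intro v
    rw [Matrix.toLin'_apply]
    exact hx v v
  have hXX : ∀ v, Matrix.toLin' (x : Matrix (M d) (M d) F)
      (Matrix.toLin' (x : Matrix (M d) (M d) F) v) = v := by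
    intro v
    rw [Matrix.toLin'_apply, Matrix.toLin'_apply, Matrix.mulVec_mulVec, hxx, Matrix.one_mulVec]
  obtain ⟨b, hbA, hXb, hli, hnd, hts⟩ := Cfsg.Agent.Lib.Helper70.C2BLOCK4.core
    (minusQ (d - 1) F a₀ b₀) (Matrix.toLin' (x : Matrix (M d) (M d) F))
    hiso hXX A (fun a ha => hSt (Submodule.mem_map_of_mem ha))
    (fun w hw hw0 => (hAN w hw hw0).2)
    (fun a ha => by rw [Matrix.toLin'_apply]; exact hg a ha) u hu
    (by rw [Matrix.toLin'_apply]; exact hxu)
  have hB4 : Module.finrank F ↥(Submodule.span F (Set.range b)) = 4 := by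
    rw [finrank_span_eq_card hli]
    simp
  have hinj : Function.Injective (![2, 3] : Fin 2 → Fin 4) := by decide
  have hli2 : LinearIndependent F (b ∘ (![2, 3] : Fin 2 → Fin 4)) := hli.comp _ hinj
  refine ⟨Submodule.span F (Set.range b), ?_, ?_, ?_, ?_, hB4⟩
  · rw [Submodule.span_le]
    rintro _ ⟨i, rfl⟩
    exact hbA i
  · show (Submodule.span F (Set.range b)).map (Matrix.toLin' (x : Matrix (M d) (M d) F)) ≤ _
    rw [Submodule.map_span_le]
    rintro _ ⟨i, rfl⟩
    exact hXb i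
  · intro w hw hw0
    obtain ⟨y, hy, hne⟩ := hnd w hw hw0
    refine ⟨⟨y, hy, ?_⟩, ⟨y, hy, hne⟩⟩
    rw [QuadraticMap.polar_comm]
    exact hne
  · refine ⟨Submodule.span F (Set.range (b ∘ (![2, 3] : Fin 2 → Fin 4))), ?_, ?_, ?_⟩
    · exact Submodule.span_mono (Set.range_comp_subset_range _ _)
    · intro w hw
      obtain ⟨c, hc⟩ := (Submodule.mem_span_range_iff_exists_fun F).1 hw
      rw [Fin.sum_univ_two] at hc
      rw [← hc]
      exact hts (c 0) (c 1)
    · rw [finrank_span_eq_card hli2, hB4]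
      simp

end Cfsg.Agent.Lib.Helper47.C2MBLOCK4M
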