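import Mathlib
import Cfsg.Agent.Lib.Helper75.DCStmt

/-!
# S4719 piece TWO (helper47, second seat): `main (hQC : QC) : TWO`

If `G` contains a nontrivial `Γ`-normal 2-subgroup `T`, then with `A = Z(T)`: either one of
`v`, `w`, `v * w` lies in `A` and `G / C_G(A)` embeds in `Sym(A)`, or the induction hypothesis
applies to `G / A ⊴ Γ / A`.
-/

set_option autoImplicit false

namespace Cfsg.Agent.Lib.Helper47.DCTWO

open Cfsg Cfsg.Agent.Lib.Helper75.DCStmt

universe u

/-- an element `x` of the normal subgroup `A`: `|G| ≤ |C_G(x)| · |A|!`. -/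
theorem card_le_of_mem {Γ : Type u} [Group Γ] [Finite Γ] (G A : Subgroup Γ) [A.Normal] (x : Γ)
    (hx : x ∈ A) :
    Nat.card G ≤ Nat.card ↥(G ⊓ Subgroup.centralizer ({x} : Set Γ)) * (Nat.card A).factorial := by
  obtain ⟨φ, hφ⟩ : ∃ φ : ↥G →* Equiv.Perm ↥A,
      ∀ (g : ↥G) (y : ↥A), ((φ g y : ↥A) : Γ) = (g : Γ) * (y : Γ) * (g : Γ)⁻¹ :=
    ⟨(MulAut.toPerm ↥A).comp ((MulAut.conjNormal (H := A)).comp G.subtype), fun g y => rfl⟩
  have h1 : Nat.card ↥G = Nat.card φ.ker * Nat.card φ.range := by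
    rw [← Subgroup.index_ker, Subgroup.card_mul_index]
  have h2 : Nat.card φ.range ≤ (Nat.card A).factorial := by
    rw [← Nat.card_perm]
    exact Nat.card_le_card_of_injective (fun x => x.1) Subtype.val_injective
  have h3 : Nat.card φ.ker ≤ Nat.card ↥(G ⊓ Subgroup.centralizer ({x} : Set Γ)) := by
    have hmem : ∀ k : φ.ker, ((k : ↥G) : Γ) ∈ G ⊓ Subgroup.centralizer ({x} : Set Γ) := by
      intro k
      refine Subgroup.mem_inf.2 ⟨k.1.2, ?_⟩
      rw [Subgroup.mem_centralizer_singleton_iff]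
      have hk : φ k.1 = 1 := k.2
      have hk2 := hφ k.1 ⟨x, hx⟩
      rw [hk, Equiv.Perm.one_apply] at hk2
      change x = ((k : ↥G) : Γ) * x * ((k : ↥G) : Γ)⁻¹ at hk2
      rw [eq_mul_inv_iff_mul_eq] at hk2
      exact hk2.symm
    exact Nat.card_le_card_of_injective (fun k => ⟨((k : ↥G) : Γ), hmem k⟩) (by
      intro k k' h
      dsimp only at h
      have h' := congrArg (fun z : ↥(G ⊓ Subgroup.centralizer ({x} : Set Γ)) => (z : Γ)) h
      exact Subtype.ext (Subtype.ext h'))
  calc Nat.card G = Nat.card φ.ker * Nat.card φ.range := h1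
    _ ≤ _ := Nat.mul_le_mul h3 h2

theorem main (hQC : QC.{u}) : TWO.{u} := by
  intro a c N hKB Γ _ _ G v w hS hfac T hTn hTG hT2 hTne
  have hGpos : Nat.card G ≠ 0 := Nat.card_pos.ne'
  -- `A = Z(T)`
  obtain ⟨A, hA⟩ : ∃ A : Subgroup Γ, A = T ⊓ Subgroup.centralizer (T : Set Γ) := ⟨_, rfl⟩
  have hAn : A.Normal := by rw [hA]; infer_instance
  have hAT : A ≤ T := by rw [hA]; exact inf_le_left
  have hAG : A ≤ G := hAT.trans hTG
  have hAne : A ≠ ⊥ := by
    have hnt : Nontrivial ↥T := (Subgroup.nontrivial_iff_ne_bot T).2 hTne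
    have hc : Nontrivial ↥(Subgroup.center ↥T) := hT2.center_nontrivial
    obtain ⟨t, ht⟩ := exists_ne (1 : ↥(Subgroup.center ↥T))
    intro hbot
    have hmem : ((t : ↥T) : Γ) ∈ A := by
      rw [hA]
      refine Subgroup.mem_inf.2 ⟨(t : ↥T).2, ?_⟩
      rw [Subgroup.mem_centralizer_iff]
      intro h hh
      have h1 := (Subgroup.mem_center_iff.1 t.2) ⟨h, hh⟩
      exact congrArg Subtype.val h1
    rw [hbot, Subgroup.mem_bot] at hmem
    apply ht
    exact Subtype.ext (Subtype.ext hmem)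
  -- `|A| = 2 ^ k`, `1 ≤ k ≤ a + 1`
  have hA2 : IsPGroup 2 ↥A := hT2.to_le hAT
  obtain ⟨k, hk⟩ := (IsPGroup.iff_card).1 hA2
  have hk1 : 1 ≤ k := by
    rcases Nat.eq_zero_or_pos k with h0 | h0
    · exfalso
      rw [h0, pow_zero] at hk
      exact hAne (Subgroup.card_eq_one.1 hk)
    · exact h0
  have hkle : k ≤ a + 1 := by
    have hdvd : 2 ^ k ∣ Nat.card G := by rw [← hk]; exact Subgroup.card_dvd_of_le hAG
    exact ((Nat.prime_two.pow_dvd_iff_le_factorization hGpos).1 hdvd).trans hfac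
  have hAle : Nat.card A ≤ 2 ^ (a + 1) := by
    rw [hk]; exact Nat.pow_le_pow_right (by norm_num) hkle
  by_cases hcase : v ∈ A ∨ w ∈ A ∨ v * w ∈ A
  · -- one of the three involutions lies in `A`
    obtain ⟨x, hx3, hxA⟩ : ∃ x : Γ, (x = v ∨ x = w ∨ x = v * w) ∧ x ∈ A := by
      rcases hcase with h | h | h
      · exact ⟨v, Or.inl rfl, h⟩
      · exact ⟨w, Or.inr (Or.inl rfl), h⟩
      · exact ⟨v * w, Or.inr (Or.inr rfl), h⟩
    have h1 := card_le_of_mem G A x hxA
    have h2 := hS.cent x hx3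
    exact (h1.trans (Nat.mul_le_mul h2 (Nat.factorial_le hAle))).trans (Nat.le_add_right _ _)
  · -- the quotient by `A`
    simp only [not_or] at hcase
    obtain ⟨hvA, hwA, hvwA⟩ := hcase
    have hvinv : v⁻¹ = v := by rw [inv_eq_iff_mul_eq_one]; exact hS.v_sq
    have hSet : Setting (G.map (QuotientGroup.mk' A)) (QuotientGroup.mk' A v)
        (QuotientGroup.mk' A w) c := by
      refine ⟨?_, ?_, ?_, ?_, ?_, ?_, ?_, ?_⟩
      · exact hS.normal.map _ (QuotientGroup.mk'_surjective A)
      · intro h; exact hvA ((QuotientGroup.eq_one_iff v).1 h)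
      · intro h; exact hwA ((QuotientGroup.eq_one_iff w).1 h)
      · intro h
        have h1 : v⁻¹ * w ∈ A := QuotientGroup.eq.1 h
        rw [hvinv] at h1
        exact hvwA h1
      · rw [← map_mul, hS.v_sq, map_one]
      · rw [← map_mul, hS.w_sq, map_one]
      · rw [← map_mul, ← map_mul, hS.comm]
      · intro x hx
        obtain ⟨y, hy3, rfl⟩ : ∃ y : Γ, (y = v ∨ y = w ∨ y = v * w) ∧
            x = QuotientGroup.mk' A y := by
          rcases hx with h | h | h
          · exact ⟨v, Or.inl rfl, h⟩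
          · exact ⟨w, Or.inr (Or.inl rfl), h⟩
          · exact ⟨v * w, Or.inr (Or.inr rfl), by rw [h, map_mul]⟩
        exact (hQC Γ A G y hAG).trans (hS.cent y hy3)
    -- cardinalities
    have hcard : Nat.card G = Nat.card ↥(G.map (QuotientGroup.mk' A)) * Nat.card A := by
      have e1 := Subgroup.card_mul_index G
      have e2 := Subgroup.card_mul_index (G.map (QuotientGroup.mk' A))
      have e3 : (G.map (QuotientGroup.mk' A)).index = G.index := by
        have h1 := Subgroup.index_comap_of_surjective (G.map (QuotientGroup.mk' A))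
          (QuotientGroup.mk'_surjective A)
        rw [Subgroup.comap_map_eq_self (by rw [QuotientGroup.ker_mk']; exact hAG)] at h1
        exact h1.symm
      have e4 := Subgroup.card_eq_card_quotient_mul_card_subgroup A
      have hidx : 0 < G.index := Nat.pos_of_ne_zero Subgroup.index_ne_zero_of_finite
      rw [e3] at e2
      apply Nat.eq_of_mul_eq_mul_right hidx
      rw [e1, e4, ← e2]
      ring
    have hfac' : (Nat.card ↥(G.map (QuotientGroup.mk' A))).factorization 2 ≤ a := by
      have hpos' : Nat.card ↥(G.map (QuotientGroup.mk' A)) ≠ 0 := Nat.card_pos.ne'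
      have h1 : (Nat.card G).factorization 2 =
          (Nat.card ↥(G.map (QuotientGroup.mk' A))).factorization 2 + k := by
        rw [hcard, hk, Nat.factorization_mul hpos' (pow_ne_zero _ (by norm_num)),
          Nat.Prime.factorization_pow Nat.prime_two]
        simp
      omega
    have hN := hKB (Γ ⧸ A) (G.map (QuotientGroup.mk' A)) _ _ hSet hfac'
    rw [hcard]
    refine (Nat.mul_le_mul hN hAle).trans ?_
    rw [Nat.mul_comm]
    exact Nat.le_add_left _ _

end Cfsg.Agent.Lib.Helper47.DCTWO
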