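import Mathlib
import Cfsg.Prelude.Def_Transfer

set_option autoImplicit false

namespace Cfsg.Agent.Lib.Helper47.Elem

open Cfsg

variable {G : Type*} [Group G]

/-- a subgroup generated by pairwise commuting elements of exponent `p` is elementary abelian -/
theorem isElementaryAbelian_closure {p : ℕ} {Z : Set G} (hc : ∀ a ∈ Z, ∀ b ∈ Z, a * b = b * a)
    (hp : ∀ a ∈ Z, a ^ p = 1) : IsElementaryAbelian p (Subgroup.closure Z) := by
  have h1 : ∀ z ∈ Z, z ∈ Subgroup.centralizer ((Subgroup.closure Z : Subgroup G) : Set G) := by
    intro z hz
    have h2 : Subgroup.closure Z ≤ Subgroup.centralizer ({z} : Set G) := by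
      rw [Subgroup.closure_le]
      intro a ha
      rw [SetLike.mem_coe, Subgroup.mem_centralizer_iff]
      intro w hw
      rw [Set.mem_singleton_iff.mp hw]
      exact hc z hz a ha
    rw [Subgroup.mem_centralizer_iff]
    intro h hh
    have := h2 hh
    rw [Subgroup.mem_centralizer_iff] at this
    exact (this z rfl).symm
  have h3 : Subgroup.closure Z ≤
      Subgroup.centralizer ((Subgroup.closure Z : Subgroup G) : Set G) := by
    rw [Subgroup.closure_le]
    exact h1
  refine ⟨Subgroup.le_centralizer_iff_isMulCommutative.mp h3, ?_⟩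
  intro a ha
  induction ha using Subgroup.closure_induction with
  | mem x hx => exact hp x hx
  | one => exact one_pow _
  | mul x y hx hy hxp hyp =>
    have hxy : Commute x y := by
      have := h3 hy
      rw [Subgroup.mem_centralizer_iff] at this
      exact this x hx
    rw [hxy.mul_pow, hxp, hyp, one_mul]
  | inv x hx hxp => rw [inv_pow, hxp, inv_one]

end Cfsg.Agent.Lib.Helper47.Elem
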