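import Mathlib
import Cfsg.Agent.Lib.Helper47.FrakH
import Cfsg.Agent.Lib.Helper47.PRed2
import Cfsg.Agent.Lib.Helper47.PClosed

set_option autoImplicit false

namespace Cfsg.Agent.Lib.Helper47.FrakH2

open Cfsg Cfsg.Agent.Lib.Helper47.Syl Cfsg.Agent.Lib.Helper47.Cent Cfsg.Agent.Lib.Helper47.PRes
  Cfsg.Agent.Lib.Helper47.SecCent Cfsg.Agent.Lib.Helper47.FrakH Cfsg.Agent.Lib.Helper47.FrakM
  Cfsg.Agent.Lib.Helper47.FrakM2

variable {G : Type*} [Group G]

/-- for `H ∈ ℌ_G(O_p(M))`: `O^p(H)` lies in the normal closure of `Y_M` in `H` -/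
theorem pResOf_le_nclIn [Finite G] {p : ℕ} {M H : Subgroup G} (hH : IsInFrakH p M H) :
    pResOf p H ≤ nclIn (largestPReducedOf p M) H := by
  have hOH := hH.2.1
  have hYH : largestPReducedOf p M ≤ H := (largest_le_pCoreOf p M).trans hOH
  exact pResOf_le_of_sup_eq (pCoreOf_isPGroup p M) (hOH.trans (le_normalizer_nclIn _ H))
    (sup_eq_of_frakH hH (nclIn_le _ H) (le_normalizer_nclIn _ H) (le_nclIn hYH))

/-- for `H ∈ ℌ_G(O_p(M))`: `H` is generated by the `H`-conjugates of `O_p(M)` -/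
theorem nclOf_pCoreOf_eq [Finite G] {p : ℕ} {M H : Subgroup G} (hH : IsInFrakH p M H) :
    PRed2.nclOf H (pCoreOf p M) = H := by
  have hOH := hH.2.1
  have h1 := sup_eq_of_frakH hH (PRed2.nclOf_le hOH Subgroup.le_normalizer)
    (PRed2.le_normalizer_nclOf H (pCoreOf p M))
    ((largest_le_pCoreOf p M).trans (PRed2.le_nclOf H (pCoreOf p M)))
  rwa [sup_eq_left.mpr (PRed2.le_nclOf H (pCoreOf p M))] at h1

/-- an element all of whose `H`-conjugates normalize `O` normalizes the join of the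
`H`-conjugates of `O` -/
theorem mem_normalizer_nclOf {H O : Subgroup G} {x : G}
    (h : ∀ g ∈ H, g⁻¹ * x * g ∈ Subgroup.normalizer (O : Set G)) :
    x ∈ Subgroup.normalizer ((PRed2.nclOf H O : Subgroup G) : Set G) := by
  rw [mem_normalizer_iff_map_conj]
  unfold PRed2.nclOf
  rw [Subgroup.map_iSup]
  apply iSup_congr
  intro g
  have h1 : x * (g : G) = (g : G) * ((g : G)⁻¹ * x * (g : G)) := by group
  rw [map_conj_map_conj, h1, ← map_conj_map_conj, map_conj_eq_of_mem_normalizer (h g g.2)]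

/-- `L` is `p`-closed when its `p'`-elements normalize a Sylow `p`-subgroup -/
theorem isPClosed_of_coprime_normalize [Finite G] {p : ℕ} [Fact p.Prime] {T L : Subgroup G}
    (hT : IsSyl p T L) (h : ∀ x ∈ L, (orderOf x).Coprime p → x ∈ Subgroup.normalizer (T : Set G)) :
    IsPClosed p ↥L := by
  apply isPClosed_of_isSyl_normal hT
  intro n hn
  obtain ⟨t, ht, r, hr, rfl⟩ := exists_mul_pResOf hT hn
  exact Subgroup.mul_mem _ (Subgroup.le_normalizer ht) (pResOf_le_of_coprime_mem h hr)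

/-- a subgroup containing `Y_M` but not in `O_p` is not `p`-closed -/
theorem not_isPClosed_of_frakH [Finite G] {p : ℕ} [Fact p.Prime] {M H K : Subgroup G}
    (hH : IsInFrakH p M H) (hHK : H ≤ K) : ¬ IsPClosed p ↥K := by
  intro hcl
  have hOH := hH.2.1
  have hYH : largestPReducedOf p M ≤ H := (largest_le_pCoreOf p M).trans hOH
  obtain ⟨T, hT, hYT⟩ := exists_isSyl_ge (largest_isPGroup p M) (hYH.trans hHK)
  have hKT := (isPClosed_iff K).mp hcl T hT
  apply hH.2.2.1
  refine (le_inf hYT hYH).trans (le_pCoreOf inf_le_right ?_ (hT.2.1.to_le inf_le_left))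
  intro h hh
  exact normalizer_inf_le _ _ ⟨hKT (hHK hh), Subgroup.le_normalizer hh⟩

end Cfsg.Agent.Lib.Helper47.FrakH2
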