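import Mathlib
import Cfsg.Agent.Lib.Helper40.HPStmt

/-!
# S5974 piece NDARITHJ (helper47): pure arithmetic

A prime `r ≠ 2`, `r ∤ q`, dividing `(q^(d-t) - 1) (q^(d-t-1) + 1)` with `t < h`, `2 h < d`, gives
`NDivC d (2 h) i` for `i = orderOf (q : ZMod r)`.
-/

set_option autoImplicit false

namespace Cfsg.Agent.Lib.Helper47.HPNDARITHJ

open Cfsg.Agent.Lib.Helper40.HPStmt
open Cfsg.Agent.Lib.Helper37.HypStmt (cc)

theorem main : NdArithJ := by
  intro q d h t r hr hr2 hrq ht hhd hdvd
  have : Fact r.Prime := ⟨hr⟩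
  have hq0 : ((q : ℕ) : ZMod r) ≠ 0 := fun h0 => hrq ((ZMod.natCast_eq_zero_iff _ r).mp h0)
  have hqpos : 0 < q := by
    rcases Nat.eq_zero_or_pos q with rfl | hq
    · exact absurd (dvd_zero r) hrq
    · exact hq
  have hipos' : 0 < orderOf ((q : ℕ) : ZMod r) := by
    apply orderOf_pos_iff.mpr
    rw [isOfFinOrder_iff_pow_eq_one]
    exact ⟨r - 1, by have := hr.two_le; omega, ZMod.pow_card_sub_one_eq_one hq0⟩
  have hne : (1 : ZMod r) ≠ -1 := by
    intro h1
    have h2 : ((2 : ℕ) : ZMod r) = 0 := by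
      push_cast
      linear_combination h1
    have h3 := (ZMod.natCast_eq_zero_iff 2 r).mp h2
    exact hr2 ((Nat.prime_dvd_prime_iff_eq hr Nat.prime_two).mp h3)
  obtain ⟨i, hi⟩ : ∃ i, i = orderOf ((q : ℕ) : ZMod r) := ⟨_, rfl⟩
  rw [← hi] at hipos' ⊢
  rcases (Nat.Prime.dvd_mul hr).mp hdvd with hA | hB
  · have h0 := (ZMod.natCast_eq_zero_iff _ r).mpr hA
    have h1 : 1 ≤ q ^ (d - t) := Nat.one_le_pow _ _ hqpos
    rw [Nat.cast_sub h1] at h0
    push_cast at h0
    have hpow : ((q : ℕ) : ZMod r) ^ (d - t) = 1 := sub_eq_zero.mp h0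
    have hdiv : i ∣ d - t := by
      rw [hi]
      exact orderOf_dvd_of_pow_eq_one hpow
    obtain ⟨a, ha⟩ := hdiv
    refine ⟨fun hodd => ?_, fun heven => ?_⟩
    · right
      have hcc : cc i = 2 * i := by
        unfold cc
        rw [if_neg (Nat.not_even_iff_odd.mpr hodd)]
      rw [hcc]
      have e1 : (2 * i) * a = 2 * (i * a) := by ring
      have h2d : 2 * d = 2 * t + (2 * i) * a := by omega
      rw [h2d, Nat.add_mul_mod_self_left]
      exact lt_of_le_of_lt (Nat.mod_le _ _) (by omega)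
    · right; right; left
      have e1 : i * (2 * a) = 2 * (i * a) := by ring
      have h2d : 2 * d = 2 * t + i * (2 * a) := by omega
      rw [h2d, Nat.add_mul_mod_self_left]
      exact lt_of_le_of_lt (Nat.mod_le _ _) (by omega)
  · have h0 := (ZMod.natCast_eq_zero_iff _ r).mpr hB
    push_cast at h0
    have hpow : ((q : ℕ) : ZMod r) ^ (d - t - 1) = -1 := eq_neg_of_add_eq_zero_left h0
    have hnd : ¬ i ∣ d - t - 1 := by
      intro hd
      rw [hi] at hd
      have h3 := orderOf_dvd_iff_pow_eq_one.mp hd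
      rw [hpow] at h3
      exact hne h3.symm
    have h2 : i ∣ 2 * (d - t - 1) := by
      rw [hi]
      apply orderOf_dvd_of_pow_eq_one
      rw [mul_comm, pow_mul, hpow]
      ring
    have heven : Even i := by
      by_contra hodd
      rw [Nat.not_even_iff_odd] at hodd
      exact hnd (Nat.Coprime.dvd_of_dvd_mul_left (Nat.coprime_two_left.mpr hodd).symm h2)
    refine ⟨fun hodd => absurd heven (Nat.not_even_iff_odd.mpr hodd), fun _ => ?_⟩
    obtain ⟨b, hb⟩ := h2
    have hbodd : Odd b := by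
      by_contra hbe
      rw [Nat.not_odd_iff_even] at hbe
      obtain ⟨b', hb'⟩ := hbe
      apply hnd
      refine ⟨b', ?_⟩
      have e2 : i * b = 2 * (i * b') := by rw [hb']; ring
      omega
    by_cases hle : i ≤ 2 * h
    · left
      exact hle
    · right; right
      have h2d : 2 * d = (2 * t + 2) + i * b := by omega
      have hmod : (2 * d) % i = 2 * t + 2 := by
        rw [h2d, Nat.add_mul_mod_self_left]
        exact Nat.mod_eq_of_lt (by omega)
      have hdivv : (2 * d) / i = b := by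
        rw [h2d, Nat.add_mul_div_left _ _ hipos', Nat.div_eq_of_lt (by omega), zero_add]
      rcases Nat.lt_or_ge (2 * t + 2) (2 * h) with hlt | hge
      · left
        rw [hmod]
        exact hlt
      · right
        refine ⟨by rw [hmod]; omega, by rw [hdivv]; exact hbodd⟩

end Cfsg.Agent.Lib.Helper47.HPNDARITHJ
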