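import Mathlib
import Cfsg.Agent.Lib.Helper59.HTStmt

/-!
# S3371 piece AUNITS (helper47)

A subgroup of `F_q^× × F_q^×` of order `2 (q - 1)` with exactly `q - 1` elements of product `1`
is `{(c, d) | c d = ± 1}`.
-/

set_option autoImplicit false

namespace Cfsg.Agent.Lib.Helper47.HTAUNITS

open Cfsg.Agent.Lib.Helper59.HTStmt

theorem main : AUnits := by
  intro q _ hq2 K hK hT x
  classical
  have hqr : q.Prime := Fact.out
  let μ : (ZMod q)ˣ × (ZMod q)ˣ →* (ZMod q)ˣ :=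
    (MonoidHom.fst (ZMod q)ˣ (ZMod q)ˣ) * (MonoidHom.snd (ZMod q)ˣ (ZMod q)ˣ)
  have hμ : ∀ y, μ y = y.1 * y.2 := fun y => rfl
  let φ : K →* (ZMod q)ˣ := μ.comp K.subtype
  have hφ : ∀ k : K, φ k = (k : (ZMod q)ˣ × (ZMod q)ˣ).1 * (k : (ZMod q)ˣ × (ZMod q)ˣ).2 :=
    fun k => rfl
  have hker : Nat.card φ.ker = q - 1 := by
    rw [← hT]
    refine Nat.card_congr
      { toFun := fun k => ⟨((k : K) : (ZMod q)ˣ × (ZMod q)ˣ), (k : K).2, ?_⟩
        invFun := fun t => ⟨⟨t.1, t.2.1⟩, ?_⟩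
        left_inv := fun k => rfl
        right_inv := fun t => rfl }
    · have h1 : φ (k : K) = 1 := k.2
      rw [hφ] at h1
      exact h1
    · show φ ⟨t.1, t.2.1⟩ = 1
      rw [hφ]
      exact t.2.2
  have hq1 : 0 < q - 1 := by
    have := hqr.two_le
    omega
  have hrange : Nat.card φ.range = 2 := by
    have h1 := Subgroup.card_mul_index φ.ker
    rw [Subgroup.index_ker, hker, hK] at h1
    have h2 : (q - 1) * Nat.card φ.range = (q - 1) * 2 := by rw [h1]; ring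
    exact Nat.eq_of_mul_eq_mul_left hq1 h2
  have hcardU : Nat.card (ZMod q)ˣ = q - 1 := by
    rw [Nat.card_eq_fintype_card, ZMod.card_units]
  have hinv : ∀ y : (ZMod q)ˣ × (ZMod q)ˣ, y.1 * y.2 = 1 → y.2 = (y.1)⁻¹ :=
    fun y hy => eq_inv_of_mul_eq_one_right hy
  have hall : ∀ y : (ZMod q)ˣ × (ZMod q)ˣ, y.1 * y.2 = 1 → y ∈ K := by
    let f : {k : (ZMod q)ˣ × (ZMod q)ˣ // k ∈ K ∧ k.1 * k.2 = 1} → (ZMod q)ˣ := fun t => t.1.1
    have hf : Function.Injective f := by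
      intro s t hst
      have hst' : s.1.1 = t.1.1 := hst
      apply Subtype.ext
      apply Prod.ext hst'
      rw [hinv _ s.2.2, hinv _ t.2.2, hst']
    have hbij := hf.bijective_of_nat_card_le (by rw [hT, hcardU])
    intro y hy
    obtain ⟨t, ht⟩ := hbij.2 y.1
    have ht' : t.1.1 = y.1 := ht
    have h1 : t.1 = y := by
      apply Prod.ext ht'
      rw [hinv _ t.2.2, hinv _ hy, ht']
    rw [← h1]
    exact t.2.1
  have hpm : ∀ r ∈ φ.range, r = 1 ∨ r = -1 := by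
    intro r hr
    have h1 : (⟨r, hr⟩ : φ.range) ^ (Nat.card φ.range) = 1 := pow_card_eq_one'
    rw [hrange] at h1
    have h2 : r ^ 2 = 1 := congrArg Subtype.val h1
    have h3 : (r : ZMod q) * (r : ZMod q) = 1 := by
      have h4 := congrArg Units.val h2
      rw [pow_two] at h4
      exact h4
    rcases mul_self_eq_one_iff.1 h3 with h | h
    · left; exact Units.ext h
    · right; exact Units.ext h
  obtain ⟨k₀, hk₀K, hk₀⟩ : ∃ k₀ ∈ K, k₀.1 * k₀.2 = -1 := by
    have hex : ∃ r ∈ φ.range, r ≠ 1 := by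
      by_contra hcon
      push Not at hcon
      have h1 : φ.range = ⊥ := (Subgroup.eq_bot_iff_forall _).2 hcon
      rw [h1, Subgroup.card_bot] at hrange
      omega
    obtain ⟨r, ⟨k, rfl⟩, hr1⟩ := hex
    rcases hpm _ ⟨k, rfl⟩ with h | h
    · exact absurd h hr1
    · exact ⟨k.1, k.2, h⟩
  constructor
  · intro hx
    exact hpm (x.1 * x.2) ⟨⟨x, hx⟩, rfl⟩
  · rintro (h | h)
    · exact hall x h
    · have h1 : (x * k₀⁻¹).1 * (x * k₀⁻¹).2 = 1 := by
        have h2 := map_mul μ x k₀⁻¹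
        rw [map_inv, hμ, hμ, hμ, h, hk₀, mul_inv_cancel] at h2
        exact h2
      have h2 := hall _ h1
      have h3 := K.mul_mem h2 hk₀K
      rwa [inv_mul_cancel_right] at h3

end Cfsg.Agent.Lib.Helper47.HTAUNITS
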