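import Mathlib
import Cfsg.Agent.Lib.Helper47.FrakH
import Cfsg.Agent.Lib.Helper47.YMin

set_option autoImplicit false

namespace Cfsg.Agent.Lib.Helper47.KFam

open Cfsg Cfsg.Agent.Lib.Helper47.Syl Cfsg.Agent.Lib.Helper47.Cent Cfsg.Agent.Lib.Helper47.PRes
  Cfsg.Agent.Lib.Helper47.SecCent Cfsg.Agent.Lib.Helper47.FrakH
open scoped commutatorElement

variable {G : Type*} [Group G]

/-! ### general lemmas -/

theorem pResOf_map_conj (p : ℕ) (L : Subgroup G) (g : G) :
    pResOf p (L.map (MulAut.conj g).toMonoidHom) =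
      (pResOf p L).map (MulAut.conj g).toMonoidHom := by
  rw [pResOf_eq_closure, pResOf_eq_closure, MonoidHom.map_closure]
  congr 1
  ext x
  constructor
  · rintro ⟨⟨y, hy, rfl⟩, hc⟩
    refine ⟨y, ⟨hy, ?_⟩, rfl⟩
    have h1 : orderOf ((MulAut.conj g).toMonoidHom y) = orderOf y :=
      MulEquiv.orderOf_eq (MulAut.conj g) y
    rwa [h1] at hc
  · rintro ⟨y, ⟨hy, hc⟩, rfl⟩
    refine ⟨⟨y, hy, rfl⟩, ?_⟩
    have h1 : orderOf ((MulAut.conj g).toMonoidHom y) = orderOf y :=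
      MulEquiv.orderOf_eq (MulAut.conj g) y
    show (orderOf ((MulAut.conj g).toMonoidHom y)).Coprime p
    rwa [h1]

theorem map_conj_le_iff {A B : Subgroup G} {g : G} :
    A.map (MulAut.conj g).toMonoidHom ≤ B ↔ A ≤ B.map (MulAut.conj g⁻¹).toMonoidHom := by
  constructor
  · intro h
    have := Subgroup.map_mono (f := (MulAut.conj g⁻¹).toMonoidHom) h
    rwa [map_conj_inv_map_conj] at this
  · intro h
    have := Subgroup.map_mono (f := (MulAut.conj g).toMonoidHom) h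
    rwa [map_conj_map_conj, mul_inv_cancel, map_conj_one] at this

/-- the three subgroups lemma modulo a normal subgroup -/
theorem three_mod {D A B C : Subgroup G} [D.Normal] (h1 : ⁅⁅B, C⁆, A⁆ ≤ D)
    (h2 : ⁅⁅C, A⁆, B⁆ ≤ D) : ⁅⁅A, B⁆, C⁆ ≤ D := by
  have key : ∀ X : Subgroup G, X ≤ D ↔ X.map (QuotientGroup.mk' D) = ⊥ := by
    intro X
    rw [Subgroup.map_eq_bot_iff, QuotientGroup.ker_mk']
  rw [key, Subgroup.map_commutator, Subgroup.map_commutator] at h1 h2 ⊢
  exact Subgroup.commutator_commutator_eq_bot_of_rotate h1 h2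

/-- if `⁅x,y⁆` commutes with `x` then `⁅x^m, y⁆ = ⁅x,y⁆^m` -/
theorem comm_pow {H : Type*} [Group H] {x y : H} (h : Commute ⁅x, y⁆ x) (m : ℕ) :
    ⁅x ^ m, y⁆ = ⁅x, y⁆ ^ m := by
  induction m with
  | zero => simp
  | succ m ih =>
    have e : ⁅x ^ (m + 1), y⁆ = x * ⁅x ^ m, y⁆ * x⁻¹ * ⁅x, y⁆ := by
      rw [pow_succ']; simp only [commutatorElement_def]; group
    rw [e, ih]
    have h2 : x * ⁅x, y⁆ ^ m * x⁻¹ = ⁅x, y⁆ ^ m := by
      have h3 := (h.pow_left m).eq
      rw [← h3]; group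
    rw [h2, pow_succ]

/-- modular law with a normal subgroup -/
theorem le_inf_sup_of_le {D E Y : Subgroup G} (hED : E ≤ Subgroup.normalizer (D : Set G))
    (hDY : D ≤ Y) (hY : Y ≤ E ⊔ D) : Y ≤ (Y ⊓ E) ⊔ D := by
  intro y hy
  obtain ⟨e, he, d, hd, rfl⟩ := exists_mul_of_mem_sup_left hED (hY hy)
  have h1 : e ∈ Y := by
    have := Y.mul_mem hy (Y.inv_mem (hDY hd))
    simpa using this
  exact Subgroup.mul_mem _ (Subgroup.mem_sup_left ⟨h1, he⟩) (Subgroup.mem_sup_right hd)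

/-- the setwise stabilizer of a set of subgroups under conjugation -/
def stab (Ω : Set (Subgroup G)) : Subgroup G where
  carrier := {h | ∀ F, F ∈ Ω ↔ F.map (MulAut.conj h).toMonoidHom ∈ Ω}
  one_mem' := fun F => by rw [map_conj_one]
  mul_mem' := by
    intro a b ha hb F
    rw [← map_conj_map_conj]
    exact (hb F).trans (ha _)
  inv_mem' := by
    intro a ha F
    have := ha (F.map (MulAut.conj a⁻¹).toMonoidHom)
    rw [map_conj_map_conj, mul_inv_cancel, map_conj_one] at this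
    exact this.symm

theorem mem_stab_of {Ω : Set (Subgroup G)} {h : G}
    (h1 : ∀ F ∈ Ω, F.map (MulAut.conj h).toMonoidHom ∈ Ω)
    (h2 : ∀ F ∈ Ω, F.map (MulAut.conj h⁻¹).toMonoidHom ∈ Ω) : h ∈ stab Ω := by
  intro F
  refine ⟨h1 F, fun hF => ?_⟩
  have := h2 _ hF
  rwa [map_conj_map_conj, inv_mul_cancel, map_conj_one] at this

/-! ### translating minimality and strong irreducibility to the ambient group -/

section amb

variable [Finite G] {p : ℕ} [Fact p.Prime]

theorem exists_max_of_minimalOver {E T : Subgroup G} (hT : IsSyl p T E)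
    (hmin : ∀ P : Sylow p ↥E, IsMinimalOver (P : Subgroup ↥E)) :
    (∀ X : Subgroup G, T ≤ X → X ≤ E → E ≤ Subgroup.normalizer (X : Set G) → X = E) ∧
    ∃ E₀ : Subgroup G, T ≤ E₀ ∧ E₀ ≤ E ∧ E₀ ≠ E ∧
      ∀ X : Subgroup G, T ≤ X → X ≤ E → X ≠ E → X ≤ E₀ := by
  obtain ⟨P, hP, hPT⟩ := hT.exists_sylow
  have hmP := hmin P
  obtain ⟨hncl, M, ⟨hM, hPM⟩, huniq⟩ := hmin P
  have hPle : ∀ X : Subgroup G, T ≤ X → (P : Subgroup ↥E) ≤ X.subgroupOf E := by
    intro X hTX
    rw [hP]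
    intro x hx
    exact Subgroup.mem_subgroupOf.mpr (hTX (Subgroup.mem_subgroupOf.mp hx))
  constructor
  · intro X hTX hXE hEX
    have hn : (X.subgroupOf E).Normal := Subgroup.normal_subgroupOf_of_le_normalizer hEX
    have h1 : Subgroup.normalClosure ((P : Subgroup ↥E) : Set ↥E) ≤ X.subgroupOf E :=
      Subgroup.normalClosure_le_normal (hPle X hTX)
    rw [hncl, top_le_iff, Subgroup.subgroupOf_eq_top] at h1
    exact le_antisymm hXE h1
  · refine ⟨M.map E.subtype, ?_, Subgroup.map_subtype_le _, ?_, ?_⟩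
    · rw [← hPT]; exact Subgroup.map_mono hPM
    · intro h
      have h1 : M = ⊤ := by
        rw [eq_top_iff]
        intro x _
        have h2 : (x : G) ∈ M.map E.subtype := by rw [h]; exact x.2
        obtain ⟨y, hy, hyx⟩ := h2
        have : y = x := Subtype.ext hyx
        rwa [← this]
      exact hM.1 h1
    · intro X hTX hXE hne
      have h1 : X.subgroupOf E ≠ ⊤ := by
        intro h
        rw [Subgroup.subgroupOf_eq_top] at h
        exact hne (le_antisymm hXE h)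
      have h2 := YMin.le_of_ne_top_of_minimalOver hmP hM hPM (hPle X hTX) h1
      have h3 := Subgroup.map_mono (f := E.subtype) h2
      rwa [Subgroup.map_subgroupOf_eq_of_le hXE] at h3

theorem si_ambient {E : Subgroup G} (hsi : IsStronglyPIrreducible p ↥E) {X : Subgroup G}
    (hX : E ≤ Subgroup.normalizer (X : Set G)) :
    ⁅X ⊓ E, E⁆ ≤ pCoreOf p E ∨ pResOf p E ≤ X := by
  have hn : (X.subgroupOf E).Normal := Subgroup.normal_subgroupOf_of_le_normalizer hX
  by_cases h : ⁅X.subgroupOf E, (⊤ : Subgroup ↥E)⁆ ≤ pCore p ↥E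
  · left
    have h1 := Subgroup.map_mono (f := E.subtype) h
    rw [Subgroup.map_commutator, Subgroup.subgroupOf_map_subtype, ← MonoidHom.range_eq_map,
      Subgroup.range_subtype] at h1
    exact h1
  · right
    have h1 := Subgroup.map_mono (f := E.subtype) (hsi.2 _ hn h)
    rw [Subgroup.subgroupOf_map_subtype] at h1
    exact h1.trans inf_le_left

/-- a group of class at most two modulo its `p`-core is `p`-closed -/
theorem isPClosed_of_class_two {E : Subgroup G} (h : ⁅⁅E, E⁆, E⁆ ≤ pCoreOf p E) :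
    IsPClosed p ↥E := by
  obtain ⟨T, hT⟩ := exists_isSyl p E
  have hOT : pCoreOf p E ≤ T := hT.pCoreOf_le
  have hconj : ∀ (c t : G), (MulAut.conj c).toMonoidHom t = ⁅c, t⁆ * t := by
    intro c t; simp [commutatorElement_def, MulAut.conj_apply]
  have hcT : ⁅E, E⁆ ≤ Subgroup.normalizer (T : Set G) := by
    intro c hc
    apply mem_normalizer_of_map_conj_le
    rintro _ ⟨t, ht, rfl⟩
    rw [hconj]
    exact T.mul_mem (hOT (h (Subgroup.commutator_mem_commutator hc (hT.1 ht)))) ht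
  have hEE : E ≤ Subgroup.normalizer ((⁅E, E⁆ : Subgroup G) : Set G) := fun e he =>
    mem_normalizer_commutator (Subgroup.le_normalizer he) (Subgroup.le_normalizer he)
  have hcE : ⁅E, E⁆ ≤ E := commutator_le_left Subgroup.le_normalizer
  have hXE : T ⊔ ⁅E, E⁆ ≤ E := sup_le hT.1 hcE
  have hEX : E ≤ Subgroup.normalizer ((T ⊔ ⁅E, E⁆ : Subgroup G) : Set G) := by
    intro e he
    apply mem_normalizer_of_map_conj_le
    rw [Subgroup.map_sup]
    refine sup_le ?_ ?_
    · rintro _ ⟨t, ht, rfl⟩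
      rw [hconj]
      exact Subgroup.mul_mem _
        (Subgroup.mem_sup_right (Subgroup.commutator_mem_commutator he (hT.1 ht)))
        (Subgroup.mem_sup_left ht)
    · rw [map_conj_eq_of_mem_normalizer (hEE he)]
      exact le_sup_right
  have hXT : T ⊔ ⁅E, E⁆ ≤ Subgroup.normalizer (T : Set G) := sup_le Subgroup.le_normalizer hcT
  have hTX : IsSyl p T (T ⊔ ⁅E, E⁆) := hT.of_le le_sup_left hXE
  have hET : E ≤ Subgroup.normalizer (T : Set G) := by
    intro e he
    apply mem_normalizer_of_map_conj_le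
    apply hTX.le_of_normal hXT (hT.2.1.map _)
    have h1 := Subgroup.map_mono (f := (MulAut.conj e).toMonoidHom)
      (le_sup_left : T ≤ T ⊔ ⁅E, E⁆)
    rwa [map_conj_eq_of_mem_normalizer (hEX he)] at h1
  exact isPClosed_of_isSyl_normal hT hET

end amb

/-! ### the family -/

/-- the hypotheses on the family `𝒦` -/
structure Fam (p : ℕ) (𝒦 : Set (Subgroup G)) : Prop where
  ne : 𝒦.Nonempty
  inv : ∀ h : G, ∀ E ∈ 𝒦, E.map (MulAut.conj h).toMonoidHom ∈ 𝒦
  tr : ∀ E ∈ 𝒦, ∀ K ∈ 𝒦, ∃ h : G, K = E.map (MulAut.conj h).toMonoidHom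
  res : pResidual p G ≤ sSup 𝒦
  norm : ∀ E ∈ 𝒦, sSup 𝒦 ⊔ pCore p G ≤
    Subgroup.normalizer ((E ⊔ pCore p G : Subgroup G) : Set G)

section fam

variable [Finite G] {p : ℕ} [Fact p.Prime] {𝒦 : Set (Subgroup G)}

theorem mem_normalizer_pCore (p : ℕ) (g : G) :
    g ∈ Subgroup.normalizer ((pCore p G : Subgroup G) : Set G) := by
  have := Basic.pCore_normal p G
  rw [Subgroup.normalizer_eq_top]; trivial

theorem pCore_map_conj (p : ℕ) (g : G) :
    (pCore p G).map (MulAut.conj g).toMonoidHom = pCore p G :=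
  map_conj_eq_of_mem_normalizer (mem_normalizer_pCore p g)

theorem Fam.mem_normalizer_sSup (hF : Fam p 𝒦) (g : G) :
    g ∈ Subgroup.normalizer ((sSup 𝒦 : Subgroup G) : Set G) := by
  apply mem_normalizer_of_map_conj_le
  rw [Subgroup.map_le_iff_le_comap]
  apply sSup_le
  intro E hE
  rw [← Subgroup.map_le_iff_le_comap]
  exact le_sSup (hF.inv g E hE)

theorem Fam.mem_normalizer_RD (hF : Fam p 𝒦) (g : G) :
    g ∈ Subgroup.normalizer ((sSup 𝒦 ⊔ pCore p G : Subgroup G) : Set G) :=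
  mem_normalizer_sup (hF.mem_normalizer_sSup g) (mem_normalizer_pCore p g)

theorem Fam.exists_mul (hF : Fam p 𝒦) {T : Subgroup G} (hT : IsSyl p T ⊤) (x : G) :
    ∃ t ∈ T, ∃ r ∈ sSup 𝒦, x = t * r := by
  obtain ⟨t, ht, r, hr, rfl⟩ := exists_mul_pResOf hT (Subgroup.mem_top x)
  rw [pResOf_top] at hr
  exact ⟨t, ht, r, hF.res hr, rfl⟩

theorem pCoreOf_le_pCore {X : Subgroup G} (hX : ∀ g : G, g ∈ Subgroup.normalizer (X : Set G)) :
    pCoreOf p X ≤ pCore p G := by
  have h1 : pCoreOf p X ≤ pCoreOf p (⊤ : Subgroup G) :=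
    pCoreOf_le_pCoreOf_of_normal le_top (fun g _ => hX g)
  rwa [pCoreOf_top] at h1

theorem Fam.pCoreOf_sup_le (hF : Fam p 𝒦) {E : Subgroup G} (hE : E ∈ 𝒦) :
    pCoreOf p (E ⊔ pCore p G) ≤ pCore p G :=
  (pCoreOf_le_pCoreOf_of_normal (sup_le ((le_sSup hE).trans le_sup_left) le_sup_right)
    (hF.norm E hE)).trans (pCoreOf_le_pCore hF.mem_normalizer_RD)

theorem Fam.pCoreOf_le (hF : Fam p 𝒦) {E : Subgroup G} (hE : E ∈ 𝒦) :
    pCoreOf p E ≤ pCore p G := by
  have hED : ∀ X : Subgroup G, X ≤ Subgroup.normalizer ((pCore p G : Subgroup G) : Set G) :=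
    fun X x _ => mem_normalizer_pCore p x
  have h1 : pCoreOf p E ⊔ pCore p G ≤ pCoreOf p (E ⊔ pCore p G) := by
    apply le_pCoreOf (sup_le ((Syl.pCoreOf_le p E).trans le_sup_left) le_sup_right)
    · refine sup_le (fun e he => mem_normalizer_sup (le_normalizer_pCoreOf p E he)
        (mem_normalizer_pCore p e)) ?_
      exact le_sup_right.trans Subgroup.le_normalizer
    · have := Basic.pCore_normal p G
      exact (pCoreOf_isPGroup p E).to_sup_of_normal_right (Basic.pCore_isPGroup p G)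
  exact (le_sup_left.trans h1).trans (hF.pCoreOf_sup_le hE)

theorem Fam.card_sup_eq (hF : Fam p 𝒦) {E K : Subgroup G} (hE : E ∈ 𝒦) (hK : K ∈ 𝒦) :
    Nat.card (K ⊔ pCore p G : Subgroup G) = Nat.card (E ⊔ pCore p G : Subgroup G) := by
  obtain ⟨h, rfl⟩ := hF.tr E hE K hK
  rw [← card_map_conj (E ⊔ pCore p G) h, Subgroup.map_sup, pCore_map_conj]

theorem Fam.card_pResOf_sup_eq (hF : Fam p 𝒦) {E K : Subgroup G} (hE : E ∈ 𝒦) (hK : K ∈ 𝒦) :
    Nat.card (pResOf p (K ⊔ pCore p G)) = Nat.card (pResOf p (E ⊔ pCore p G)) := by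
  obtain ⟨h, rfl⟩ := hF.tr E hE K hK
  rw [← card_map_conj (pResOf p (E ⊔ pCore p G)) h, ← pResOf_map_conj, Subgroup.map_sup,
    pCore_map_conj]

end fam

end Cfsg.Agent.Lib.Helper47.KFam
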