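import Mathlib
import Cfsg.Agent.Lib.Helper47.KFam

set_option autoImplicit false

namespace Cfsg.Agent.Lib.Helper47.KFamMin

open Cfsg Cfsg.Agent.Lib.Helper47.Syl Cfsg.Agent.Lib.Helper47.Cent Cfsg.Agent.Lib.Helper47.PRes
  Cfsg.Agent.Lib.Helper47.SecCent Cfsg.Agent.Lib.Helper47.FrakH Cfsg.Agent.Lib.Helper47.KFam
open scoped commutatorElement

variable {G : Type*} [Group G]

/-- `E₀` is the unique maximal subgroup of `E` over `T ⊓ E` -/
def IsMax0 (T E E₀ : Subgroup G) : Prop :=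
  T ⊓ E ≤ E₀ ∧ E₀ ≤ E ∧ E₀ ≠ E ∧ ∀ X : Subgroup G, T ⊓ E ≤ X → X ≤ E → X ≠ E → X ≤ E₀

theorem IsMax0.map_conj {T E E₀ : Subgroup G} (h : IsMax0 T E E₀) (g : G) :
    IsMax0 (T.map (MulAut.conj g).toMonoidHom) (E.map (MulAut.conj g).toMonoidHom)
      (E₀.map (MulAut.conj g).toMonoidHom) := by
  have hinj : Function.Injective (MulAut.conj g).toMonoidHom := (MulAut.conj g).injective
  have hinf : T.map (MulAut.conj g).toMonoidHom ⊓ E.map (MulAut.conj g).toMonoidHom =
      (T ⊓ E).map (MulAut.conj g).toMonoidHom := (Subgroup.map_inf T E _ hinj).symm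
  refine ⟨?_, Subgroup.map_mono h.2.1, fun he => h.2.2.1 (Subgroup.map_injective hinj he), ?_⟩
  · rw [hinf]; exact Subgroup.map_mono h.1
  · intro X hTX hXE hne
    rw [hinf, map_conj_le_iff] at hTX
    have h1 : X.map (MulAut.conj g⁻¹).toMonoidHom ≤ E := by
      have := Subgroup.map_mono (f := (MulAut.conj g⁻¹).toMonoidHom) hXE
      rwa [map_conj_inv_map_conj] at this
    have h2 : X.map (MulAut.conj g⁻¹).toMonoidHom ≠ E := by
      intro he
      apply hne
      rw [← he, map_conj_map_conj, mul_inv_cancel, map_conj_one]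
    have h3 := h.2.2.2 _ hTX h1 h2
    have h4 := Subgroup.map_mono (f := (MulAut.conj g).toMonoidHom) h3
    rwa [map_conj_map_conj, mul_inv_cancel, map_conj_one] at h4

variable [Finite G] {p : ℕ} [Fact p.Prime] {𝒦 : Set (Subgroup G)}

/-- a Sylow subgroup of the whole group meets each member of the family in a Sylow subgroup -/
theorem isSyl_inf_of_fam (hF : Fam p 𝒦) {T : Subgroup G} (hT : IsSyl p T ⊤) {E : Subgroup G}
    (hE : E ∈ 𝒦) : IsSyl p (T ⊓ E) E := by
  have hDT : pCore p G ≤ T := by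
    have := hT.pCoreOf_le
    rwa [pCoreOf_top] at this
  have hS1 : IsSyl p (T ⊓ (sSup 𝒦 ⊔ pCore p G)) (sSup 𝒦 ⊔ pCore p G) :=
    hT.inf_normal le_top (fun x _ => hF.mem_normalizer_RD x)
  have hS2 : IsSyl p (T ⊓ (sSup 𝒦 ⊔ pCore p G) ⊓ (E ⊔ pCore p G)) (E ⊔ pCore p G) :=
    hS1.inf_normal (sup_le ((le_sSup hE).trans le_sup_left) le_sup_right) (hF.norm E hE)
  obtain ⟨T₁, hT₁⟩ := exists_isSyl p E
  obtain ⟨y, hy, hle⟩ := hS2.exists_conj_ge hT₁.2.1 (hT₁.1.trans le_sup_left)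
  obtain ⟨e, he, d, hd, rfl⟩ :=
    exists_mul_of_mem_sup_left (fun x _ => mem_normalizer_pCore p x) hy
  have hT₂ : IsSyl p (T₁.map (MulAut.conj e⁻¹).toMonoidHom) E := by
    have h1 := hT₁.map_conj e⁻¹
    rwa [map_conj_eq_of_mem_normalizer (Subgroup.le_normalizer (E.inv_mem he))] at h1
  have hT₂T : T₁.map (MulAut.conj e⁻¹).toMonoidHom ≤ T := by
    intro x hx
    have h1 := mem_map_conj.mp hx
    have h2 := mem_map_conj.mp (hle h1)
    have h3 : d⁻¹ * x * d ∈ T := by
      have h4 : (e * d)⁻¹ * (e⁻¹⁻¹ * x * e⁻¹) * (e * d) = d⁻¹ * x * d := by group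
      rw [h4] at h2
      exact h2.1.1
    have h5 := T.mul_mem (T.mul_mem (hDT hd) h3) (T.inv_mem (hDT hd))
    have h6 : d * (d⁻¹ * x * d) * d⁻¹ = x := by group
    rwa [h6] at h5
  have h7 := hT₂.2.2 (T ⊓ E) (hT.2.1.to_le inf_le_left) (le_inf hT₂T hT₂.1) inf_le_right
  rw [h7]
  exact hT₂

/-- if the members of the family are `p`-minimal then so is the whole group -/
theorem minimal_of_family (hF : Fam p 𝒦)
    (hmin : ∀ E ∈ 𝒦, ∀ P : Sylow p ↥E, IsMinimalOver (P : Subgroup ↥E)) {T : Subgroup G}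
    (hT : IsSyl p T ⊤) : IsMinimalOver T := by
  have hDT : pCore p G ≤ T := by
    have := hT.pCoreOf_le
    rwa [pCoreOf_top] at this
  have hND : ∀ X : Subgroup G, X ≤ Subgroup.normalizer ((pCore p G : Subgroup G) : Set G) :=
    fun X x _ => mem_normalizer_pCore p x
  have hdata : ∀ E ∈ 𝒦,
      (∀ X : Subgroup G, T ⊓ E ≤ X → X ≤ E → E ≤ Subgroup.normalizer (X : Set G) → X = E) ∧
      ∃ E₀ : Subgroup G, IsMax0 T E E₀ := fun E hE =>
    exists_max_of_minimalOver (isSyl_inf_of_fam hF hT hE) (hmin E hE)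
  -- the normal closure
  have hncl : Subgroup.normalClosure (T : Set G) = ⊤ := by
    have hNn : (Subgroup.normalClosure (T : Set G)).Normal := Subgroup.normalClosure_normal
    have hTN : T ≤ Subgroup.normalClosure (T : Set G) := Subgroup.le_normalClosure
    have hEN : ∀ E ∈ 𝒦, E ≤ Subgroup.normalClosure (T : Set G) := by
      intro E hE
      have h1 := (hdata E hE).1 (Subgroup.normalClosure (T : Set G) ⊓ E)
        (le_inf (inf_le_left.trans hTN) inf_le_right) inf_le_right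
        (fun e he => normalizer_inf_le _ _
          ⟨by rw [Subgroup.normalizer_eq_top]; trivial, Subgroup.le_normalizer he⟩)
      exact (h1 ▸ inf_le_left : E ≤ Subgroup.normalClosure (T : Set G))
    rw [eq_top_iff]
    intro x _
    obtain ⟨t, ht, r, hr, rfl⟩ := hF.exists_mul hT x
    exact Subgroup.mul_mem _ (hTN ht) ((sSup_le hEN : sSup 𝒦 ≤ _) hr)
  -- `T` is proper
  have hTtop : T ≠ ⊤ := by
    intro h
    obtain ⟨E, hE⟩ := hF.ne
    obtain ⟨E₀, h0⟩ := (hdata E hE).2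
    apply h0.2.2.1
    apply le_antisymm h0.2.1
    refine le_trans ?_ h0.1
    rw [h]; exact le_inf le_top le_rfl
  -- key lemmas
  have hK : ∀ E ∈ 𝒦, ∀ E₀ : Subgroup G, IsMax0 T E E₀ → ∀ Y : Subgroup G, pCore p G ≤ Y →
      Y ≤ E ⊔ pCore p G → T ⊓ E ≤ Y → ¬ E ≤ Y → Y ≤ E₀ ⊔ pCore p G := by
    intro E hE E₀ h0 Y hDY hY hTY hEY
    refine (le_inf_sup_of_le (hND E) hDY hY).trans (sup_le_sup_right ?_ _)
    apply h0.2.2.2 _ (le_inf hTY inf_le_right) inf_le_right
    intro h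
    exact hEY (h ▸ inf_le_left)
  have hFE : ∀ E ∈ 𝒦, ∀ E₀ : Subgroup G, IsMax0 T E E₀ → (E₀ ⊔ pCore p G) ⊓ E ≤ E₀ := by
    rintro E hE E₀ h0 y ⟨hy1, hy2⟩
    obtain ⟨e₀, he₀, d, hd, rfl⟩ := exists_mul_of_mem_sup_left (hND E₀) hy1
    have h1 : d ∈ E := by
      have := E.mul_mem (E.inv_mem (h0.2.1 he₀)) hy2
      simpa using this
    exact E₀.mul_mem he₀ (h0.1 ⟨hDT hd, h1⟩)
  -- the family of maximal subgroups and its stabilizer
  set Ω : Set (Subgroup G) :=
    {F | ∃ E ∈ 𝒦, ∃ E₀ : Subgroup G, IsMax0 T E E₀ ∧ F = E₀ ⊔ pCore p G} with hΩ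
  have hTstab : T ≤ stab Ω := by
    have key : ∀ t ∈ T, ∀ F ∈ Ω, F.map (MulAut.conj t).toMonoidHom ∈ Ω := by
      rintro t ht F ⟨E, hE, E₀, h0, rfl⟩
      refine ⟨_, hF.inv t E hE, E₀.map (MulAut.conj t).toMonoidHom, ?_, ?_⟩
      · have h1 := h0.map_conj t
        rwa [map_conj_eq_of_mem_normalizer (Subgroup.le_normalizer ht)] at h1
      · rw [Subgroup.map_sup, pCore_map_conj]
    intro t ht
    exact mem_stab_of (key t ht) (key t⁻¹ (T.inv_mem ht))
  have hstab_ne : stab Ω ≠ ⊤ := by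
    intro htop
    obtain ⟨E, hE⟩ := hF.ne
    obtain ⟨E₀, h0⟩ := (hdata E hE).2
    apply h0.2.2.1
    apply (hdata E hE).1 E₀ h0.1 h0.2.1
    intro e he
    apply mem_normalizer_of_map_conj_le
    have hes : e ∈ stab Ω := htop ▸ Subgroup.mem_top e
    have hF0 : E₀ ⊔ pCore p G ∈ Ω := ⟨E, hE, E₀, h0, rfl⟩
    obtain ⟨E', hE', E₀', h0', hFe⟩ := (hes _).mp hF0
    have heN : e ∈ Subgroup.normalizer ((E ⊔ pCore p G : Subgroup G) : Set G) :=
      Subgroup.le_normalizer (Subgroup.mem_sup_left he)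
    have hFe_le : (E₀ ⊔ pCore p G).map (MulAut.conj e).toMonoidHom ≤ E ⊔ pCore p G := by
      have h1 := Subgroup.map_mono (f := (MulAut.conj e).toMonoidHom)
        (sup_le_sup_right h0.2.1 (pCore p G))
      rwa [map_conj_eq_of_mem_normalizer heN] at h1
    have hE'sub : E' ≤ E ⊔ pCore p G := by
      have h1 := (hdata E' hE').1 (E' ⊓ (E ⊔ pCore p G))
        (le_inf inf_le_right ((h0'.1.trans le_sup_left).trans (hFe ▸ hFe_le))) inf_le_left
        (fun x hx => normalizer_inf_le _ _ ⟨Subgroup.le_normalizer hx,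
          hF.norm E hE (Subgroup.mem_sup_left (le_sSup hE' hx))⟩)
      exact (h1 ▸ inf_le_right : E' ≤ E ⊔ pCore p G)
    have hEq : E' ⊔ pCore p G = E ⊔ pCore p G :=
      Subgroup.eq_of_le_of_card_ge (sup_le hE'sub le_sup_right) (hF.card_sup_eq hE' hE).le
    have h5 : (E₀ ⊔ pCore p G).map (MulAut.conj e).toMonoidHom ≤ E₀ ⊔ pCore p G := by
      apply hK E hE E₀ h0 _ _ hFe_le
      · rw [hFe]
        have h6 : T ⊓ E ≤ T ⊓ (E' ⊔ pCore p G) :=
          inf_le_inf_left _ (hEq ▸ le_sup_left)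
        have h7 := le_inf_sup_of_le (hND E') (le_inf hDT le_sup_right)
          (inf_le_right : T ⊓ (E' ⊔ pCore p G) ≤ E' ⊔ pCore p G)
        refine h6.trans (h7.trans (sup_le_sup_right ?_ _))
        exact le_trans (le_inf (inf_le_left.trans inf_le_left) inf_le_right) h0'.1
      · rw [hFe]
        intro hcon
        apply h0'.2.2.1
        apply le_antisymm h0'.2.1
        refine le_trans (le_inf ?_ le_rfl) (hFE E' hE' E₀' h0')
        calc E' ≤ E' ⊔ pCore p G := le_sup_left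
          _ = E ⊔ pCore p G := hEq
          _ ≤ E₀' ⊔ pCore p G := sup_le hcon le_sup_right
      · rw [hFe]; exact le_sup_right
    refine le_trans (le_inf ((Subgroup.map_mono le_sup_left).trans h5) ?_) (hFE E hE E₀ h0)
    have h8 := Subgroup.map_mono (f := (MulAut.conj e).toMonoidHom) h0.2.1
    rwa [map_conj_eq_of_mem_normalizer (Subgroup.le_normalizer he)] at h8
  -- every maximal subgroup over `T` is the stabilizer
  have huniq : ∀ M : Subgroup G, IsCoatom M → T ≤ M → M = stab Ω := by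
    intro M hM hTM
    have hDM : pCore p G ≤ M := hDT.trans hTM
    have hnot : ∀ E ∈ 𝒦, ¬ E ≤ M := by
      intro E₁ hE₁ hle
      apply hM.1
      have hall : ∀ E ∈ 𝒦, E ≤ M := by
        intro E hE
        obtain ⟨h, rfl⟩ := hF.tr E₁ hE₁ E hE
        obtain ⟨t, ht, r, hr, rfl⟩ := hF.exists_mul hT h
        rw [← map_conj_map_conj]
        have h1 : E₁.map (MulAut.conj r).toMonoidHom ≤ M := by
          have h2 := Subgroup.map_mono (f := (MulAut.conj r).toMonoidHom)
            (le_sup_left : E₁ ≤ E₁ ⊔ pCore p G)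
          rw [map_conj_eq_of_mem_normalizer (hF.norm E₁ hE₁ (Subgroup.mem_sup_left hr))] at h2
          exact h2.trans (sup_le hle hDM)
        have h3 := Subgroup.map_mono (f := (MulAut.conj t).toMonoidHom) h1
        rwa [map_conj_eq_of_mem_normalizer (Subgroup.le_normalizer (hTM ht))] at h3
      rw [eq_top_iff]
      intro x _
      obtain ⟨t, ht, r, hr, rfl⟩ := hF.exists_mul hT x
      exact M.mul_mem (hTM ht) ((sSup_le hall : sSup 𝒦 ≤ M) hr)
    have hfix : ∀ y ∈ M ⊓ (sSup 𝒦 ⊔ pCore p G), ∀ F ∈ Ω,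
        F.map (MulAut.conj y).toMonoidHom ≤ F := by
      rintro y ⟨hyM, hyR⟩ F ⟨E, hE, E₀, h0, rfl⟩
      have hyN : y ∈ Subgroup.normalizer ((E ⊔ pCore p G : Subgroup G) : Set G) :=
        hF.norm E hE hyR
      have hMF : M ⊓ (E ⊔ pCore p G) ≤ E₀ ⊔ pCore p G :=
        hK E hE E₀ h0 _ (le_inf hDM le_sup_right) inf_le_right
          (le_inf (inf_le_left.trans hTM) (inf_le_right.trans le_sup_left))
          (fun h => hnot E hE (h.trans inf_le_left))
      have hF_le : (E₀ ⊔ pCore p G).map (MulAut.conj y).toMonoidHom ≤ E ⊔ pCore p G := by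
        have h1 := Subgroup.map_mono (f := (MulAut.conj y).toMonoidHom)
          (sup_le_sup_right h0.2.1 (pCore p G))
        rwa [map_conj_eq_of_mem_normalizer hyN] at h1
      apply hK E hE E₀ h0 _ _ hF_le
      · -- `T ⊓ E ≤ F^y`
        have h1 : (T ⊓ E).map (MulAut.conj y⁻¹).toMonoidHom ≤ M ⊓ (E ⊔ pCore p G) := by
          apply le_inf
          · have h2 := Subgroup.map_mono (f := (MulAut.conj y⁻¹).toMonoidHom)
              (inf_le_left.trans hTM : T ⊓ E ≤ M)
            rwa [map_conj_eq_of_mem_normalizer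
              (Subgroup.le_normalizer (M.inv_mem hyM))] at h2
          · have h2 := Subgroup.map_mono (f := (MulAut.conj y⁻¹).toMonoidHom)
              (inf_le_right.trans le_sup_left : T ⊓ E ≤ E ⊔ pCore p G)
            rwa [map_conj_eq_of_mem_normalizer (Subgroup.inv_mem _ hyN)] at h2
        have h3 := h1.trans hMF
        rw [map_conj_le_iff, inv_inv] at h3
        exact h3
      · intro hcon
        apply h0.2.2.1
        have h1 : E ⊔ pCore p G ≤ (E₀ ⊔ pCore p G).map (MulAut.conj y).toMonoidHom := by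
          refine sup_le hcon ?_
          have h2 := Subgroup.map_mono (f := (MulAut.conj y).toMonoidHom)
            (le_sup_right : pCore p G ≤ E₀ ⊔ pCore p G)
          rwa [pCore_map_conj] at h2
        have h3 : E₀ ⊔ pCore p G = E ⊔ pCore p G := by
          apply Subgroup.eq_of_le_of_card_ge (sup_le_sup_right h0.2.1 _)
          rw [← card_map_conj (E₀ ⊔ pCore p G) y]
          exact Subgroup.card_le_of_le h1
        apply le_antisymm h0.2.1
        refine le_trans (le_inf ?_ le_rfl) (hFE E hE E₀ h0)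
        rw [h3]; exact le_sup_left
      · have h2 := Subgroup.map_mono (f := (MulAut.conj y).toMonoidHom)
          (le_sup_right : pCore p G ≤ E₀ ⊔ pCore p G)
        rwa [pCore_map_conj] at h2
    have hNstab : M ⊓ (sSup 𝒦 ⊔ pCore p G) ≤ stab Ω := by
      have key : ∀ y ∈ M ⊓ (sSup 𝒦 ⊔ pCore p G), ∀ F ∈ Ω,
          F.map (MulAut.conj y).toMonoidHom ∈ Ω := by
        intro y hy F hFΩ
        have h1 : F.map (MulAut.conj y).toMonoidHom = F :=
          Subgroup.eq_of_le_of_card_ge (hfix y hy F hFΩ) (card_map_conj F y).ge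
        rw [h1]; exact hFΩ
      intro y hy
      exact mem_stab_of (key y hy) (key y⁻¹ (Subgroup.inv_mem _ hy))
    have hMstab : M ≤ stab Ω := by
      intro m hm
      obtain ⟨t, ht, r, hr, rfl⟩ := hF.exists_mul hT m
      have hrM : r ∈ M := by
        have := M.mul_mem (M.inv_mem (hTM ht)) hm
        simpa using this
      exact Subgroup.mul_mem _ (hTstab ht) (hNstab ⟨hrM, Subgroup.mem_sup_left hr⟩)
    by_contra hne
    exact hstab_ne (hM.2 _ (lt_of_le_of_ne hMstab hne))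
  obtain ⟨M, hM, hTM⟩ := exists_coatom_ge hTtop
  refine ⟨hncl, M, ⟨hM, hTM⟩, ?_⟩
  rintro M' ⟨hM', hTM'⟩
  rw [huniq M' hM' hTM', huniq M hM hTM]

end Cfsg.Agent.Lib.Helper47.KFamMin
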