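import Mathlib
import Cfsg.Agent.Lib.Helper47.KFamMin

set_option autoImplicit false

namespace Cfsg.Agent.Lib.Helper47.KFamIrr

open Cfsg Cfsg.Agent.Lib.Helper47.Syl Cfsg.Agent.Lib.Helper47.Cent Cfsg.Agent.Lib.Helper47.PRes
  Cfsg.Agent.Lib.Helper47.SecCent Cfsg.Agent.Lib.Helper47.FrakH Cfsg.Agent.Lib.Helper47.KFam
  Cfsg.Agent.Lib.Helper47.KFamMin
open scoped commutatorElement

variable {G : Type*} [Group G] [Finite G] {p : ℕ} [Fact p.Prime] {𝒦 : Set (Subgroup G)}

/-- a `p`-element modulo `O_p(G)` of a normal subgroup that is abelian modulo `O_p(G)` lies in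
`O_p(G)` -/
theorem mem_pCore_of_pow_mem {I Y : Subgroup G} (hIY : I ≤ Y)
    (hYI : Y ≤ Subgroup.normalizer (I : Set G))
    (hY : ∀ g : G, g ∈ Subgroup.normalizer (Y : Set G)) (hDI : pCore p G ≤ I)
    (hab : ⁅I, I⁆ ≤ pCore p G) {c : G} (hc : c ∈ I) {a : ℕ} (hca : c ^ p ^ a ∈ pCore p G) :
    c ∈ pCore p G := by
  have hDp := Basic.pCore_isPGroup p G
  obtain ⟨k, hk⟩ := hDp ⟨c ^ p ^ a, hca⟩
  have hk' : (c ^ p ^ a) ^ p ^ k = 1 := by
    have := congrArg Subtype.val hk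
    simpa using this
  have hpow : c ^ p ^ (a + k) = 1 := by rw [pow_add, pow_mul]; exact hk'
  have hZ : IsPGroup p (Subgroup.zpowers c) := by
    rintro ⟨g, hg⟩
    obtain ⟨j, rfl⟩ := Subgroup.mem_zpowers_iff.mp hg
    refine ⟨a + k, Subtype.ext ?_⟩
    show (c ^ j) ^ p ^ (a + k) = 1
    rw [← zpow_natCast, ← zpow_mul, mul_comm, zpow_mul, zpow_natCast, hpow, one_zpow]
  obtain ⟨T', hT', hcT'⟩ := exists_isSyl_ge hZ (Subgroup.zpowers_le.mpr hc)
  have hDT' : pCore p G ≤ T' :=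
    (le_pCoreOf hDI (fun x _ => mem_normalizer_pCore p x) hDp).trans hT'.pCoreOf_le
  have hIT' : I ≤ Subgroup.normalizer (T' : Set G) := by
    intro u hu
    apply mem_normalizer_of_map_conj_le
    rintro _ ⟨x, hx, rfl⟩
    have h1 : (MulAut.conj u).toMonoidHom x = ⁅u, x⁆ * x := by
      simp [commutatorElement_def, MulAut.conj_apply]
    rw [h1]
    exact T'.mul_mem (hDT' (hab (Subgroup.commutator_mem_commutator hu (hT'.1 hx)))) hx
  have h2 : T' ≤ pCoreOf p I := le_pCoreOf hT'.1 hIT' hT'.2.1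
  have h3 : pCoreOf p I ≤ pCore p G :=
    (pCoreOf_le_pCoreOf_of_normal hIY hYI).trans (pCoreOf_le_pCore hY)
  exact h3 (h2 (hcT' (Subgroup.mem_zpowers c)))

theorem comm_mem_pCore {I Y : Subgroup G} (hIY : I ≤ Y)
    (hYI : Y ≤ Subgroup.normalizer (I : Set G))
    (hY : ∀ g : G, g ∈ Subgroup.normalizer (Y : Set G)) (hDI : pCore p G ≤ I)
    (hab : ⁅I, I⁆ ≤ pCore p G) {e n : G} (hz : ⁅e, n⁆ ∈ I)
    (hcomm : ⁅⁅e, n⁆, e⁆ ∈ pCore p G) {a : ℕ} (hpow : ⁅e ^ p ^ a, n⁆ ∈ pCore p G) :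
    ⁅e, n⁆ ∈ pCore p G := by
  have hDn := Basic.pCore_normal p G
  apply mem_pCore_of_pow_mem hIY hYI hY hDI hab hz (a := a)
  have hc1 : Commute ⁅(QuotientGroup.mk' (pCore p G)) e, (QuotientGroup.mk' (pCore p G)) n⁆
      ((QuotientGroup.mk' (pCore p G)) e) := by
    rw [← commutatorElement_eq_one_iff_commute, ← map_commutatorElement,
      ← map_commutatorElement]
    exact (QuotientGroup.eq_one_iff _).mpr hcomm
  have h2 := comm_pow hc1 (p ^ a)
  rw [← map_pow, ← map_commutatorElement, ← map_commutatorElement, ← map_pow] at h2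
  have h3 : (QuotientGroup.mk' (pCore p G)) ⁅e ^ p ^ a, n⁆ = 1 :=
    (QuotientGroup.eq_one_iff _).mpr hpow
  rw [h3] at h2
  exact (QuotientGroup.eq_one_iff _).mp h2.symm

theorem comm_sup_le {X E : Subgroup G} (h : ⁅X, E⁆ ≤ pCore p G) :
    ⁅X ⊔ pCore p G, E⁆ ≤ pCore p G := by
  have hDn := Basic.pCore_normal p G
  rw [Subgroup.commutator_le]
  intro i hi e he
  obtain ⟨x, hx, d, hd, rfl⟩ :=
    exists_mul_of_mem_sup_left (fun x _ => mem_normalizer_pCore p x) hi
  have e1 : ⁅x * d, e⁆ = x * ⁅d, e⁆ * x⁻¹ * ⁅x, e⁆ := by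
    simp only [commutatorElement_def]; group
  rw [e1]
  have h1 : ⁅d, e⁆ ∈ pCore p G := by
    have h2 := (pCore p G).mul_mem hd (hDn.conj_mem _ ((pCore p G).inv_mem hd) e)
    have h3 : d * (e * d⁻¹ * e⁻¹) = ⁅d, e⁆ := by rw [commutatorElement_def]; group
    rwa [h3] at h2
  exact (pCore p G).mul_mem (hDn.conj_mem _ h1 x) (h (Subgroup.commutator_mem_commutator hx he))

theorem not_class_two {E : Subgroup G} (hsi : IsStronglyPIrreducible p ↥E) :
    ¬ ⁅⁅E, E⁆, E⁆ ≤ pCoreOf p E := fun h => hsi.1 (isPClosed_of_class_two h)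

theorem pResOf_le_of_comm_le {E X : Subgroup G} (hsi : IsStronglyPIrreducible p ↥E)
    (hEX : E ≤ Subgroup.normalizer (X : Set G)) (hc : ⁅E, E⁆ ≤ X) : pResOf p E ≤ X := by
  rcases si_ambient hsi hEX with h | h
  · exfalso
    apply not_class_two hsi
    refine le_trans (Subgroup.commutator_mono (le_inf hc ?_) le_rfl) h
    exact commutator_le_left Subgroup.le_normalizer
  · exact h

theorem pResOf_le_comm {E : Subgroup G} (hsi : IsStronglyPIrreducible p ↥E) :
    pResOf p E ≤ ⁅E, E⁆ :=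
  pResOf_le_of_comm_le hsi (fun e he =>
    mem_normalizer_commutator (Subgroup.le_normalizer he) (Subgroup.le_normalizer he)) le_rfl

/-- `O^p(G)` lies in every normal subgroup containing all `O^p(E)` -/
theorem pResidual_le_of_forall (hF : Fam p 𝒦) {N : Subgroup G}
    (hN : ∀ g : G, g ∈ Subgroup.normalizer (N : Set G))
    (h : ∀ E ∈ 𝒦, pResOf p E ≤ N) : pResidual p G ≤ N := by
  have hDp := Basic.pCore_isPGroup p G
  have hNn : (N ⊔ pCore p G).Normal := by
    rw [← Subgroup.normalizer_eq_top_iff, eq_top_iff]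
    intro g _
    exact mem_normalizer_sup (hN g) (mem_normalizer_pCore p g)
  have hEp : ∀ E ∈ 𝒦, IsPGroup p (E.map (QuotientGroup.mk' (N ⊔ pCore p G))) := by
    intro E hE
    obtain ⟨T, hT⟩ := exists_isSyl p E
    have h1 : E.map (QuotientGroup.mk' (N ⊔ pCore p G)) ≤
        T.map (QuotientGroup.mk' (N ⊔ pCore p G)) := by
      rintro _ ⟨x, hx, rfl⟩
      obtain ⟨t, ht, r, hr, rfl⟩ := exists_mul_pResOf hT hx
      refine ⟨t, ht, ?_⟩
      rw [map_mul]
      have h2 : (QuotientGroup.mk' (N ⊔ pCore p G)) r = 1 :=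
        (QuotientGroup.eq_one_iff _).mpr (Subgroup.mem_sup_left (h E hE hr))
      rw [h2, mul_one]
    exact (hT.2.1.map _).to_le h1
  have hDmap : (pCore p G).map (QuotientGroup.mk' (N ⊔ pCore p G)) = ⊥ := by
    rw [Subgroup.map_eq_bot_iff, QuotientGroup.ker_mk']
    exact le_sup_right
  have hEle : ∀ E ∈ 𝒦, E.map (QuotientGroup.mk' (N ⊔ pCore p G)) ≤
      pCoreOf p ((sSup 𝒦 ⊔ pCore p G).map (QuotientGroup.mk' (N ⊔ pCore p G))) := by
    intro E hE
    apply le_pCoreOf (Subgroup.map_mono ((le_sSup hE).trans le_sup_left)) _ (hEp E hE)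
    have hmapE : (E ⊔ pCore p G).map (QuotientGroup.mk' (N ⊔ pCore p G)) =
        E.map (QuotientGroup.mk' (N ⊔ pCore p G)) := by
      rw [Subgroup.map_sup, hDmap, sup_bot_eq]
    have h1 := Subgroup.map_mono (f := QuotientGroup.mk' (N ⊔ pCore p G)) (hF.norm E hE)
    have h2 := h1.trans (Subgroup.le_normalizer_map _)
    rwa [hmapE] at h2
  have hRp : IsPGroup p ((sSup 𝒦).map (QuotientGroup.mk' (N ⊔ pCore p G))) := by
    apply (pCoreOf_isPGroup p _).to_le
    rw [Subgroup.map_le_iff_le_comap]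
    apply sSup_le
    intro E hE
    rw [← Subgroup.map_le_iff_le_comap]
    exact hEle E hE
  unfold pResidual
  rw [Subgroup.closure_le]
  intro x hx
  have hxc : (orderOf x).Coprime p := hx
  have hxR : x ∈ sSup 𝒦 := hF.res (Subgroup.subset_closure hx)
  obtain ⟨k, hk⟩ := hRp ⟨(QuotientGroup.mk' (N ⊔ pCore p G)) x, x, hxR, rfl⟩
  have hk' : (QuotientGroup.mk' (N ⊔ pCore p G)) (x ^ p ^ k) = 1 := by
    have := congrArg Subtype.val hk
    simpa using this
  have h3 : x ^ p ^ k ∈ N ⊔ pCore p G := (QuotientGroup.eq_one_iff _).mp hk'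
  have h4 : x ∈ N ⊔ pCore p G := coprime_mem_of_pow_mem hxc h3
  exact mem_of_coprime_of_mem_sup hDp (fun d _ => hN d) h4 hxc

/-- if `O^p(E) ≤ K O_p(G)` then `O^p(E O_p(G)) ≤ O^p(K O_p(G))` -/
theorem pResOf_sup_le (hF : Fam p 𝒦) {E K : Subgroup G} (hE : E ∈ 𝒦) (hK : K ∈ 𝒦)
    (h : pResOf p E ≤ K ⊔ pCore p G) :
    pResOf p (E ⊔ pCore p G) ≤ pResOf p (K ⊔ pCore p G) := by
  have hDp := Basic.pCore_isPGroup p G
  have hDn := Basic.pCore_normal p G
  obtain ⟨T, hT⟩ := exists_isSyl p E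
  have hB : IsPGroup p (T ⊔ pCore p G : Subgroup G) := hT.2.1.to_sup_of_normal_right hDp
  have hBN : T ⊔ pCore p G ≤ Subgroup.normalizer ((K ⊔ pCore p G : Subgroup G) : Set G) :=
    (sup_le ((hT.1.trans (le_sSup hE)).trans le_sup_left) le_sup_right).trans (hF.norm K hK)
  have hle : E ⊔ pCore p G ≤ (K ⊔ pCore p G) ⊔ (T ⊔ pCore p G) := by
    refine sup_le ?_ (le_sup_right.trans le_sup_right)
    intro x hx
    obtain ⟨t, ht, r, hr, rfl⟩ := exists_mul_pResOf hT hx
    exact Subgroup.mul_mem _ (Subgroup.mem_sup_right (Subgroup.mem_sup_left ht))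
      (Subgroup.mem_sup_left (h hr))
  exact pResOf_le_of_coprime_mem fun x hx hc =>
    mem_pResOf_of_coprime (mem_of_coprime_of_mem_sup hB hBN (hle hx) hc) hc

/-- `O^p(E)` centralizes `K O_p(G)` modulo `O_p(G)` if `E ∩ K O_p(G)` is central in `E`
modulo `O_p(E)` -/
theorem half_cent (hF : Fam p 𝒦) (hsi : ∀ E ∈ 𝒦, IsStronglyPIrreducible p ↥E)
    {E K : Subgroup G} (hE : E ∈ 𝒦) (hK : K ∈ 𝒦)
    (h1 : ⁅(K ⊔ pCore p G) ⊓ E, E⁆ ≤ pCoreOf p E) :
    pResOf p E ≤ secCent (K ⊔ pCore p G) (pCore p G) ∧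
      ⁅(E ⊔ pCore p G) ⊓ (K ⊔ pCore p G), E⁆ ≤ pCore p G := by
  have hDn := Basic.pCore_normal p G
  have hND : ∀ X : Subgroup G, X ≤ Subgroup.normalizer ((pCore p G : Subgroup G) : Set G) :=
    fun X x _ => mem_normalizer_pCore p x
  have hEn : E ≤ Subgroup.normalizer ((K ⊔ pCore p G : Subgroup G) : Set G) :=
    ((le_sSup hE).trans le_sup_left).trans (hF.norm K hK)
  have hKn : K ⊔ pCore p G ≤ Subgroup.normalizer ((E ⊔ pCore p G : Subgroup G) : Set G) :=
    (sup_le ((le_sSup hK).trans le_sup_left) le_sup_right).trans (hF.norm E hE)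
  have hIE : ⁅(E ⊔ pCore p G) ⊓ (K ⊔ pCore p G), E⁆ ≤ pCore p G := by
    have h2 := le_inf_sup_of_le (hND E) (le_inf le_sup_right le_sup_right)
      (inf_le_left : (E ⊔ pCore p G) ⊓ (K ⊔ pCore p G) ≤ E ⊔ pCore p G)
    refine le_trans (Subgroup.commutator_mono h2 le_rfl) (comm_sup_le ?_)
    refine le_trans (Subgroup.commutator_mono ?_ le_rfl) (h1.trans (hF.pCoreOf_le hE))
    exact le_inf (inf_le_left.trans inf_le_right) inf_le_right
  refine ⟨?_, hIE⟩
  have hEKI : ⁅E, K ⊔ pCore p G⁆ ≤ (E ⊔ pCore p G) ⊓ (K ⊔ pCore p G) := by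
    apply le_inf
    · exact (Subgroup.commutator_mono le_sup_left le_rfl).trans (commutator_le_left hKn)
    · rw [Subgroup.commutator_comm]
      exact commutator_le_left hEn
  have h3 : ⁅⁅E, K ⊔ pCore p G⁆, E⁆ ≤ pCore p G :=
    (Subgroup.commutator_mono hEKI le_rfl).trans hIE
  have h4 : ⁅⁅E, E⁆, K ⊔ pCore p G⁆ ≤ pCore p G :=
    three_mod h3 (by rw [Subgroup.commutator_comm (K ⊔ pCore p G) E]; exact h3)
  apply pResOf_le_of_comm_le (hsi E hE)
  · intro e he
    exact mem_normalizer_secCent (hEn he) (mem_normalizer_pCore p e)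
  · intro x hx
    exact ⟨mem_normalizer_pCore p x, fun u hu => h4 (Subgroup.commutator_mem_commutator hx hu)⟩

/-- two members of the family have the same `O^p(E O_p(G))` or commute modulo `O_p(G)` -/
theorem dichotomy (hF : Fam p 𝒦) (hsi : ∀ E ∈ 𝒦, IsStronglyPIrreducible p ↥E)
    {E K : Subgroup G} (hE : E ∈ 𝒦) (hK : K ∈ 𝒦) :
    pResOf p (E ⊔ pCore p G) = pResOf p (K ⊔ pCore p G) ∨ ⁅E, K⁆ ≤ pCore p G := by
  have hEn : E ≤ Subgroup.normalizer ((K ⊔ pCore p G : Subgroup G) : Set G) :=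
    ((le_sSup hE).trans le_sup_left).trans (hF.norm K hK)
  have hKn : K ≤ Subgroup.normalizer ((E ⊔ pCore p G : Subgroup G) : Set G) :=
    ((le_sSup hK).trans le_sup_left).trans (hF.norm E hE)
  rcases si_ambient (hsi E hE) hEn with h1 | h1
  · rcases si_ambient (hsi K hK) hKn with h2 | h2
    · right
      obtain ⟨hcE, hIE⟩ := half_cent hF hsi hE hK h1
      obtain ⟨hcK, hIK⟩ := half_cent hF hsi hK hE h2
      rw [Subgroup.commutator_le]
      intro e he k hk
      obtain ⟨a, ha⟩ := exists_pow_mem_pResOf (p := p) he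
      have hI : ⁅E, K⁆ ≤ (E ⊔ pCore p G) ⊓ (K ⊔ pCore p G) := by
        apply le_inf
        · exact (Subgroup.commutator_mono le_sup_left le_rfl).trans (commutator_le_left
            (hKn.trans le_rfl))
        · rw [Subgroup.commutator_comm]
          exact (Subgroup.commutator_mono le_sup_left le_rfl).trans (commutator_le_left hEn)
      apply comm_mem_pCore (I := (E ⊔ pCore p G) ⊓ (K ⊔ pCore p G))
        (Y := sSup 𝒦 ⊔ pCore p G) (inf_le_left.trans
          (sup_le ((le_sSup hE).trans le_sup_left) le_sup_right))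
        (fun y hy => normalizer_inf_le _ _ ⟨hF.norm E hE hy, hF.norm K hK hy⟩)
        hF.mem_normalizer_RD (le_inf le_sup_right le_sup_right) _
        (hI (Subgroup.commutator_mem_commutator he hk))
        (hIE (Subgroup.commutator_mem_commutator (hI (Subgroup.commutator_mem_commutator he hk))
          he)) (a := a) ((hcE ha).2 k (Subgroup.mem_sup_left hk))
      refine le_trans (Subgroup.commutator_mono le_rfl inf_le_left) ?_
      rw [Subgroup.commutator_comm]
      apply comm_sup_le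
      rw [Subgroup.commutator_comm]
      exact hIE
    · left
      exact (Subgroup.eq_of_le_of_card_ge (pResOf_sup_le hF hK hE h2)
        (hF.card_pResOf_sup_eq hK hE).le).symm
  · left
    exact Subgroup.eq_of_le_of_card_ge (pResOf_sup_le hF hE hK h1)
      (hF.card_pResOf_sup_eq hE hK).le

/-- a normal subgroup over `O_p(G)` meeting every member of the family centrally (modulo
`O_p(G)`) is `p`-closed -/
theorem isPClosed_of_central (hF : Fam p 𝒦) (hsi : ∀ E ∈ 𝒦, IsStronglyPIrreducible p ↥E)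
    {N : Subgroup G} (hN : ∀ g : G, g ∈ Subgroup.normalizer (N : Set G))
    (hDN : pCore p G ≤ N) (h : ∀ E ∈ 𝒦, ⁅N ⊓ E, E⁆ ≤ pCore p G) : IsPClosed p ↥N := by
  have hDn := Basic.pCore_normal p G
  have hDp := Basic.pCore_isPGroup p G
  have hND : ∀ X : Subgroup G, X ≤ Subgroup.normalizer ((pCore p G : Subgroup G) : Set G) :=
    fun X x _ => mem_normalizer_pCore p x
  have hNX : ∀ X : Subgroup G, X ≤ Subgroup.normalizer (N : Set G) := fun X x _ => hN x
  have hN₀n : ∀ g : G, g ∈ Subgroup.normalizer ((N ⊓ (sSup 𝒦 ⊔ pCore p G) : Subgroup G) : Set G) :=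
    fun g => normalizer_inf_le _ _ ⟨hN g, hF.mem_normalizer_RD g⟩
  have c1 : ∀ E ∈ 𝒦, ⁅N ⊓ (E ⊔ pCore p G), E⁆ ≤ pCore p G := by
    intro E hE
    have h2 := le_inf_sup_of_le (hND E) (le_inf hDN le_sup_right)
      (inf_le_right : N ⊓ (E ⊔ pCore p G) ≤ E ⊔ pCore p G)
    refine le_trans (Subgroup.commutator_mono h2 le_rfl) (comm_sup_le ?_)
    exact le_trans (Subgroup.commutator_mono
      (le_inf (inf_le_left.trans inf_le_left) inf_le_right) le_rfl) (h E hE)
  have c2 : ∀ E ∈ 𝒦, ⁅N ⊓ (sSup 𝒦 ⊔ pCore p G), E⁆ ≤ N ⊓ (E ⊔ pCore p G) := by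
    intro E hE
    apply le_inf
    · exact (Subgroup.commutator_mono inf_le_left le_rfl).trans (commutator_le_left (hNX E))
    · rw [Subgroup.commutator_comm]
      exact (Subgroup.commutator_mono le_sup_left le_rfl).trans
        (commutator_le_left (inf_le_right.trans (hF.norm E hE)))
  have c3 : ∀ E ∈ 𝒦, ⁅⁅E, E⁆, N ⊓ (sSup 𝒦 ⊔ pCore p G)⁆ ≤ pCore p G := by
    intro E hE
    have h3 : ⁅⁅N ⊓ (sSup 𝒦 ⊔ pCore p G), E⁆, E⁆ ≤ pCore p G :=
      (Subgroup.commutator_mono (c2 E hE) le_rfl).trans (c1 E hE)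
    exact three_mod (by rw [Subgroup.commutator_comm E]; exact h3) h3
  have c3' : ∀ E ∈ 𝒦, pResOf p E ≤ secCent (N ⊓ (sSup 𝒦 ⊔ pCore p G)) (pCore p G) := by
    intro E hE
    apply pResOf_le_of_comm_le (hsi E hE)
    · intro e _
      exact mem_normalizer_secCent (hN₀n e) (mem_normalizer_pCore p e)
    · intro x hx
      exact ⟨mem_normalizer_pCore p x, fun u hu =>
        c3 E hE (Subgroup.commutator_mem_commutator hx hu)⟩
  have c4 : ∀ E ∈ 𝒦, ⁅E, N ⊓ (sSup 𝒦 ⊔ pCore p G)⁆ ≤ pCore p G := by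
    intro E hE
    rw [Subgroup.commutator_le]
    intro e he n hn
    obtain ⟨a, ha⟩ := exists_pow_mem_pResOf (p := p) he
    have hz : ⁅e, n⁆ ∈ N ⊓ (E ⊔ pCore p G) := by
      have h5 := c2 E hE
      rw [Subgroup.commutator_comm] at h5
      exact h5 (Subgroup.commutator_mem_commutator he hn)
    apply comm_mem_pCore (I := N ⊓ (E ⊔ pCore p G)) (Y := sSup 𝒦 ⊔ pCore p G)
      (inf_le_right.trans (sup_le ((le_sSup hE).trans le_sup_left) le_sup_right))
      (fun y hy => normalizer_inf_le _ _ ⟨hN y, hF.norm E hE hy⟩)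
      hF.mem_normalizer_RD (le_inf hDN le_sup_right) _ hz
      (c1 E hE (Subgroup.commutator_mem_commutator hz he)) (a := a)
      ((c3' E hE ha).2 n hn)
    refine le_trans (Subgroup.commutator_mono le_rfl inf_le_right) ?_
    rw [Subgroup.commutator_comm]
    apply comm_sup_le
    rw [Subgroup.commutator_comm]
    exact c1 E hE
  have c5 : ⁅sSup 𝒦, N ⊓ (sSup 𝒦 ⊔ pCore p G)⁆ ≤ pCore p G := by
    have hRs : sSup 𝒦 ≤ secCent (N ⊓ (sSup 𝒦 ⊔ pCore p G)) (pCore p G) := by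
      apply sSup_le
      intro E hE e he
      exact ⟨mem_normalizer_pCore p e, fun u hu =>
        c4 E hE (Subgroup.commutator_mem_commutator he hu)⟩
    rw [Subgroup.commutator_le]
    intro r hr n hn
    exact (hRs hr).2 n hn
  have c6 : ⁅⁅sSup 𝒦, sSup 𝒦⁆, N⁆ ≤ pCore p G := by
    have h6 : ⁅sSup 𝒦, N⁆ ≤ N ⊓ (sSup 𝒦 ⊔ pCore p G) := by
      apply le_inf
      · rw [Subgroup.commutator_comm]
        exact commutator_le_left (hNX _)
      · exact (commutator_le_left (fun x _ => hF.mem_normalizer_sSup x)).trans le_sup_left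
    have h7 : ⁅⁅sSup 𝒦, N⁆, sSup 𝒦⁆ ≤ pCore p G := by
      refine (Subgroup.commutator_mono h6 le_rfl).trans ?_
      rw [Subgroup.commutator_comm]
      exact c5
    exact three_mod h7 (by rw [Subgroup.commutator_comm N]; exact h7)
  have c7 : pResOf p N ≤ ⁅sSup 𝒦, sSup 𝒦⁆ := by
    have h8 : pResidual p G ≤ ⁅sSup 𝒦, sSup 𝒦⁆ := by
      apply pResidual_le_of_forall hF
      · intro g
        exact mem_normalizer_commutator (hF.mem_normalizer_sSup g) (hF.mem_normalizer_sSup g)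
      · intro E hE
        exact (pResOf_le_comm (hsi E hE)).trans
          (Subgroup.commutator_mono (le_sSup hE) (le_sSup hE))
    refine pResOf_le_of_coprime_mem fun x _ hc => h8 ?_
    exact Subgroup.subset_closure hc
  obtain ⟨T, hT⟩ := exists_isSyl p N
  have hDT : pCore p G ≤ T := (le_pCoreOf hDN (hND N) hDp).trans hT.pCoreOf_le
  apply isPClosed_of_isSyl_normal hT
  intro x hx
  obtain ⟨t, ht, r, hr, rfl⟩ := exists_mul_pResOf hT hx
  refine Subgroup.mul_mem _ (Subgroup.le_normalizer ht) ?_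
  apply mem_normalizer_of_map_conj_le
  rintro _ ⟨s, hs, rfl⟩
  have h1 : (MulAut.conj r).toMonoidHom s = ⁅r, s⁆ * s := by
    simp [commutatorElement_def, MulAut.conj_apply]
  rw [h1]
  exact T.mul_mem (hDT (c6 (Subgroup.commutator_mem_commutator (c7 hr) (hT.1 hs)))) hs

/-- if the members of the family are strongly `p`-irreducible then the group is
`p`-irreducible -/
theorem irreducible_of_family (hF : Fam p 𝒦)
    (hsi : ∀ E ∈ 𝒦, IsStronglyPIrreducible p ↥E) : IsPIrreducible p G := by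
  have hDp := Basic.pCore_isPGroup p G
  refine ⟨?_, fun N hNn hNc => ?_⟩
  · intro hcl
    obtain ⟨E, hE⟩ := hF.ne
    apply (hsi E hE).1
    obtain ⟨P⟩ : Nonempty (Sylow p G) := inferInstance
    have hPn := hcl P
    have h1 := isSyl_inf_of_fam hF (isSyl_top P) hE
    exact isPClosed_of_isSyl_normal h1 (fun e he => normalizer_inf_le _ _
      ⟨by rw [Subgroup.normalizer_eq_top]; trivial, Subgroup.le_normalizer he⟩)
  · by_contra hcon
    have hNg : ∀ g : G, g ∈ Subgroup.normalizer (N : Set G) := fun g => by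
      rw [Subgroup.normalizer_eq_top]; trivial
    have hex : ∃ E₁ ∈ 𝒦, ¬ pResOf p E₁ ≤ N := by
      by_contra hno
      exact hcon (pResidual_le_of_forall hF hNg (fun E hE => by
        by_contra h'
        exact hno ⟨E, hE, h'⟩))
    obtain ⟨E₁, hE₁, hE₁N⟩ := hex
    have hall : ∀ E ∈ 𝒦, ¬ pResOf p E ≤ N ⊔ pCore p G := by
      intro E hE hle
      apply hE₁N
      have h1 : pResOf p E ≤ N := pResOf_le_of_coprime_mem fun x hx hc =>
        mem_of_coprime_of_mem_sup hDp (fun d _ => hNg d) (hle (mem_pResOf_of_coprime hx hc)) hc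
      obtain ⟨g, rfl⟩ := hF.tr E hE E₁ hE₁
      rw [pResOf_map_conj]
      have h2 := Subgroup.map_mono (f := (MulAut.conj g).toMonoidHom) h1
      rwa [map_conj_eq_of_mem_normalizer (hNg g)] at h2
    have hN₁ : ∀ g : G, g ∈ Subgroup.normalizer ((N ⊔ pCore p G : Subgroup G) : Set G) :=
      fun g => mem_normalizer_sup (hNg g) (mem_normalizer_pCore p g)
    have hcen : ∀ E ∈ 𝒦, ⁅(N ⊔ pCore p G) ⊓ E, E⁆ ≤ pCore p G := by
      intro E hE
      rcases si_ambient (hsi E hE) (X := N ⊔ pCore p G) (fun e _ => hN₁ e) with h1 | h1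
      · exact h1.trans (hF.pCoreOf_le hE)
      · exact absurd h1 (hall E hE)
    have hcl : IsPClosed p ↥(N ⊔ pCore p G) :=
      isPClosed_of_central hF hsi hN₁ le_sup_right hcen
    apply hNc
    obtain ⟨T₁, hT₁⟩ := exists_isSyl p (N ⊔ pCore p G)
    have hn₁ := (isPClosed_iff (N ⊔ pCore p G)).mp hcl T₁ hT₁
    have hT₂ : IsSyl p (T₁ ⊓ N) N := hT₁.inf_normal le_sup_left (fun x _ => hNg x)
    exact isPClosed_of_isSyl_normal hT₂ (fun x hx => normalizer_inf_le _ _
      ⟨hn₁ (Subgroup.mem_sup_left hx), Subgroup.le_normalizer hx⟩)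

end Cfsg.Agent.Lib.Helper47.KFamIrr
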