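import Mathlib
import Cfsg.Prelude.Def_LocalStructure
import Cfsg.Agent.Lib.Helper47.Syl
import Cfsg.Agent.Lib.Helper47.Cent

set_option autoImplicit false

namespace Cfsg.Agent.Lib.Helper47.Large

open Cfsg
open Cfsg.Agent.Lib.Helper47.Syl Cfsg.Agent.Lib.Helper47.Cent

variable {G : Type*} [Group G]

theorem isSyl_top_map_conj {p : ℕ} {T : Subgroup G} (hT : IsSyl p T ⊤) (g : G) :
    IsSyl p (T.map (MulAut.conj g).toMonoidHom) ⊤ := by
  have := hT.map_conj g
  rwa [Subgroup.map_top_of_surjective _ (MulAut.conj g).surjective] at this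

/-- for a nontrivial large `p`-subgroup `Q` and a Sylow `p`-subgroup `T ≥ Q`: `N(T) ≤ N(Q)` -/
theorem normalizer_sylow_le [Finite G] {p : ℕ} [Fact p.Prime] {Q : Subgroup G} (hQ1 : Q ≠ ⊥)
    (hL : IsLarge Q) {T : Subgroup G} (hT : IsPGroup p T) (hQT : Q ≤ T) :
    Subgroup.normalizer (T : Set G) ≤ Subgroup.normalizer (Q : Set G) := by
  have hT1 : T ≠ ⊥ := fun h => hQ1 (le_bot_iff.mp (h ▸ hQT))
  have hZ := center_ne_bot hT hT1
  have hZC : T ⊓ Subgroup.centralizer (T : Set G) ≤ Subgroup.centralizer (Q : Set G) :=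
    inf_le_right.trans (Subgroup.centralizer_le (by exact_mod_cast hQT))
  exact (normalizer_le_normalizer_center T).trans (hL.2 _ hZC hZ)

/-- a nontrivial large `p`-subgroup is weakly closed in every Sylow `p`-subgroup containing it -/
theorem mem_normalizer_of_map_conj_le [Finite G] {p : ℕ} [Fact p.Prime] {Q : Subgroup G}
    (hQ1 : Q ≠ ⊥) (hL : IsLarge Q) {T : Subgroup G} (hT : IsSyl p T ⊤) (hQT : Q ≤ T) {g : G}
    (hg : Q.map (MulAut.conj g).toMonoidHom ≤ T) : g ∈ Subgroup.normalizer (Q : Set G) := by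
  have hT' := isSyl_top_map_conj hT g⁻¹
  have hQT' : Q ≤ T.map (MulAut.conj g⁻¹).toMonoidHom := by
    have := Subgroup.map_mono (f := (MulAut.conj g⁻¹).toMonoidHom) hg
    rwa [map_conj_inv_map_conj] at this
  have h1 := normalizer_sylow_le hQ1 hL hT.2.1 hQT
  have h2 := normalizer_sylow_le hQ1 hL hT'.2.1 hQT'
  have hS1 : IsSyl p T (Subgroup.normalizer (Q : Set G)) :=
    hT.of_le (Subgroup.le_normalizer.trans h1) le_top
  have hS2 : IsSyl p (T.map (MulAut.conj g⁻¹).toMonoidHom) (Subgroup.normalizer (Q : Set G)) :=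
    hT'.of_le (Subgroup.le_normalizer.trans h2) le_top
  obtain ⟨n, hn, hn2⟩ := hS1.exists_conj hS2
  have h3 : n⁻¹ * g⁻¹ ∈ Subgroup.normalizer (T : Set G) := by
    rw [mem_normalizer_iff_map_conj, ← map_conj_map_conj, hn2, map_conj_inv_map_conj]
  have h4 : g⁻¹ ∈ Subgroup.normalizer (Q : Set G) := by
    have : g⁻¹ = n * (n⁻¹ * g⁻¹) := by group
    rw [this]
    exact Subgroup.mul_mem _ hn (h1 h3)
  simpa using Subgroup.inv_mem _ h4

/-- if `Q` and a conjugate generate a `p`-group, the conjugating element normalizes `Q` -/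
theorem mem_normalizer_of_isPGroup_sup [Finite G] {p : ℕ} [Fact p.Prime] {Q : Subgroup G}
    (hQ1 : Q ≠ ⊥) (hL : IsLarge Q) {g : G}
    (h : IsPGroup p (Q ⊔ Q.map (MulAut.conj g).toMonoidHom : Subgroup G)) :
    g ∈ Subgroup.normalizer (Q : Set G) := by
  obtain ⟨T, hT, hle⟩ := exists_isSyl_ge h le_top
  exact mem_normalizer_of_map_conj_le hQ1 hL hT (le_sup_left.trans hle) (le_sup_right.trans hle)

theorem isLarge_map_conj {Q : Subgroup G} (hL : IsLarge Q) (g : G) :
    IsLarge (Q.map (MulAut.conj g).toMonoidHom) := by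
  refine ⟨?_, ?_⟩
  · intro x hx
    rw [mem_centralizer_map_conj] at hx
    exact mem_map_conj.mpr (hL.1 hx)
  · intro U hU hU1 x hx
    rw [mem_normalizer_map_conj]
    have hU' : U.map (MulAut.conj g⁻¹).toMonoidHom ≤ Subgroup.centralizer (Q : Set G) := by
      intro y hy
      rw [mem_map_conj] at hy
      have := mem_centralizer_map_conj.mp (hU hy)
      simpa [mul_assoc] using this
    have hU1' : U.map (MulAut.conj g⁻¹).toMonoidHom ≠ ⊥ := by
      intro h
      apply hU1
      have := congrArg (Subgroup.map (MulAut.conj g).toMonoidHom) h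
      rw [map_conj_map_conj, mul_inv_cancel, map_conj_one, Subgroup.map_bot] at this
      exact this
    apply hL.2 _ hU' hU1'
    have hx' := (mem_normalizer_map_conj (Q := U.map (MulAut.conj g⁻¹).toMonoidHom) (g := g)
      (x := x)).mp (by rw [map_conj_map_conj, mul_inv_cancel, map_conj_one]; exact hx)
    exact hx'

/-- for a nontrivial large `p`-subgroup: `C(Q) ⊓ C(Q^g) ≠ 1` forces `g ∈ N(Q)` -/
theorem mem_normalizer_of_centralizer_inf_ne_bot [Finite G] {p : ℕ} [Fact p.Prime]
    {Q : Subgroup G} (hQp : IsPGroup p Q) (hQ1 : Q ≠ ⊥) (hL : IsLarge Q) {g : G}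
    (h : Subgroup.centralizer (Q : Set G) ⊓
      Subgroup.centralizer ((Q.map (MulAut.conj g).toMonoidHom : Subgroup G) : Set G) ≠ ⊥) :
    g ∈ Subgroup.normalizer (Q : Set G) := by
  set Qg := Q.map (MulAut.conj g).toMonoidHom with hQg
  set U := Subgroup.centralizer (Q : Set G) ⊓ Subgroup.centralizer (Qg : Set G) with hU
  have hLg := isLarge_map_conj hL g
  have h1 : Subgroup.normalizer (U : Set G) ≤ Subgroup.normalizer (Q : Set G) :=
    hL.2 U inf_le_left h
  have h2 : Subgroup.normalizer (U : Set G) ≤ Subgroup.normalizer (Qg : Set G) :=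
    hLg.2 U inf_le_right h
  have hQU : Q ≤ Subgroup.normalizer (U : Set G) :=
    (Subgroup.le_centralizer_iff.mp (inf_le_left : U ≤ Subgroup.centralizer (Q : Set G))).trans
      (Subgroup.centralizer_le_normalizer _)
  have hQgU : Qg ≤ Subgroup.normalizer (U : Set G) :=
    (Subgroup.le_centralizer_iff.mp (inf_le_right : U ≤ Subgroup.centralizer (Qg : Set G))).trans
      (Subgroup.centralizer_le_normalizer _)
  have hp : IsPGroup p (Q ⊔ Qg : Subgroup G) :=
    IsPGroup.to_sup_of_normal_right' hQp (hQp.map _) (hQU.trans h2)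
  exact mem_normalizer_of_isPGroup_sup hQ1 hL hp

end Cfsg.Agent.Lib.Helper47.Large
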