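import Mathlib
import Cfsg.Prelude.Def_Classical
import Cfsg.Prelude.Def_GeometricClasses
import Cfsg.Agent.Lib.Helper44.Inv8
import Cfsg.Agent.Lib.Helper45.OmegaCenter

/-!
# The standard minus form over a finite field, all characteristics (helper47)

Generic facts about `Cfsg.quadFormMinus n F a b` on `(Fin n ⊕ Fin n) ⊕ Fin 2 → F` with
anisotropic binary part, for the S5987 / S5991 calls (Prelude-only statements):

* `ndeg_top`     : the polar form is nondegenerate on `⊤`;
* `ts_le`        : a totally singular subspace has finrank `≤ n` (Witt index);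
* `not_plus_top` : `⊤` contains no totally singular subspace of half its finrank;
* `exists_ts_minus` : totally singular `m`-spaces exist for `m ≤ d - 1` (form with `n = d - 1`).
-/

set_option autoImplicit false

namespace Cfsg.Agent.Lib.Helper47.MinusWitt

open Cfsg.Agent.Lib.Helper44.NegPairs
open Cfsg.Agent.Lib.Helper44.QSpace

universe u

/-- The standard minus form (anisotropic binary part) over a finite field: the polar form is
nondegenerate on the whole space (all characteristics). -/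
theorem ndeg_top {F : Type u} [Field F] [Fintype F] (n : ℕ) (a b : F)
    (hab : ∀ z₁ z₂ : F, z₁ ^ 2 + a * z₁ * z₂ + b * z₂ ^ 2 = 0 → z₁ = 0 ∧ z₂ = 0) :
    Cfsg.Geo.IsNondegenerateOn (QuadraticMap.polar (Cfsg.quadFormMinus n F a b)) ⊤ := by
  have hS : Sep (minusQ n F a b) := Cfsg.Agent.Lib.Helper45.OmegaCenter.sep_minusQ' n a b hab
  intro w _ hw0
  have h1 : ∃ y, QuadraticMap.polar (Cfsg.quadFormMinus n F a b) w y ≠ 0 := by
    by_contra hcon
    apply hw0
    apply hS w
    intro y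
    by_contra h
    exact hcon ⟨y, h⟩
  obtain ⟨y, hy⟩ := h1
  refine ⟨⟨y, Submodule.mem_top, ?_⟩, ⟨y, Submodule.mem_top, hy⟩⟩
  rw [QuadraticMap.polar_comm]
  exact hy

/-- Witt index of the standard minus form: a totally singular subspace has finrank `≤ n`. -/
theorem ts_le {F : Type u} [Field F] [Fintype F] (n : ℕ) (a b : F)
    (hab : ∀ z₁ z₂ : F, z₁ ^ 2 + a * z₁ * z₂ + b * z₂ ^ 2 = 0 → z₁ = 0 ∧ z₂ = 0)
    (U : Submodule F ((Fin n ⊕ Fin n) ⊕ Fin 2 → F))
    (hU : ∀ u ∈ U, Cfsg.quadFormMinus n F a b u = 0) : Module.finrank F ↥U ≤ n :=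
  Cfsg.Agent.Lib.Helper44.Inv8.minus_ts_le
    (Cfsg.Agent.Lib.Helper45.OmegaCenter.sep_minusQ' n a b hab) hab hU

/-- The whole space of the standard minus form is not of plus type. -/
theorem not_plus_top {F : Type u} [Field F] [Fintype F] (n : ℕ) (a b : F)
    (hab : ∀ z₁ z₂ : F, z₁ ^ 2 + a * z₁ * z₂ + b * z₂ ^ 2 = 0 → z₁ = 0 ∧ z₂ = 0) :
    ¬ ∃ U : Submodule F ((Fin n ⊕ Fin n) ⊕ Fin 2 → F),
      U ≤ ⊤ ∧ (∀ u ∈ U, Cfsg.quadFormMinus n F a b u = 0) ∧
        2 * Module.finrank F ↥U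
          = Module.finrank F ↥(⊤ : Submodule F ((Fin n ⊕ Fin n) ⊕ Fin 2 → F)) := by
  rintro ⟨U, -, hU, hdim⟩
  have h1 := ts_le n a b hab U hU
  rw [finrank_top, Module.finrank_fintype_fun_eq_card, Fintype.card_sum, Fintype.card_sum,
    Fintype.card_fin, Fintype.card_fin] at hdim
  omega

/-- Totally singular `m`-spaces exist in the standard minus form for `m ≤ d - 1`. -/
theorem exists_ts_minus {F : Type u} [Field F] (d m : ℕ) (hm : m ≤ d - 1) (a b : F) :
    ∃ W : Submodule F ((Fin (d - 1) ⊕ Fin (d - 1)) ⊕ Fin 2 → F), Module.finrank F ↥W = m ∧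
      ∀ w ∈ W, Cfsg.quadFormMinus (d - 1) F a b w = 0 := by
  classical
  obtain ⟨s, hs1, hs2⟩ : ∃ s : Fin m → (Fin (d - 1) ⊕ Fin (d - 1)) ⊕ Fin 2,
      Function.Injective s ∧ ∀ j, ∃ c, s j = Sum.inl (Sum.inl c) :=
    ⟨fun j => Sum.inl (Sum.inl (Fin.castLE hm j)),
      fun j k h => Fin.castLE_injective hm (Sum.inl_injective (Sum.inl_injective h)),
      fun j => ⟨_, rfl⟩⟩
  have hli : LinearIndependent F
      (fun j : Fin m => Pi.basisFun F ((Fin (d - 1) ⊕ Fin (d - 1)) ⊕ Fin 2) (s j)) :=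
    (Pi.basisFun F ((Fin (d - 1) ⊕ Fin (d - 1)) ⊕ Fin 2)).linearIndependent.comp s hs1
  refine ⟨Submodule.span F (Set.range
    (fun j : Fin m => Pi.basisFun F ((Fin (d - 1) ⊕ Fin (d - 1)) ⊕ Fin 2) (s j))), ?_, ?_⟩
  · rw [finrank_span_eq_card hli, Fintype.card_fin]
  · intro w hw
    have hzero : ∀ i : Fin (d - 1), w (Sum.inl (Sum.inr i)) = 0 := by
      intro i
      refine Submodule.span_induction (p := fun v _ => v (Sum.inl (Sum.inr i)) = 0) ?_ ?_ ?_ ?_ hw
      · rintro _ ⟨j, rfl⟩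
        obtain ⟨c, hc⟩ := hs2 j
        simp [hc]
      · simp
      · intro x y _ _ hx hy
        simp [hx, hy]
      · intro c x _ hx
        simp [hx]
    have hz2 : ∀ i : Fin 2, w (Sum.inr i) = 0 := by
      intro i
      refine Submodule.span_induction (p := fun v _ => v (Sum.inr i) = 0) ?_ ?_ ?_ ?_ hw
      · rintro _ ⟨j, rfl⟩
        obtain ⟨c, hc⟩ := hs2 j
        simp [hc]
      · simp
      · intro x y _ _ hx hy
        simp [hx, hy]
      · intro c x _ hx
        simp [hx]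
    unfold Cfsg.quadFormMinus
    rw [hz2 0, hz2 1, Finset.sum_eq_zero (fun i _ => by rw [hzero i, mul_zero])]
    ring

end Cfsg.Agent.Lib.Helper47.MinusWitt
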