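import Mathlib

set_option autoImplicit false

namespace Cfsg.Agent.Lib.Helper47.Stab

open scoped commutatorElement

/-- If `x` normalizes `B` and `⁅x, a⁆ ∈ B` then `⁅x ^ m, a⁆ ∈ B`. -/
theorem commutator_pow_mem {G : Type*} [Group G] (x : G) (B : Subgroup G)
    (hx : x ∈ Subgroup.normalizer (B : Set G)) (a : G) (ha : ⁅x, a⁆ ∈ B) (m : ℕ) :
    ⁅x ^ m, a⁆ ∈ B := by
  induction m with
  | zero => simp
  | succ m ih =>
    rw [pow_succ', commutatorElement_mul_left_eq_conj_mul]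
    exact B.mul_mem ((Subgroup.mem_normalizer_iff.mp hx _).mp ih) ha

/-- If `x` commutes with `⁅x, a⁆` then `x ^ n * a * (x ^ n)⁻¹ = ⁅x, a⁆ ^ n * a`. -/
theorem pow_conj_eq {G : Type*} [Group G] (x a : G) (hc : x * ⁅x, a⁆ = ⁅x, a⁆ * x) (n : ℕ) :
    x ^ n * a * (x ^ n)⁻¹ = ⁅x, a⁆ ^ n * a := by
  induction n with
  | zero => simp
  | succ n ih =>
    have hc' : Commute x (⁅x, a⁆ ^ n) := (show Commute x ⁅x, a⁆ from hc).pow_right n
    have h1 : x ^ (n + 1) * a * (x ^ (n + 1))⁻¹ = x * (x ^ n * a * (x ^ n)⁻¹) * x⁻¹ := by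
      rw [pow_succ']; group
    rw [h1, ih]
    have h2 : x * (⁅x, a⁆ ^ n * a) * x⁻¹ = (x * ⁅x, a⁆ ^ n) * (a * x⁻¹) := by group
    rw [h2, hc'.eq, pow_succ]
    have h3 : ⁅x, a⁆ = x * a * x⁻¹ * a⁻¹ := rfl
    have h4 : a * x⁻¹ = x⁻¹ * (x * a * x⁻¹ * a⁻¹) * a := by group
    rw [h4, ← h3]
    have hc2 : x⁻¹ * ⁅x, a⁆ = ⁅x, a⁆ * x⁻¹ := ((show Commute x ⁅x, a⁆ from hc).inv_left).eq
    have hc3 : ⁅x, a⁆ ^ n * x * (x⁻¹ * ⁅x, a⁆ * a) = ⁅x, a⁆ ^ n * ⁅x, a⁆ * a := by group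
    rw [hc3]

/-- If `x` commutes with every element of the finite subgroup `B` and `⁅x, a⁆ ∈ B`,
then `x ^ |B|` commutes with `a`. -/
theorem pow_card_commute {G : Type*} [Group G] (x : G) (B : Subgroup G) [Finite B]
    (hxB : ∀ b ∈ B, x * b = b * x) (a : G) (ha : ⁅x, a⁆ ∈ B) :
    x ^ Nat.card B * a = a * x ^ Nat.card B := by
  have h1 := pow_conj_eq x a (hxB _ ha) (Nat.card B)
  have h2 : ⁅x, a⁆ ^ Nat.card B = 1 := by
    have h3 : (⟨⁅x, a⁆, ha⟩ : B) ^ Nat.card B = 1 := pow_card_eq_one'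
    have h4 := congrArg Subtype.val h3
    rw [Subgroup.coe_pow, Subgroup.coe_one] at h4
    exact h4
  rw [h2, one_mul] at h1
  calc x ^ Nat.card B * a = x ^ Nat.card B * a * (x ^ Nat.card B)⁻¹ * x ^ Nat.card B := by group
    _ = a * x ^ Nat.card B := by rw [h1]

/-- A chain `⊥ = A 0, A 1, ...` of `p`-subgroups normalized by `x` with `⁅x, A (i+1)⁆ ⊆ A i`:
some `p`-power of `x` centralizes `A n`. -/
theorem exists_pow_commute_of_chain {G : Type*} [Group G] [Finite G] {p : ℕ} [Fact p.Prime]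
    (x : G) (A : ℕ → Subgroup G) (h0 : A 0 = ⊥) (hp : ∀ i, IsPGroup p (A i))
    (hN : ∀ i, x ∈ Subgroup.normalizer (A i : Set G))
    (hstep : ∀ i, ∀ a ∈ A (i + 1), ⁅x, a⁆ ∈ A i) (n : ℕ) :
    ∃ k : ℕ, ∀ a ∈ A n, x ^ p ^ k * a = a * x ^ p ^ k := by
  induction n with
  | zero =>
    refine ⟨0, fun a ha => ?_⟩
    rw [h0, Subgroup.mem_bot] at ha
    simp [ha]
  | succ n ih =>
    obtain ⟨k, hk⟩ := ih
    obtain ⟨b, hb⟩ := IsPGroup.iff_card.mp (hp n)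
    refine ⟨k + b, fun a ha => ?_⟩
    have h1 : ⁅x ^ p ^ k, a⁆ ∈ A n := commutator_pow_mem x (A n) (hN n) a (hstep n a ha) _
    have h2 := pow_card_commute (x ^ p ^ k) (A n) hk a h1
    rw [hb, ← pow_mul, ← pow_add] at h2
    exact h2

end Cfsg.Agent.Lib.Helper47.Stab
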