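import Mathlib
import Cfsg.Prelude.Def_LocalStructure
import Cfsg.Agent.Lib.Helper22.SubnFit
import Cfsg.Agent.Lib.Helper47.Stab
import Cfsg.Agent.Lib.Helper47.Syl
import Cfsg.Agent.Lib.Helper47.PRes
import Cfsg.Agent.Lib.Helper47.PRed

set_option autoImplicit false

namespace Cfsg.Agent.Lib.Helper47.Subn

open Cfsg
open Cfsg.Agent.Lib.Helper47.Syl Cfsg.Agent.Lib.Helper47.PRes Cfsg.Agent.Lib.Helper47.PRed
open Cfsg.Agent.Lib.Helper47.Cent
open scoped commutatorElement

variable {G : Type*} [Group G]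

/-- coprime action: if `x` has order prime to `p`, commutes with `[x, a]` and `[x, a]^p = 1`,
then `x` commutes with `a` -/
theorem commute_of_coprime_of_commutator_commute {p : ℕ} {x a : G}
    (hc : x * ⁅x, a⁆ = ⁅x, a⁆ * x) (hp : ⁅x, a⁆ ^ p = 1) (hco : (orderOf x).Coprime p) :
    x * a = a * x := by
  have h1 := Cfsg.Agent.Lib.Helper47.Stab.pow_conj_eq x a hc p
  rw [hp, one_mul] at h1
  have h2 : Commute (x ^ p) a := by
    show x ^ p * a = a * x ^ p
    calc x ^ p * a = x ^ p * a * (x ^ p)⁻¹ * x ^ p := by group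
      _ = a * x ^ p := by rw [h1]
  obtain ⟨m, hm⟩ := exists_pow_eq_self_of_coprime hco.symm
  have h3 : Commute ((x ^ p) ^ m) a := h2.pow_left m
  rw [hm] at h3
  exact h3

/-- the elements of order prime to `p` of `K V`, for `K` subnormal and `V` a normal `p`-subgroup,
lie in `K` -/
theorem coprime_mem_of_mem_sup {p : ℕ} {K V : Subgroup G} (hK : K.IsSubnormal) (hVn : V.Normal)
    (hVp : IsPGroup p V) : ∀ x ∈ K ⊔ V, (orderOf x).Coprime p → x ∈ K := by
  have hnV : ∀ X : Subgroup G, X ≤ Subgroup.normalizer (V : Set G) := fun X => by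
    rw [Subgroup.normalizer_eq_top_iff.mpr hVn]; exact le_top
  induction hK with
  | top => intro x _ _; exact Subgroup.mem_top x
  | step H K h_le hSubn hN ih =>
    intro x hx hco
    have hxK : x ∈ K := ih x (sup_le_sup_right h_le V hx) hco
    obtain ⟨h, hh, v, hv, rfl⟩ := exists_mul_of_mem_sup_left (hnV H) hx
    have hvK : v ∈ K := by
      have e : v = h⁻¹ * (h * v) := by group
      rw [e]
      exact K.mul_mem (K.inv_mem (h_le hh)) hxK
    have hKN : K ≤ Subgroup.normalizer (H : Set G) :=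
      (Subgroup.normal_subgroupOf_iff_le_normalizer h_le).mp hN
    have hvN := hKN hvK
    obtain ⟨k, hk⟩ := hVp ⟨v, hv⟩
    have hvk : v ^ p ^ k = 1 := by
      have := congrArg Subtype.val hk
      simpa using this
    have e2 : h * v = v * (v⁻¹ * h * v) := by group
    have h3 : (v * (v⁻¹ * h * v)) ^ p ^ k ∈ H :=
      mul_pow_mem hvN (conj_mem_of_mem_normalizer' hvN hh) (by rw [hvk]; exact H.one_mem)
    rw [← e2] at h3
    exact coprime_mem_of_pow_mem hco h3

theorem pResOf_sup_eq {p : ℕ} {K V : Subgroup G} (hK : K.IsSubnormal) (hVn : V.Normal)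
    (hVp : IsPGroup p V) : pResOf p (K ⊔ V) = pResOf p K :=
  le_antisymm
    (pResOf_le_of_coprime_mem fun x hx hc =>
      mem_pResOf_of_coprime (coprime_mem_of_mem_sup hK hVn hVp x hx hc) hc)
    (pResOf_mono le_sup_left)

/-- a normal `p`-subgroup normalizes `O^p(K)` for every subnormal subgroup `K` -/
theorem le_normalizer_pResOf_of_subnormal {p : ℕ} {K V : Subgroup G} (hK : K.IsSubnormal)
    (hVn : V.Normal) (hVp : IsPGroup p V) :
    V ≤ Subgroup.normalizer (pResOf p K : Set G) := by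
  rw [← pResOf_sup_eq hK hVn hVp]
  exact le_sup_right.trans (le_normalizer_pResOf p (K ⊔ V))

/-- a subnormal subgroup acting as a `p`-group modulo `N` lies in `N` when `O_p(G/N) = 1` -/
theorem le_of_subnormal_of_pow_mem [Finite G] {p : ℕ} [Fact p.Prime] {N D : Subgroup G}
    [N.Normal] (hO : pCore p (G ⧸ N) = ⊥) (hD : D.IsSubnormal)
    (hpow : ∀ d ∈ D, ∃ k : ℕ, d ^ p ^ k ∈ N) : D ≤ N := by
  have h1 : (D.map (QuotientGroup.mk' N)).IsSubnormal := hD.quotient
  have h2 : IsPGroup p (D.map (QuotientGroup.mk' N)) := by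
    rintro ⟨q, d, hd, rfl⟩
    obtain ⟨k, hk⟩ := hpow d hd
    refine ⟨k, Subtype.ext ?_⟩
    show (QuotientGroup.mk' N d) ^ p ^ k = 1
    rw [← map_pow]
    exact (QuotientGroup.eq_one_iff _).mpr hk
  have h3 := Cfsg.Agent.Lib.Helper22.SubnFit.subnormal_pGroup_le_pCore p h1 h2
  rw [hO] at h3
  intro d hd
  have h4 : QuotientGroup.mk' N d ∈ (⊥ : Subgroup (G ⧸ N)) := h3 (Subgroup.mem_map_of_mem _ hd)
  exact (QuotientGroup.eq_one_iff d).mp (Subgroup.mem_bot.mp h4)

/-- an element normalizing `A` and `B` normalizes `[A, B]` -/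
theorem mem_normalizer_commutator {A B : Subgroup G} {g : G}
    (hA : g ∈ Subgroup.normalizer (A : Set G)) (hB : g ∈ Subgroup.normalizer (B : Set G)) :
    g ∈ Subgroup.normalizer ((⁅A, B⁆ : Subgroup G) : Set G) := by
  rw [mem_normalizer_iff_map_conj, Subgroup.map_commutator, map_conj_eq_of_mem_normalizer hA,
    map_conj_eq_of_mem_normalizer hB]

end Cfsg.Agent.Lib.Helper47.Subn
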