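import Mathlib
import Cfsg.Prelude.Def_LocalEven
import Cfsg.Prelude.Def_LocalStructure
import Cfsg.Agent.H32.PGroup
import Cfsg.Agent.Lib.Helper47.PRed2
import Cfsg.Agent.Lib.Helper47.Subn

set_option autoImplicit false

namespace Cfsg.Agent.Lib.Helper47.PRed3

open Cfsg
open Cfsg.Agent.Lib.Helper47.Basic Cfsg.Agent.Lib.Helper47.Syl Cfsg.Agent.Lib.Helper47.PRes
open Cfsg.Agent.Lib.Helper47.Cent Cfsg.Agent.Lib.Helper47.PRed Cfsg.Agent.Lib.Helper47.PRed2
open Cfsg.Agent.Lib.Helper47.Subn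
open scoped commutatorElement

variable {G : Type*} [Group G]

/-- type-level `p`-reduced normal subgroups are the `IsRed p · ⊤` -/
theorem isPReducedNormal_iff_isRed_top {p : ℕ} (V : Subgroup G) :
    IsPReducedNormal p V ↔ IsRed p V ⊤ := by
  rw [isPReducedNormal_iff_type]
  constructor
  · rintro ⟨hn, hc, he, hD⟩
    refine ⟨le_top, ?_, hc, he, ?_⟩
    · rw [Subgroup.normalizer_eq_top_iff.mpr hn]
    · intro D _ hLD hpow
      exact hD D (Subgroup.normalizer_eq_top_iff.mp (top_le_iff.mp hLD)) hpow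
  · rintro ⟨_, hn, hc, he, hD⟩
    refine ⟨Subgroup.normalizer_eq_top_iff.mp (top_le_iff.mp hn), hc, he, ?_⟩
    intro D hDn hpow
    exact hD D le_top (by rw [Subgroup.normalizer_eq_top_iff.mpr hDn]) hpow

theorem largestPReducedOf_top (p : ℕ) :
    largestPReducedOf p (⊤ : Subgroup G) = largestPReduced p G := by
  apply le_antisymm
  · exact le_sSup ((isPReducedNormal_iff_isRed_top _).mpr (isRed_largest p ⊤))
  · exact ((isPReducedNormal_iff_isRed_top _).mp (isPReducedNormal_largest p G)).le_largest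

/-- conjugates of `p`-reduced normal subgroups -/
theorem isRed_map_conj {p : ℕ} {V L : Subgroup G} (h : IsRed p V L) (g : G) :
    IsRed p (V.map (MulAut.conj g).toMonoidHom) (L.map (MulAut.conj g).toMonoidHom) := by
  refine ⟨Subgroup.map_mono h.1, ?_, ?_, ?_, ?_⟩
  · intro x hx
    rw [mem_normalizer_map_conj]
    exact h.2.1 (mem_map_conj.mp hx)
  · intro a ha b hb
    have e := h.2.2.1 _ (mem_map_conj.mp ha) _ (mem_map_conj.mp hb)
    calc a * b = g * ((g⁻¹ * a * g) * (g⁻¹ * b * g)) * g⁻¹ := by group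
      _ = g * ((g⁻¹ * b * g) * (g⁻¹ * a * g)) * g⁻¹ := by rw [e]
      _ = b * a := by group
  · intro a ha
    have e := h.2.2.2.1 _ (mem_map_conj.mp ha)
    have e2 : a = g * (g⁻¹ * a * g) * g⁻¹ := by group
    rw [e2, conj_pow, e]
    simp
  · intro D hDL hLD hpow
    have hD' : D.map (MulAut.conj g⁻¹).toMonoidHom ≤ Subgroup.centralizer (V : Set G) := by
      apply h.le_centralizer
      · intro x hx
        have h1 := hDL (by simpa using mem_map_conj.mp hx : g * x * g⁻¹ ∈ D)
        have h2 := mem_map_conj.mp h1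
        have e : g⁻¹ * (g * x * g⁻¹) * g = x := by group
        rwa [e] at h2
      · intro x hx
        rw [mem_normalizer_map_conj]
        have h1 : g * x * g⁻¹ ∈ L.map (MulAut.conj g).toMonoidHom := conj_mem_map_conj hx
        simpa using hLD h1
      · intro d hd
        have h1 : g * d * g⁻¹ ∈ D := by simpa using mem_map_conj.mp hd
        obtain ⟨k, hk⟩ := hpow _ h1
        refine ⟨k, ?_⟩
        rw [conj_pow, mem_centralizer_map_conj] at hk
        have e : g⁻¹ * (g * d ^ p ^ k * g⁻¹) * g = d ^ p ^ k := by group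
        rwa [e] at hk
    intro d hd
    rw [mem_centralizer_map_conj]
    apply hD'
    rw [mem_map_conj]
    have e : g⁻¹⁻¹ * (g⁻¹ * d * g) * g⁻¹ = d := by group
    rwa [e]

/-- `Y_L` is normalized by the normalizer of `L` -/
theorem mem_normalizer_largest [Finite G] {p : ℕ} {L : Subgroup G} {g : G}
    (hg : g ∈ Subgroup.normalizer (L : Set G)) :
    g ∈ Subgroup.normalizer (largestPReducedOf p L : Set G) := by
  have h := isRed_map_conj (isRed_largest p L) g
  rw [map_conj_eq_of_mem_normalizer hg] at h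
  exact mem_normalizer_of_map_conj_le h.le_largest

/-- fixed points: a group acting as a `p`-group on a nontrivial `p`-subgroup `U` centralizes a
nontrivial element of `U` -/
theorem exists_fixed_of_pow_mem [Finite G] {p : ℕ} [Fact p.Prime] {D U : Subgroup G}
    (hU : IsPGroup p U) (hU1 : U ≠ ⊥) (hDU : D ≤ Subgroup.normalizer (U : Set G))
    (hpow : ∀ d ∈ D, ∃ k : ℕ, d ^ p ^ k ∈ Subgroup.centralizer (U : Set G)) :
    ∃ u ∈ U, u ≠ 1 ∧ u ∈ Subgroup.centralizer (D : Set G) := by
  obtain ⟨P, hP⟩ := exists_isSyl p D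
  have hPU : IsPGroup p (P ⊔ U : Subgroup G) :=
    hP.2.1.to_sup_of_normal_right' hU (hP.1.trans hDU)
  have hXN : P ⊔ U ≤ Subgroup.normalizer (U : Set G) :=
    sup_le (hP.1.trans hDU) Subgroup.le_normalizer
  have hN : (U.subgroupOf (P ⊔ U)).Normal := Subgroup.normal_subgroupOf_of_le_normalizer hXN
  obtain ⟨u₀, hu₀1⟩ := (Subgroup.ne_bot_iff_exists_ne_one).mp hU1
  have hN1 : U.subgroupOf (P ⊔ U) ≠ ⊥ := by
    intro hbot
    have h1 : (⟨(u₀ : G), Subgroup.mem_sup_right u₀.2⟩ : (P ⊔ U : Subgroup G)) ∈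
        U.subgroupOf (P ⊔ U) := Subgroup.mem_subgroupOf.mpr u₀.2
    rw [hbot, Subgroup.mem_bot] at h1
    apply hu₀1
    apply Subtype.ext
    have := congrArg Subtype.val h1
    simpa using this
  obtain ⟨x, hxN, hx1, hxc⟩ := Cfsg.Agent.H32.exists_mem_center_of_normal hPU _ hN1
  refine ⟨(x : G), Subgroup.mem_subgroupOf.mp hxN, ?_, ?_⟩
  · intro h
    apply hx1
    exact Subtype.ext h
  · rw [Subgroup.mem_centralizer_iff]
    intro d hd
    obtain ⟨t, ht, r, hr, rfl⟩ := exists_mul_pResOf hP hd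
    have hrC : r ∈ Subgroup.centralizer (U : Set G) := pResOf_le_of_pow_mem hpow hr
    rw [Subgroup.mem_centralizer_iff] at hrC
    have h1 := hrC (x : G) (Subgroup.mem_subgroupOf.mp hxN)
    have h2 := Subgroup.mem_center_iff.mp hxc ⟨t, Subgroup.mem_sup_left ht⟩
    have h3 : t * (x : G) = (x : G) * t := congrArg Subtype.val h2
    calc t * r * (x : G) = t * ((x : G) * r) := by rw [mul_assoc, h1]
      _ = (t * (x : G)) * r := by rw [mul_assoc]
      _ = (x : G) * (t * r) := by rw [h3, mul_assoc]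

/-- for an abelian subgroup `V` normalized by `y`, the commutators `[y, v]` form a subgroup -/
def commSub (y : G) (V : Subgroup G) (hab : ∀ a ∈ V, ∀ b ∈ V, a * b = b * a)
    (hy : y ∈ Subgroup.normalizer (V : Set G)) : Subgroup G where
  carrier := {u | ∃ v ∈ V, u = ⁅y, v⁆}
  one_mem' := ⟨1, V.one_mem, by simp⟩
  mul_mem' := by
    rintro _ _ ⟨v₁, h₁, rfl⟩ ⟨v₂, h₂, rfl⟩
    refine ⟨v₁ * v₂, V.mul_mem h₁ h₂, ?_⟩
    have ha : y * v₂ * y⁻¹ ∈ V := conj_mem_of_mem_normalizer hy h₂
    have e := hab v₁⁻¹ (V.inv_mem h₁) (y * v₂ * y⁻¹ * v₂⁻¹) (V.mul_mem ha (V.inv_mem h₂))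
    simp only [commutatorElement_def]
    calc y * v₁ * y⁻¹ * v₁⁻¹ * (y * v₂ * y⁻¹ * v₂⁻¹)
        = y * v₁ * y⁻¹ * (v₁⁻¹ * (y * v₂ * y⁻¹ * v₂⁻¹)) := by group
      _ = y * v₁ * y⁻¹ * ((y * v₂ * y⁻¹ * v₂⁻¹) * v₁⁻¹) := by rw [e]
      _ = y * (v₁ * v₂) * y⁻¹ * (v₁ * v₂)⁻¹ := by group
  inv_mem' := by
    rintro _ ⟨v, hv, rfl⟩
    refine ⟨v⁻¹, V.inv_mem hv, ?_⟩
    have ha : y * v⁻¹ * y⁻¹ ∈ V := conj_mem_of_mem_normalizer hy (V.inv_mem hv)
    have e := hab v hv (y * v⁻¹ * y⁻¹) ha
    simp only [commutatorElement_def]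
    calc (y * v * y⁻¹ * v⁻¹)⁻¹ = v * (y * v⁻¹ * y⁻¹) := by group
      _ = (y * v⁻¹ * y⁻¹) * v := e
      _ = y * v⁻¹ * y⁻¹ * v⁻¹⁻¹ := by group

theorem mem_commSub {y : G} {V : Subgroup G} {hab : ∀ a ∈ V, ∀ b ∈ V, a * b = b * a}
    {hy : y ∈ Subgroup.normalizer (V : Set G)} {u : G} :
    u ∈ commSub y V hab hy ↔ ∃ v ∈ V, u = ⁅y, v⁆ := Iff.rfl

theorem commSub_le {y : G} {V : Subgroup G} (hab : ∀ a ∈ V, ∀ b ∈ V, a * b = b * a)
    (hy : y ∈ Subgroup.normalizer (V : Set G)) : commSub y V hab hy ≤ V := by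
  rintro _ ⟨v, hv, rfl⟩
  have e : ⁅y, v⁆ = (y * v * y⁻¹) * v⁻¹ := by rw [commutatorElement_def]
  rw [e]
  exact V.mul_mem (conj_mem_of_mem_normalizer hy hv) (V.inv_mem hv)

/-- if `D` acts on the elementary abelian `V` as a `p`-group, the `p'`-element `y` commutes with
`D` modulo `C(V)` and centralizes `C_V(D)`, then `y` centralizes `V` -/
theorem centralizes_of_centralizes_fixed [Finite G] {p : ℕ} [Fact p.Prime] {V D : Subgroup G}
    {y : G} (hab : ∀ a ∈ V, ∀ b ∈ V, a * b = b * a) (hexp : ∀ a ∈ V, a ^ p = 1)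
    (hy : y ∈ Subgroup.normalizer (V : Set G)) (hco : (orderOf y).Coprime p)
    (hDV : D ≤ Subgroup.normalizer (V : Set G))
    (hpow : ∀ d ∈ D, ∃ k : ℕ, d ^ p ^ k ∈ Subgroup.centralizer (V : Set G))
    (hDy : ∀ d ∈ D, ⁅d, y⁆ ∈ Subgroup.centralizer (V : Set G))
    (hfix : y ∈ Subgroup.centralizer ((V ⊓ Subgroup.centralizer (D : Set G) : Subgroup G) : Set G)) :
    y ∈ Subgroup.centralizer (V : Set G) := by
  by_contra hne
  have hUV := commSub_le hab hy
  have hU1 : commSub y V hab hy ≠ ⊥ := by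
    intro hbot
    apply hne
    rw [Subgroup.mem_centralizer_iff]
    intro v hv
    have h1 : ⁅y, v⁆ ∈ commSub y V hab hy := ⟨v, hv, rfl⟩
    rw [hbot, Subgroup.mem_bot, commutatorElement_eq_one_iff_mul_comm] at h1
    exact h1.symm
  have hUp : IsPGroup p (commSub y V hab hy) := fun u => ⟨1, by
    rw [pow_one]
    exact Subtype.ext (by simpa using hexp u (hUV u.2))⟩
  have hDU : D ≤ Subgroup.normalizer ((commSub y V hab hy : Subgroup G) : Set G) := by
    apply le_normalizer_of_conj_mem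
    rintro d hd _ ⟨v, hv, rfl⟩
    refine ⟨d * v * d⁻¹, conj_mem_of_mem_normalizer (hDV hd) hv, ?_⟩
    have hc := hDy d hd
    rw [Subgroup.mem_centralizer_iff] at hc
    have hc2 := hc (y * (d * v * d⁻¹) * y⁻¹)
      (conj_mem_of_mem_normalizer hy (conj_mem_of_mem_normalizer (hDV hd) hv))
    simp only [commutatorElement_def] at hc2 ⊢
    calc d * (y * v * y⁻¹ * v⁻¹) * d⁻¹
        = (d * y * d⁻¹ * y⁻¹) * (y * (d * v * d⁻¹) * y⁻¹) * (d * y * d⁻¹ * y⁻¹)⁻¹ *
            (d * v * d⁻¹)⁻¹ := by group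
      _ = (y * (d * v * d⁻¹) * y⁻¹) * (d * y * d⁻¹ * y⁻¹) * (d * y * d⁻¹ * y⁻¹)⁻¹ *
            (d * v * d⁻¹)⁻¹ := by rw [← hc2]
      _ = y * (d * v * d⁻¹) * y⁻¹ * (d * v * d⁻¹)⁻¹ := by group
  have hpowU : ∀ d ∈ D, ∃ k : ℕ, d ^ p ^ k ∈
      Subgroup.centralizer ((commSub y V hab hy : Subgroup G) : Set G) := by
    intro d hd
    obtain ⟨k, hk⟩ := hpow d hd
    exact ⟨k, Subgroup.centralizer_le (by exact_mod_cast hUV) hk⟩
  obtain ⟨u, huU, hu1, huD⟩ := exists_fixed_of_pow_mem hUp hU1 hDU hpowU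
  obtain ⟨v, hv, rfl⟩ := huU
  rw [Subgroup.mem_centralizer_iff] at hfix
  have h1 := hfix ⁅y, v⁆ (Subgroup.mem_inf.mpr ⟨hUV ⟨v, hv, rfl⟩, huD⟩)
  have h2 := commute_of_coprime_of_commutator_commute h1.symm (hexp _ (hUV ⟨v, hv, rfl⟩)) hco
  exact hu1 (commutatorElement_eq_one_iff_mul_comm.mpr h2)

/-- normal case: a `p'`-element of `L ⊴ K` centralizing `Y_K` centralizes `Y_L` -/
theorem coprime_centralizes_largest_of_normal [Finite G] {p : ℕ} [Fact p.Prime] {L K : Subgroup G}
    (hLK : L ≤ K) (hKL : K ≤ Subgroup.normalizer (L : Set G)) :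
    ∀ x ∈ L, (orderOf x).Coprime p →
      x ∈ Subgroup.centralizer (largestPReducedOf p K : Set G) →
      x ∈ Subgroup.centralizer (largestPReducedOf p L : Set G) := by
  have hV := isRed_largest p L
  have hKV : K ≤ Subgroup.normalizer (largestPReducedOf p L : Set G) :=
    fun g hg => mem_normalizer_largest (hKL hg)
  have claim : ∀ n : ℕ, ∀ V' : Subgroup G, Nat.card V' = n → V' ≤ largestPReducedOf p L →
      K ≤ Subgroup.normalizer (V' : Set G) →
      (∀ y ∈ L, (orderOf y).Coprime p → y ∈ Subgroup.centralizer (V' : Set G) →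
        y ∈ Subgroup.centralizer (largestPReducedOf p L : Set G)) →
      ∃ V'' : Subgroup G, IsRed p V'' K ∧
        (∀ y ∈ L, (orderOf y).Coprime p → y ∈ Subgroup.centralizer (V'' : Set G) →
          y ∈ Subgroup.centralizer (largestPReducedOf p L : Set G)) := by
    intro n
    induction n using Nat.strong_induction_on with
    | _ n ih =>
      intro V' hn hV'V hKV' hP
      by_cases h : ∀ D : Subgroup G, D ≤ K → K ≤ Subgroup.normalizer (D : Set G) →
          (∀ d ∈ D, ∃ k : ℕ, d ^ p ^ k ∈ Subgroup.centralizer (V' : Set G)) →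
          D ≤ Subgroup.centralizer (V' : Set G)
      · exact ⟨V', ⟨hV'V.trans (hV.1.trans hLK), hKV',
          fun a ha b hb => hV.2.2.1 a (hV'V ha) b (hV'V hb),
          fun a ha => hV.2.2.2.1 a (hV'V ha), h⟩, hP⟩
      · push Not at h
        obtain ⟨D, hDK, hKD, hpow, hDC⟩ := h
        have hle : V' ⊓ Subgroup.centralizer (D : Set G) ≤ V' := inf_le_left
        have hlt : Nat.card (V' ⊓ Subgroup.centralizer (D : Set G) : Subgroup G) < n := by
          rw [← hn]
          by_contra hcon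
          have heq := Subgroup.eq_of_le_of_card_ge hle (not_lt.mp hcon)
          apply hDC
          apply le_centralizer_comm
          rw [← heq]
          exact inf_le_right
        apply ih _ hlt (V' ⊓ Subgroup.centralizer (D : Set G)) rfl (hle.trans hV'V)
          (le_normalizer_inf hKV' (le_normalizer_centralizer hKD))
        intro y hyL hyco hyV₁
        apply hP y hyL hyco
        have hE : D ⊓ L ≤ Subgroup.centralizer (V' : Set G) := by
          have h1 : D ⊓ L ≤ Subgroup.centralizer (largestPReducedOf p L : Set G) := by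
            apply hV.le_centralizer inf_le_right
              (le_normalizer_inf (hLK.trans hKD) Subgroup.le_normalizer)
            intro e he
            obtain ⟨k, hk⟩ := exists_pow_mem_pResOf (p := p) he
            refine ⟨k, ?_⟩
            refine pResOf_le_of_coprime_mem ?_ hk
            intro z hz hzco
            obtain ⟨k', hk'⟩ := hpow z (Subgroup.mem_inf.mp hz).1
            exact hP z (Subgroup.mem_inf.mp hz).2 hzco (coprime_mem_of_pow_mem hzco hk')
          exact h1.trans (Subgroup.centralizer_le (by exact_mod_cast hV'V))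
        apply centralizes_of_centralizes_fixed (D := D)
          (fun a ha b hb => hV.2.2.1 a (hV'V ha) b (hV'V hb))
          (fun a ha => hV.2.2.2.1 a (hV'V ha)) (hKV' (hLK hyL)) hyco (hDK.trans hKV') hpow ?_ hyV₁
        intro d hd
        apply hE
        refine Subgroup.mem_inf.mpr ⟨?_, ?_⟩
        · have h1 : y * d⁻¹ * y⁻¹ ∈ D :=
            conj_mem_of_mem_normalizer (hKD (hLK hyL)) (D.inv_mem hd)
          have e : ⁅d, y⁆ = d * (y * d⁻¹ * y⁻¹) := by rw [commutatorElement_def]; group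
          rw [e]
          exact D.mul_mem hd h1
        · have h1 : d * y * d⁻¹ ∈ L := conj_mem_of_mem_normalizer (hKL (hDK hd)) hyL
          have e : ⁅d, y⁆ = (d * y * d⁻¹) * y⁻¹ := by rw [commutatorElement_def]
          rw [e]
          exact L.mul_mem h1 (L.inv_mem hyL)
  obtain ⟨V'', hred, hP''⟩ := claim _ (largestPReducedOf p L) rfl le_rfl hKV (fun y _ _ h => h)
  intro x hx hco hxC
  exact hP'' x hx hco (Subgroup.centralizer_le (by exact_mod_cast hred.le_largest) hxC)

/-- a `p'`-element of a subnormal subgroup `L` centralizing `Y_G` centralizes `Y_L` -/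
theorem coprime_centralizes_largest_of_subnormal [Finite G] {p : ℕ} [Fact p.Prime]
    {L : Subgroup G} (hL : L.IsSubnormal) :
    ∀ x ∈ L, (orderOf x).Coprime p →
      x ∈ Subgroup.centralizer (largestPReduced p G : Set G) →
      x ∈ Subgroup.centralizer (largestPReducedOf p L : Set G) := by
  induction hL with
  | top =>
    intro x _ _ hx
    rw [largestPReducedOf_top]
    exact hx
  | step L K h_le hK hN ih =>
    intro x hx hco hxC
    exact coprime_centralizes_largest_of_normal h_le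
      ((Subgroup.normal_subgroupOf_iff_le_normalizer h_le).mp hN) x hx hco (ih x (h_le hx) hco hxC)

end Cfsg.Agent.Lib.Helper47.PRed3
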