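import Mathlib
import Cfsg.Agent.Lib.Helper69.PNil
import Cfsg.Agent.Lib.Helper30.PSgStmt

/-!
# S4321 piece DFL (helper47, second seat)

Direct factor lemma inside a subgroup `C` containing a Sylow `p`-subgroup `P` of `G`.
-/

set_option autoImplicit false

namespace Cfsg.Agent.Lib.Helper47.PSgDFL

open Cfsg.Agent.Lib.Helper69 Cfsg.Agent.Lib.Helper69.PNil

universe u

/-- If every `p'`-element has class size prime to `p`, then a Sylow `p`-subgroup and its
centralizer generate the group (this is the first step of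
`Helper69.PNil.commute_of_not_dvd_index`). -/
theorem sup_centralizer_eq_top {H : Type u} [Group H] [Finite H] (p : ℕ) [hp : Fact p.Prime]
    (h : ∀ y : H, (orderOf y).Coprime p → ¬ p ∣ (Subgroup.centralizer ({y} : Set H)).index)
    (S : Sylow p H) :
    (S : Subgroup H) ⊔ Subgroup.centralizer ((S : Subgroup H) : Set H) = ⊤ := by
  apply eq_top_of_forall_conj_mem
  intro g
  obtain ⟨m, n, hpm, hcop, hg⟩ := exists_pow_decomp p g
  obtain ⟨c, hc⟩ := Conj.exists_conj_mem_centralizer_sylow S (g ^ n) (h _ hcop)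
  have hSE : (S : Subgroup H) ≤ Subgroup.centralizer ({c * g ^ n * c⁻¹} : Set H) := by
    intro s hs
    rw [Subgroup.mem_centralizer_iff]
    intro z hz
    rw [Set.mem_singleton_iff] at hz
    rw [hz]
    exact ((Subgroup.mem_centralizer_iff.1 hc) s hs).symm
  have hu'E : c * g ^ m * c⁻¹ ∈ Subgroup.centralizer ({c * g ^ n * c⁻¹} : Set H) := by
    rw [Subgroup.mem_centralizer_iff]
    intro z hz
    rw [Set.mem_singleton_iff] at hz
    rw [hz]
    have : g ^ n * g ^ m = g ^ m * g ^ n := by rw [← pow_add, ← pow_add, add_comm]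
    calc c * g ^ n * c⁻¹ * (c * g ^ m * c⁻¹) = c * (g ^ n * g ^ m) * c⁻¹ := by group
      _ = c * (g ^ m * g ^ n) * c⁻¹ := by rw [this]
      _ = c * g ^ m * c⁻¹ * (c * g ^ n * c⁻¹) := by group
  have hpz : IsPGroup p (Subgroup.zpowers (c * g ^ m * c⁻¹)) := by
    apply isPGroup_zpowers
    have : orderOf (c * g ^ m * c⁻¹) = orderOf (g ^ m) := by
      have := MulEquiv.orderOf_eq (MulAut.conj c) (g ^ m)
      rwa [MulAut.conj_apply] at this
    rw [this]; exact hpm
  obtain ⟨d, hd, hdr⟩ := Cfsg.Agent.Lib.Helper53.SylowConj.exists_conj_le_sylow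
    (Subgroup.centralizer ({c * g ^ n * c⁻¹} : Set H)) (Subgroup.zpowers (c * g ^ m * c⁻¹))
    (by rw [Subgroup.zpowers_le]; exact hu'E) hpz S hSE
  have h1 : d * (c * g ^ m * c⁻¹) * d⁻¹ ∈ (S : Subgroup H) := hdr _ (Subgroup.mem_zpowers _)
  have h2 : d * (c * g ^ n * c⁻¹) * d⁻¹ = c * g ^ n * c⁻¹ := by
    have := (Subgroup.mem_centralizer_iff.1 hd) _ (Set.mem_singleton _)
    rw [← this]; group
  refine ⟨d * c, ?_⟩
  have h3 : d * c * g * (d * c)⁻¹ = (d * (c * g ^ m * c⁻¹) * d⁻¹) * (c * g ^ n * c⁻¹) := by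
    conv_rhs => rw [← h2]
    conv_lhs => rw [← hg]
    group
  rw [h3]
  exact Subgroup.mul_mem_sup h1 hc

theorem main : Cfsg.Agent.Lib.Helper30.PSgStmt.DFLDef.{u} := by
  intro G _ _ p _ C P hPC hC g hg
  let S : Sylow p ↥C := P.subtype hPC
  have hS : ∀ x : ↥C, x ∈ (S : Subgroup ↥C) ↔ (x : G) ∈ (P : Subgroup G) := by
    intro x
    have h0 : (S : Subgroup ↥C) = (P : Subgroup G).subgroupOf C := Sylow.coe_subtype _ _
    rw [h0]; exact Subgroup.mem_subgroupOf
  have h' : ∀ y : ↥C, (orderOf y).Coprime p →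
      ¬ p ∣ (Subgroup.centralizer ({y} : Set ↥C)).index := by
    intro y hy hdvd
    have hy' : (orderOf (y : G)).Coprime p := by rwa [Subgroup.orderOf_coe]
    apply hC (y : G) y.2 hy'
    have heq : Subgroup.centralizer ({y} : Set ↥C) =
        (C ⊓ Subgroup.centralizer ({(y : G)} : Set G)).subgroupOf C := by
      ext x
      rw [Subgroup.mem_subgroupOf, Subgroup.mem_inf, Subgroup.mem_centralizer_singleton_iff,
        Subgroup.mem_centralizer_singleton_iff]
      constructor
      · intro hx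
        exact ⟨x.2, congrArg Subtype.val hx⟩
      · rintro ⟨-, hx⟩
        exact Subtype.ext hx
    rw [heq] at hdvd
    have h1 : (C ⊓ Subgroup.centralizer ({(y : G)} : Set G)).relIndex C * C.index =
        (C ⊓ Subgroup.centralizer ({(y : G)} : Set G)).index :=
      Subgroup.relIndex_mul_index inf_le_left
    rw [← h1]
    exact Dvd.dvd.mul_right hdvd _
  have hM := sup_centralizer_eq_top p h' S
  have hSn : (S : Subgroup ↥C).Normal := by
    rw [← Subgroup.normalizer_eq_top_iff]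
    apply top_le_iff.1
    rw [← hM]
    exact sup_le Subgroup.le_normalizer (Subgroup.centralizer_le_normalizer _)
  have hmem : (⟨g, hg⟩ : ↥C) ∈
      (S : Subgroup ↥C) ⊔ Subgroup.centralizer ((S : Subgroup ↥C) : Set ↥C) := by
    rw [hM]; trivial
  rw [← SetLike.mem_coe, Subgroup.normal_mul] at hmem
  obtain ⟨x, hx, c, hc, hxc⟩ := Set.mem_mul.1 hmem
  refine ⟨(x : G), (hS x).1 hx, (c : G), ?_, ?_⟩
  · rw [Subgroup.mem_centralizer_iff]
    intro s hs
    have h2 := (Subgroup.mem_centralizer_iff.1 hc) ⟨s, hPC hs⟩ ((hS _).2 hs)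
    exact congrArg Subtype.val h2
  · exact (congrArg Subtype.val hxc).symm

end Cfsg.Agent.Lib.Helper47.PSgDFL
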