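import Mathlib
import Cfsg.Agent.Lib.Helper6.Pg2

/-!
# Maximal subgroups of `PGL(2, q)`, `q` odd: the dihedral case (helper47, piece S5891/D)

`case_dih`: a maximal subgroup `Y` of `Pk k` (not containing `Sk k`, not inside `Sk k`) of order
prime to `p` whose squares commute has order at most `4`, or its image in `PSL(2, F)` is dihedral
of order `2 (q - 1)` or `2 (q + 1)`, `q = |k|`.
-/

set_option autoImplicit false
set_option linter.unusedSimpArgs false
set_option linter.unusedVariables false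
set_option linter.unusedSectionVars false
set_option linter.style.haveILetI false
set_option linter.unnecessarySeqFocus false
set_option linter.unreachableTactic false
set_option linter.unusedTactic false

namespace Cfsg.Agent.Lib.Helper47.PgDih

open Matrix MatrixGroups
open Cfsg.Agent.Lib.Helper53.SL2Inv Cfsg.Agent.Lib.Helper53.SL2Unip
open Cfsg.Agent.Lib.Helper98.SL2Sub Cfsg.Agent.Lib.Helper98.SL2Core
open Cfsg.Agent.Lib.Helper98.SL2Tor Cfsg.Agent.Lib.Helper98.PSL2Max
open Cfsg.Agent.Lib.Helper98.DicksonB Cfsg.Agent.Lib.Helper98.DicksonOdd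
open Cfsg.Agent.Lib.Helper98.SL2Field Cfsg.Agent.Lib.Helper98.SL2Quad
open Cfsg.Agent.S5941 (Pk Sk_le_Pk Pk_ne_top d_mem_Pk)
open Cfsg.Agent.Lib.Helper6.Sb2 Cfsg.Agent.Lib.Helper6.Dk2 Cfsg.Agent.Lib.Helper6.Dk3
  Cfsg.Agent.Lib.Helper6.Dk4
  Cfsg.Agent.Lib.Helper6.Dk5 Cfsg.Agent.Lib.Helper6.Mx1 Cfsg.Agent.Lib.Helper6.Mx2
  Cfsg.Agent.Lib.Helper6.Mx3 Cfsg.Agent.Lib.Helper6.Mx4 Cfsg.Agent.Lib.Helper6.Mx5
  Cfsg.Agent.Lib.Helper6.Mx6 Cfsg.Agent.Lib.Helper6.Pg1 Cfsg.Agent.Lib.Helper6.Pg2

variable {F : Type*} [Field F]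

/-- a non-central element of `Y ⊓ Sk k` which every element of `Y` centralises or inverts -/
lemma exists_norInv [Fintype F] (p : ℕ) [Fact p.Prime] [CharP F p] (h2 : (2 : F) ≠ 0)
    (k : Subfield F) (Y : Subgroup SL(2, F)) (hle : Y ≤ Pk k) (hp : ¬ p ∣ Nat.card Y)
    (hsq : ∀ x ∈ Y, ∀ y ∈ Y, x ^ 2 * y ^ 2 = y ^ 2 * x ^ 2)
    (a₀ : SL(2, F)) (ha₀Y : a₀ ∈ Y) (ha₀S : a₀ ∈ Sk k) (ha₀1 : a₀ ≠ 1) (ha₀2 : a₀ ≠ negOne) :
    ∃ a ∈ Y, a ∈ Sk k ∧ a ≠ 1 ∧ a ≠ negOne ∧ Y ≤ NorInv a := by
  have hord : ∀ g ∈ Y, (orderOf g).Coprime p := fun g hg => coprime_of p Y hp g hg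
  by_cases hB : ∃ x ∈ Y, x ^ 2 ≠ 1 ∧ x ^ 2 ≠ negOne
  · obtain ⟨x, hx, hx1, hx2⟩ := hB
    refine ⟨x ^ 2, Y.pow_mem hx 2, ?_, hx1, hx2, ?_⟩
    · rw [pow_two]; exact sq_mem_Sk k x (hle hx)
    · intro y hy
      have hyx : y * x * y⁻¹ ∈ Y := Y.mul_mem (Y.mul_mem hy hx) (Y.inv_mem hy)
      have e : y * x ^ 2 * y⁻¹ = (y * x * y⁻¹) ^ 2 := by rw [pow_two, pow_two]; group
      have hc : (y * x ^ 2 * y⁻¹) * x ^ 2 = x ^ 2 * (y * x ^ 2 * y⁻¹) := by
        rw [e]; exact hsq _ hyx _ hx
      exact conj_eq_or p h2 (x ^ 2) y (hord _ (Y.pow_mem hx 2)) hx1 hx2 hc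
  · push Not at hB
    have hsqc : ∀ g ∈ Y, g * g = 1 ∨ g * g = negOne := by
      intro g hg
      by_cases h1 : g ^ 2 = 1
      · left; rw [← pow_two]; exact h1
      · right; rw [← pow_two]; exact hB g hg h1
    have hcen : ∀ g ∈ Y, g * g = 1 → g * a₀ = a₀ * g := by
      intro g _ hgg
      rcases sq_eq_one h2 g hgg with h | h
      · rw [h]; simp
      · rw [h]; exact negOne_comm a₀
    have haa : a₀ * a₀ = negOne := by
      rcases hsqc a₀ ha₀Y with h | h
      · rcases sq_eq_one h2 a₀ h with h' | h'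
        · exact absurd h' ha₀1
        · exact absurd h' ha₀2
      · exact h
    refine ⟨a₀, ha₀Y, ha₀S, ha₀1, ha₀2, ?_⟩
    intro y hy
    rcases hsqc y hy with hyy | hyy
    · left
      exact (conj_eq_iff a₀ y).2 (hcen y hy hyy)
    · rcases hsqc (y * a₀) (Y.mul_mem hy ha₀Y) with hya | hya
      · left
        have h1 := hcen (y * a₀) (Y.mul_mem hy ha₀Y) hya
        have h3 : y * a₀ = a₀ * y := by
          have h4 : y * a₀ * a₀ = a₀ * y * a₀ := by
            rw [mul_assoc a₀ y a₀]; exact h1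
          exact mul_right_cancel h4
        exact (conj_eq_iff a₀ y).2 h3
      · right
        have h1 : y * a₀ * (y * a₀) = y * y := by rw [hya, hyy]
        have h3 : a₀ * y * a₀ = y := by
          have h4 : y * (a₀ * y * a₀) = y * y := by
            rw [← h1]; group
          exact mul_left_cancel h4
        have h5 : y * a₀ = a₀⁻¹ * y := by
          rw [eq_inv_mul_iff_mul_eq, ← mul_assoc]; exact h3
        rw [h5]; group

/-- **The dihedral case.** -/
theorem case_dih {F : Type*} [Field F] [Fintype F] (p : ℕ) [Fact p.Prime] [CharP F p]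
    (h2 : (2 : F) ≠ 0)
    (k : Subfield F) (Y : Subgroup SL(2, F)) (hY : MaxIn k Y) (hp : ¬ p ∣ Nat.card Y)
    (hsq : ∀ x ∈ Y, ∀ y ∈ Y, x ^ 2 * y ^ 2 = y ^ 2 * x ^ 2) :
    Nat.card Y ≤ 4 ∨ Nonempty (Y.map proj ≃* DihedralGroup (Nat.card k - 1)) ∨
      Nonempty (Y.map proj ≃* DihedralGroup (Nat.card k + 1)) := by
  classical
  haveI : Finite SL(2, F) := finite_SL
  haveI : Fintype k := Fintype.ofFinite k
  haveI : Finite (Matrix.ProjectiveSpecialLinearGroup (Fin 2) F) :=
    Finite.of_surjective _ proj_surj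
  have hpp : p.Prime := Fact.out
  have hp2 : p ≠ 2 := by
    rintro rfl
    apply h2
    have := CharP.cast_eq_zero F 2
    exact_mod_cast this
  obtain ⟨n, -, hn⟩ := FiniteField.card F p
  have hodd : Odd (Fintype.card F) := by
    rw [hn]
    exact (hpp.odd_of_ne_two hp2).pow
  have hkodd : Odd (Fintype.card k) := by
    rw [Nat.odd_iff]; exact card_subfield_odd hodd k
  have hcardY := card_inf_Sk h2 k Y hY.le hY.not_le
  by_cases hX0 : ∀ x ∈ Y, x ∈ Sk k → x = 1 ∨ x = negOne
  · left
    have hle : (Y ⊓ Sk k : Subgroup SL(2, F)) ≤ Zc := by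
      rintro x ⟨hxY, hxS⟩
      exact hX0 x hxY hxS
    have h1 := Subgroup.card_le_of_le hle
    rw [card_Zc h2] at h1
    omega
  · right
    push Not at hX0
    obtain ⟨a₀, ha₀Y, ha₀S, ha₀1, ha₀2⟩ := hX0
    obtain ⟨a, haY, haS, ha1, ha2, hYN⟩ :=
      exists_norInv p h2 k Y hY.le hp hsq a₀ ha₀Y ha₀S ha₀1 ha₀2
    have hao : (orderOf a).Coprime p := coprime_of p Y hp a haY
    -- maximality
    have hYeq : Y = NorInv a ⊓ Pk k := by
      rcases hY.max (NorInv a ⊓ Pk k) (le_inf hYN hY.le) inf_le_right with h | h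
      · exact h.symm
      · exfalso
        have hPle : Pk k ≤ NorInv a := by rw [← h]; exact inf_le_left
        have hpk : p ∣ Nat.card k := by
          obtain ⟨m, hm⟩ := exists_pow k
          have h1 : p ∣ Nat.card k ^ m := by
            rw [← hm, Nat.card_eq_fintype_card, hn]
            exact dvd_pow_self p n.ne_zero
          exact hpp.dvd_of_dvd_pow h1
        have hpS : p ∣ Nat.card (Sk k) := by
          rw [card_Sk]; exact Dvd.dvd.mul_right hpk _
        exact not_le_norInv_of_dvd p h2 (Pk k)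
          (hpS.trans (Subgroup.card_dvd_of_le (Sk_le_Pk k))) a hao ha1 ha2 hPle
    -- descent to `SL(2, k)`
    obtain ⟨a', ha'⟩ := exists_emb k a haS
    have h2k : (2 : k) ≠ 0 := by
      intro h
      apply h2
      have := congrArg (Subtype.val : k → F) h
      exact this
    have htr : (a.1 0 0 + a.1 1 1) ^ 2 ≠ 4 := tr_sq_ne_four p h2 a hao ha1 ha2
    have htr' : (a'.1 0 0 + a'.1 1 1) ^ 2 ≠ 4 := by
      intro h
      apply htr
      rw [← ha', emb_entry, emb_entry]
      have := congrArg (Subtype.val : k → F) h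
      exact this
    obtain ⟨n', hn'⟩ := exists_inverter hkodd a' htr'
    have hsqa : a * a ≠ 1 := by
      intro h''
      rcases sq_eq_one h2 a h'' with h1 | h1
      · exact ha1 h1
      · exact ha2 h1
    have hne' : a' ≠ a'⁻¹ := by
      intro h
      have h' : a' * a' = 1 := by
        calc a' * a' = a' * a'⁻¹ := by rw [← h]
          _ = 1 := mul_inv_cancel a'
      apply hsqa
      rw [← ha', ← map_mul, h', map_one]
    haveI : Finite SL(2, k) := finite_SL
    have hcardN := card_norInv_eq a' n' hn' hne'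
    have hcen := card_centralizer_cases h2k a' htr'
    have hinf : (Y ⊓ Sk k : Subgroup SL(2, F)) = (NorInv a').map (emb k) := by
      ext z
      constructor
      · rintro ⟨hzY, hzS⟩
        obtain ⟨z', rfl⟩ := exists_emb k z hzS
        refine ⟨z', ?_, rfl⟩
        have hzN : emb k z' ∈ NorInv a := hYN hzY
        rcases mem_norInv.1 hzN with h | h
        · left
          apply emb_injective k
          rw [map_mul, map_mul, map_inv, ha']; exact h
        · right
          apply emb_injective k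
          rw [map_mul, map_mul, map_inv, map_inv, ha']; exact h
      · rintro ⟨z', hz', rfl⟩
        have hS : emb k z' ∈ Sk k := emb_mem k z'
        refine ⟨?_, hS⟩
        rw [hYeq]
        refine ⟨?_, Sk_le_Pk k hS⟩
        rcases mem_norInv.1 hz' with h | h
        · left
          rw [← ha', ← map_inv, ← map_mul, ← map_mul, h]
        · right
          rw [← ha', ← map_inv, ← map_mul, ← map_mul, h, map_inv]
    rw [hinf, Subgroup.card_map_of_injective (emb_injective k), hcardN] at hcardY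
    -- an inverting element of `Y`
    obtain ⟨nn, hnn⟩ : ∃ nn, nn = emb k n' := ⟨_, rfl⟩
    have hnna : nn * a * nn⁻¹ = a⁻¹ := by
      rw [hnn, ← ha', ← map_inv, ← map_mul, ← map_mul, hn', map_inv]
    have hnnY : nn ∈ Y := by
      rw [hYeq]
      exact ⟨Or.inr hnna, by rw [hnn]; exact Sk_le_Pk k (emb_mem k n')⟩
    -- the image in `PSL(2, F)`
    have hcomap : (Y.map proj).comap proj = Y := by
      apply Subgroup.comap_map_eq_self
      intro x hx
      rw [MonoidHom.mem_ker] at hx
      rcases (proj_eq_one_iff x).1 hx with rfl | rfl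
      · exact Y.one_mem
      · exact hY.neg
    have hcardH : Nat.card Y = 2 * Nat.card (Y.map proj) := by
      have := card_comap h2 (Y.map proj)
      rwa [hcomap] at this
    obtain ⟨k₀, -, hk₀⟩ := case_sqcomm p h2 rfl (Y.map proj) (by rw [hcomap]; exact hp)
      (by rw [hcomap]; exact hsq)
    rcases hk₀ with ⟨hcyc, -⟩ | ⟨⟨φ⟩⟩
    · exfalso
      obtain ⟨g, hg⟩ := IsCyclic.exists_generator (α := Y.map proj)
      obtain ⟨g₀, hg₀Y, hg₀⟩ := Subgroup.mem_map.1 g.2
      have key : ∀ y ∈ Y, ∃ i : ℤ, y = g₀ ^ i ∨ y = negOne * g₀ ^ i := by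
        intro y hy
        obtain ⟨i, hi⟩ := Subgroup.mem_zpowers_iff.1 (hg ⟨proj y, Subgroup.mem_map_of_mem _ hy⟩)
        refine ⟨i, ?_⟩
        have h1 : proj (g₀ ^ i) = proj y := by
          have h3 := congrArg Subtype.val hi
          rw [Subgroup.coe_zpow] at h3
          rw [map_zpow, hg₀]
          exact h3
        rcases (proj_eq_iff (g₀ ^ i) y).1 h1 with h | h
        · left; exact h.symm
        · right; rw [h, ← mul_assoc, negOne_mul_negOne, one_mul]
      obtain ⟨i, hi⟩ := key a haY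
      obtain ⟨j, hj⟩ := key nn hnnY
      have hcomm : nn * a = a * nn := by
        have c1 : Commute (g₀ ^ j) (g₀ ^ i) := (Commute.refl g₀).zpow_zpow j i
        have cn : ∀ x : SL(2, F), Commute negOne x := fun x => negOne_comm x
        rcases hi with hi | hi <;> rcases hj with hj | hj <;> rw [hi, hj]
        · exact c1.eq
        · exact ((cn _).mul_left c1).eq
        · exact ((cn _).symm.mul_right c1).eq
        · exact ((cn _).mul_left ((cn _).symm.mul_right c1)).eq
      have h5 : a = a⁻¹ := by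
        rw [← hnna, hcomm, mul_inv_cancel_right]
      apply hsqa
      calc a * a = a * a⁻¹ := by rw [← h5]
        _ = 1 := mul_inv_cancel a
    · have h1 : Nat.card (Y.map proj) = 2 * k₀ := by
        rw [Nat.card_congr φ.toEquiv, DihedralGroup.nat_card]
      rcases hcen with h | h
      · left
        have hk : k₀ = Nat.card k - 1 := by
          rw [Nat.card_eq_fintype_card]; omega
        rw [← hk]; exact ⟨φ⟩
      · right
        have hk : k₀ = Nat.card k + 1 := by
          rw [Nat.card_eq_fintype_card]; omega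
        rw [← hk]; exact ⟨φ⟩

end Cfsg.Agent.Lib.Helper47.PgDih
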