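import Mathlib
import Cfsg.Agent.Lib.Helper47.FrakH
import Cfsg.Agent.Lib.Helper47.PClosed

set_option autoImplicit false

namespace Cfsg.Agent.Lib.Helper47.QuotP

open Cfsg Cfsg.Agent.Lib.Helper47.Syl Cfsg.Agent.Lib.Helper47.Cent Cfsg.Agent.Lib.Helper47.PRes
  Cfsg.Agent.Lib.Helper47.FrakH
open scoped commutatorElement

variable {G : Type*} [Group G]

/-- `O^p(G/D)` is the image of `O^p(G)` -/
theorem pResidual_quotient [Finite G] {p : ℕ} [Fact p.Prime] (D : Subgroup G) [D.Normal] :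
    pResidual p (G ⧸ D) = (pResidual p G).map (QuotientGroup.mk' D) := by
  apply le_antisymm
  · unfold pResidual
    rw [Subgroup.closure_le]
    intro yb hyb
    have hc : (orderOf yb).Coprime p := hyb
    obtain ⟨y, rfl⟩ := QuotientGroup.mk'_surjective D yb
    obtain ⟨k, hk⟩ := exists_pow_coprime (p := p) y
    have hco : (p ^ k).Coprime (orderOf ((QuotientGroup.mk' D) y)) :=
      Nat.Coprime.pow_left k hc.symm
    obtain ⟨m, hm⟩ := exists_pow_eq_self_of_coprime hco
    refine ⟨(y ^ p ^ k) ^ m, ?_, ?_⟩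
    · apply Subgroup.subset_closure
      show (orderOf ((y ^ p ^ k) ^ m)).Coprime p
      exact Nat.Coprime.coprime_dvd_left (orderOf_pow_dvd m) hk
    · rw [map_pow, map_pow]
      exact hm
  · unfold pResidual
    rw [MonoidHom.map_closure]
    apply Subgroup.closure_mono
    rintro _ ⟨x, hx, rfl⟩
    have hc : (orderOf x).Coprime p := hx
    show (orderOf ((QuotientGroup.mk' D) x)).Coprime p
    exact Nat.Coprime.coprime_dvd_left (orderOf_map_dvd _ x) hc

/-- `O_p(G/D)` is the image of `O_p(G)` for a normal `p`-subgroup `D` -/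
theorem pCore_quotient {p : ℕ} (D : Subgroup G) [D.Normal] (hD : IsPGroup p D) :
    pCore p (G ⧸ D) = (pCore p G).map (QuotientGroup.mk' D) := by
  have hsurj := QuotientGroup.mk'_surjective D
  apply le_antisymm
  · have hn : ((pCore p (G ⧸ D)).comap (QuotientGroup.mk' D)).Normal :=
      (Basic.pCore_normal p (G ⧸ D)).comap _
    have hp : IsPGroup p ((pCore p (G ⧸ D)).comap (QuotientGroup.mk' D)) := by
      apply (Basic.pCore_isPGroup p (G ⧸ D)).comap_of_ker_isPGroup
      rw [QuotientGroup.ker_mk']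
      exact hD
    have h1 := Subgroup.map_mono (f := QuotientGroup.mk' D) (Basic.le_pCore hn hp)
    rwa [Subgroup.map_comap_eq_self_of_surjective hsurj] at h1
  · exact Basic.le_pCore ((Basic.pCore_normal p G).map _ hsurj) ((Basic.pCore_isPGroup p G).map _)

/-- `N` is `p`-closed iff its image modulo a normal `p`-subgroup is -/
theorem isPClosed_map_iff [Finite G] {p : ℕ} [Fact p.Prime] (D : Subgroup G) [D.Normal]
    (hD : IsPGroup p D) (N : Subgroup G) :
    IsPClosed p ↥(N.map (QuotientGroup.mk' D)) ↔ IsPClosed p ↥N := by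
  obtain ⟨T, hT⟩ := exists_isSyl p N
  have hS : IsSyl p (T.map (QuotientGroup.mk' D)) (N.map (QuotientGroup.mk' D)) := by
    refine ⟨Subgroup.map_mono hT.1, hT.2.1.map _, fun Qb hQb hTQ hQN => ?_⟩
    have hQp : IsPGroup p (Qb.comap (QuotientGroup.mk' D)) := by
      apply hQb.comap_of_ker_isPGroup
      rw [QuotientGroup.ker_mk']
      exact hD
    have h1 := hT.2.2 (Qb.comap (QuotientGroup.mk' D) ⊓ N) (hQp.to_le inf_le_left)
      (le_inf (fun t ht => hTQ (Subgroup.mem_map_of_mem _ ht)) hT.1) inf_le_right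
    apply le_antisymm _ hTQ
    intro yb hyb
    obtain ⟨n, hn, rfl⟩ := hQN hyb
    have h2 : n ∈ Qb.comap (QuotientGroup.mk' D) ⊓ N := ⟨hyb, hn⟩
    rw [h1] at h2
    exact Subgroup.mem_map_of_mem _ h2
  constructor
  · intro h
    have hn := (isPClosed_iff _).mp h _ hS
    apply isPClosed_of_isSyl_normal hT
    have hDN : D ⊓ N ≤ T :=
      (le_pCoreOf inf_le_right (fun n hn => normalizer_inf_le _ _
        ⟨by rw [Subgroup.normalizer_eq_top]; trivial, Subgroup.le_normalizer hn⟩)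
        (hD.to_le inf_le_left)).trans hT.pCoreOf_le
    intro n hn'
    apply mem_normalizer_of_map_conj_le
    rintro _ ⟨t, ht, rfl⟩
    have h1 : (MulAut.conj n).toMonoidHom t = n * t * n⁻¹ := by simp [MulAut.conj_apply]
    rw [h1]
    have h2 := conj_mem_of_mem_normalizer (hn (Subgroup.mem_map_of_mem _ hn'))
      (Subgroup.mem_map_of_mem (QuotientGroup.mk' D) ht)
    rw [← map_mul, ← map_inv, ← map_mul] at h2
    obtain ⟨t', ht', h3⟩ := h2
    have h4 : t'⁻¹ * (n * t * n⁻¹) ∈ D := QuotientGroup.eq.mp h3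
    have h5 : t'⁻¹ * (n * t * n⁻¹) ∈ N :=
      N.mul_mem (N.inv_mem (hT.1 ht')) (N.mul_mem (N.mul_mem hn' (hT.1 ht)) (N.inv_mem hn'))
    have h6 := T.mul_mem ht' (hDN ⟨h4, h5⟩)
    have h7 : t' * (t'⁻¹ * (n * t * n⁻¹)) = n * t * n⁻¹ := by group
    rwa [h7] at h6
  · intro h
    have hn := (isPClosed_iff _).mp h _ hT
    apply isPClosed_of_isSyl_normal hS
    exact (Subgroup.map_mono hn).trans (Subgroup.le_normalizer_map _)

/-- the whole group is `p`-closed iff its quotient by a normal `p`-subgroup is -/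
theorem isPClosed_quotient_iff [Finite G] {p : ℕ} [Fact p.Prime] (D : Subgroup G) [D.Normal]
    (hD : IsPGroup p D) : IsPClosed p (G ⧸ D) ↔ IsPClosed p G := by
  have hsurj := QuotientGroup.mk'_surjective D
  have h1 := isPClosed_map_iff D hD ⊤
  have htop : (⊤ : Subgroup G).map (QuotientGroup.mk' D) = ⊤ :=
    Subgroup.map_top_of_surjective _ hsurj
  constructor
  · intro h
    have h2 : IsPClosed p ↥((⊤ : Subgroup G).map (QuotientGroup.mk' D)) :=
      PClosed.isPClosed_of_mulEquiv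
        ((Subgroup.topEquiv.symm).trans (MulEquiv.subgroupCongr htop.symm)) h
    exact PClosed.isPClosed_of_mulEquiv Subgroup.topEquiv (h1.mp h2)
  · intro h
    have h2 := h1.mpr (PClosed.isPClosed_of_mulEquiv Subgroup.topEquiv.symm h)
    exact PClosed.isPClosed_of_mulEquiv
      ((MulEquiv.subgroupCongr htop).trans Subgroup.topEquiv) h2

theorem pResidual_le_of_quotient_le [Finite G] {p : ℕ} [Fact p.Prime] (D : Subgroup G)
    [D.Normal] (hD : IsPGroup p D) {N : Subgroup G} [hN : N.Normal]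
    (h : pResidual p (G ⧸ D) ≤ N.map (QuotientGroup.mk' D)) : pResidual p G ≤ N := by
  rw [pResidual_quotient D, Subgroup.map_le_map_iff, QuotientGroup.ker_mk'] at h
  unfold pResidual
  rw [Subgroup.closure_le]
  intro x hx
  have hc : (orderOf x).Coprime p := hx
  refine mem_of_coprime_of_mem_sup hD (fun d _ => ?_) (h (Subgroup.subset_closure hx)) hc
  rw [Subgroup.normalizer_eq_top]; trivial

theorem comm_top_le_iff {p : ℕ} (D : Subgroup G) [D.Normal] (hD : IsPGroup p D)
    (N : Subgroup G) :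
    ⁅N.map (QuotientGroup.mk' D), (⊤ : Subgroup (G ⧸ D))⁆ ≤ pCore p (G ⧸ D) ↔
      ⁅N, (⊤ : Subgroup G)⁆ ≤ pCore p G := by
  have hsurj := QuotientGroup.mk'_surjective D
  have hDle : D ≤ pCore p G := Basic.le_pCore inferInstance hD
  rw [pCore_quotient D hD, ← Subgroup.map_top_of_surjective _ hsurj, ← Subgroup.map_commutator,
    Subgroup.map_le_map_iff, QuotientGroup.ker_mk', sup_eq_left.mpr hDle]

/-- (strong) `p`-irreducibility passes to and from the quotient by a normal `p`-subgroup -/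
theorem irreducible_quotient_iff [Finite G] {p : ℕ} [Fact p.Prime] (D : Subgroup G) [D.Normal]
    (hD : IsPGroup p D) :
    (IsPIrreducible p G ↔ IsPIrreducible p (G ⧸ D)) ∧
      (IsStronglyPIrreducible p G ↔ IsStronglyPIrreducible p (G ⧸ D)) := by
  have hsurj := QuotientGroup.mk'_surjective D
  have hQ1 := isPClosed_quotient_iff D hD
  have hmap : ∀ Nb : Subgroup (G ⧸ D),
      (Nb.comap (QuotientGroup.mk' D)).map (QuotientGroup.mk' D) = Nb :=
    fun Nb => Subgroup.map_comap_eq_self_of_surjective hsurj Nb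
  refine ⟨⟨?_, ?_⟩, ⟨?_, ?_⟩⟩
  · rintro ⟨hnc, hirr⟩
    refine ⟨fun h => hnc (hQ1.mp h), fun Nb hNb hNbc => ?_⟩
    have h1 : ¬ IsPClosed p ↥(Nb.comap (QuotientGroup.mk' D)) := fun h => hNbc
      (PClosed.isPClosed_of_mulEquiv (MulEquiv.subgroupCongr (hmap Nb))
        ((isPClosed_map_iff D hD _).mpr h))
    have h2 := hirr _ (hNb.comap _) h1
    rw [pResidual_quotient D, ← hmap Nb]
    exact Subgroup.map_mono h2
  · rintro ⟨hnc, hirr⟩
    refine ⟨fun h => hnc (hQ1.mpr h), fun N hN hNc => ?_⟩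
    have h1 : ¬ IsPClosed p ↥(N.map (QuotientGroup.mk' D)) := fun h =>
      hNc ((isPClosed_map_iff D hD N).mp h)
    exact pResidual_le_of_quotient_le D hD (hirr _ (hN.map _ hsurj) h1)
  · rintro ⟨hnc, hirr⟩
    refine ⟨fun h => hnc (hQ1.mp h), fun Nb hNb hNbc => ?_⟩
    have h1 : ¬ ⁅Nb.comap (QuotientGroup.mk' D), (⊤ : Subgroup G)⁆ ≤ pCore p G := fun h =>
      hNbc (by
        have := (comm_top_le_iff D hD (Nb.comap (QuotientGroup.mk' D))).mpr h
        rwa [hmap Nb] at this)
    have h2 := hirr _ (hNb.comap _) h1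
    rw [pResidual_quotient D, ← hmap Nb]
    exact Subgroup.map_mono h2
  · rintro ⟨hnc, hirr⟩
    refine ⟨fun h => hnc (hQ1.mpr h), fun N hN hNc => ?_⟩
    have h1 : ¬ ⁅N.map (QuotientGroup.mk' D), (⊤ : Subgroup (G ⧸ D))⁆ ≤ pCore p (G ⧸ D) :=
      fun h => hNc ((comm_top_le_iff D hD N).mp h)
    exact pResidual_le_of_quotient_le D hD (hirr _ (hN.map _ hsurj) h1)

end Cfsg.Agent.Lib.Helper47.QuotP
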