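import Mathlib
import Cfsg.Agent.Lib.Helper18.R59Stmt

/-!
S2359, piece `FIN`: from the fusion argument `ABS`, the centraliser of `a` is abelian of
order `n`.
-/

set_option autoImplicit false

namespace Cfsg.Agent.Lib.Helper47.R59FIN

open Cfsg.Agent.Lib.Helper18.R59Stmt

universe u

theorem main : FIN.{u} := by
  intro hABS G _ _ a n ⟨t, ht2, ht1, hta⟩ hLoc h3
  obtain ⟨hab, hcard, t', ht'2, ht'1, ht't, ht'a, ht'tc, hV⟩ := hLoc t ht2 ht1 hta
  have hinv : ∀ v : G, v * v = 1 → v ≠ 1 → v * a = a * v → ∀ x y : G, x * a = a * x →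
      x * v = v * x → y * a = a * y → y * v = v * y → x * y = y * x := by
    intro v hv2 hv1 hva x y hxa hxv hya hyv
    exact (hLoc v hv2 hv1 hva).1 x y hxa hxv hya hyv
  have hcentral : ∀ x : G, x * a = a * x → x * t = t * x :=
    hABS G a t t' ht2 ht1 hta ht'2 ht'1 ht't ht'a ht'tc hV hinv h3
  refine ⟨?_, ?_⟩
  · intro x y hx hy
    exact hab x y hx (hcentral x hx) hy (hcentral y hy)
  · rw [← hcard]
    apply Nat.card_congr
    exact
      { toFun := fun x => ⟨x.1, x.2, hcentral x.1 x.2⟩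
        invFun := fun x => ⟨x.1, x.2.1⟩
        left_inv := fun _ => rfl
        right_inv := fun _ => rfl }

end Cfsg.Agent.Lib.Helper47.R59FIN
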