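import Mathlib
import Cfsg.Agent.Lib.Helper42.ReeAutStmt
import Cfsg.Agent.Lib.Helper47.ReeAutNU

/-!
# S2127 piece GEOB (helper47)

`U` is transitive on the conjugates of `U` other than `U`: the cosets of `N = N(U)` are `N`
and the `u n N`, `u ∈ U` (count: the index is `q ^ 3 + 1`).
-/

set_option autoImplicit false

namespace Cfsg.Agent.Lib.Helper47.ReeAutGEOB

open Cfsg.Agent.Lib.Helper42.ReeAutStmt Cfsg.Agent.Lib.Helper42.ReeSpStmt
open Cfsg.Agent.Lib.Helper47.ReeAutNU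

universe u v

theorem main : Cfsg.Agent.Lib.Helper42.ReeAutStmt.GeoBP.{u, v} := by
  intro G _ _ U H A K _ _ m hAx hSyl n hn g
  classical
  obtain ⟨hcardN, -, -⟩ := hSyl
  obtain ⟨q, hq⟩ : ∃ q : ℕ, q = qq m := ⟨_, rfl⟩
  have hcardU : Nat.card U = q ^ 3 := by rw [hq]; exact hAx.cardU
  have hcardG : Nat.card G = q ^ 3 * (q - 1) * (q ^ 3 + 1) := by rw [hq]; exact hAx.card
  rw [← hq] at hcardN
  have hq3 : 3 ∣ q := by
    rw [hq]
    exact dvd_pow_self 3 (by omega)
  have hqpos : 0 < q := by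
    rw [hq]
    positivity
  have hq1 : 0 < q - 1 := by
    obtain ⟨a, ha⟩ := hq3
    omega
  have hcop : Nat.Coprime 9 (q - 1) := by
    have h3 : Nat.Coprime 3 (q - 1) := by
      rw [Nat.Prime.coprime_iff_not_dvd Nat.prime_three]
      intro h
      obtain ⟨a, ha⟩ := hq3
      obtain ⟨b, hb⟩ := h
      omega
    have e9 : (9 : ℕ) = 3 ^ 2 := by norm_num
    rw [e9]
    exact Nat.Coprime.pow_left 2 h3
  obtain ⟨N, hNdef⟩ : ∃ N : Subgroup G, N = Subgroup.normalizer (U : Set G) := ⟨_, rfl⟩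
  rw [← hNdef] at hcardN
  have hmemN : ∀ x, NU U x ↔ x ∈ N := by
    intro x
    rw [hNdef]
    exact nu_iff_mem_normalizer U
  have hUN : U ≤ N := by
    rw [hNdef]
    exact Subgroup.le_normalizer
  have hnorm : (U.subgroupOf N).Normal := by
    rw [hNdef]
    exact Subgroup.normal_in_normalizer
  -- `3`-elements of `N` lie in `U`
  have h3el : ∀ x ∈ N, x ^ 9 = 1 → x ∈ U := by
    intro x hx hx9
    have hcardQ : Nat.card (↥N ⧸ U.subgroupOf N) = q - 1 := by
      have h1 := Subgroup.card_eq_card_quotient_mul_card_subgroup (U.subgroupOf N)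
      have h2 : Nat.card (U.subgroupOf N) = Nat.card U :=
        Nat.card_congr (Subgroup.subgroupOfEquivOfLe hUN).toEquiv
      rw [h2, hcardU, hcardN] at h1
      have hpos : 0 < q ^ 3 := by positivity
      have h3 : q ^ 3 * (q - 1) = q ^ 3 * Nat.card (↥N ⧸ U.subgroupOf N) := by
        rw [h1]
        ring
      exact (Nat.eq_of_mul_eq_mul_left hpos h3).symm
    obtain ⟨xb, hxb⟩ : ∃ xb : ↥N ⧸ U.subgroupOf N, xb = QuotientGroup.mk ⟨x, hx⟩ := ⟨_, rfl⟩
    have hxb9 : xb ^ 9 = 1 := by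
      rw [hxb, ← QuotientGroup.mk_pow]
      have e : (⟨x, hx⟩ : ↥N) ^ 9 = 1 := Subtype.ext hx9
      rw [e]
      rfl
    have hxbq : xb ^ (q - 1) = 1 := by
      rw [← hcardQ]
      exact pow_card_eq_one'
    have hxb1 : xb = 1 := by
      have h1 : orderOf xb ∣ 9 := orderOf_dvd_of_pow_eq_one hxb9
      have h2 : orderOf xb ∣ q - 1 := orderOf_dvd_of_pow_eq_one hxbq
      have h3 : orderOf xb ∣ Nat.gcd 9 (q - 1) := Nat.dvd_gcd h1 h2
      rw [hcop] at h3
      exact orderOf_eq_one_iff.1 (Nat.dvd_one.1 h3)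
    rw [hxb] at hxb1
    have h4 : (⟨x, hx⟩ : ↥N) ∈ U.subgroupOf N := (QuotientGroup.eq_one_iff _).1 hxb1
    exact Subgroup.mem_subgroupOf.1 h4
  have hcardGN : Nat.card (G ⧸ N) = q ^ 3 + 1 := by
    have h1 := Subgroup.card_eq_card_quotient_mul_card_subgroup N
    rw [hcardG, hcardN] at h1
    have hpos : 0 < q ^ 3 * (q - 1) := by positivity
    have h3 : q ^ 3 * (q - 1) * (q ^ 3 + 1) = q ^ 3 * (q - 1) * Nat.card (G ⧸ N) := by
      rw [h1]
      ring
    exact (Nat.eq_of_mul_eq_mul_left hpos h3).symm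
  have hnN : n ∉ N := fun h => hn ((hmemN n).2 h)
  obtain ⟨F, hFnone, hFsome⟩ : ∃ F : Option ↥U → G ⧸ N,
      F none = ((1 : G) : G ⧸ N) ∧ ∀ w : ↥U, F (some w) = ((w.1 * n : G) : G ⧸ N) :=
    ⟨fun o => match o with
      | none => ((1 : G) : G ⧸ N)
      | some w => ((w.1 * n : G) : G ⧸ N), rfl, fun _ => rfl⟩
  have hne1 : ∀ w : ↥U, ((1 : G) : G ⧸ N) ≠ ((w.1 * n : G) : G ⧸ N) := by
    intro w h
    have h1 : (1 : G)⁻¹ * (w.1 * n) ∈ N := QuotientGroup.eq.1 h
    rw [inv_one, one_mul] at h1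
    have h2 := N.mul_mem (N.inv_mem (hUN w.2)) h1
    rw [inv_mul_cancel_left] at h2
    exact hnN h2
  have hFinj : Function.Injective F := by
    intro o1 o2 h
    cases o1 with
    | none =>
      cases o2 with
      | none => rfl
      | some u2 =>
        rw [hFnone, hFsome] at h
        exact absurd h (hne1 u2)
    | some u1 =>
      cases o2 with
      | none =>
        rw [hFnone, hFsome] at h
        exact absurd h.symm (hne1 u1)
      | some u2 =>
        rw [hFsome, hFsome] at h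
        have h1 : (u1.1 * n)⁻¹ * (u2.1 * n) ∈ N := QuotientGroup.eq.1 h
        have hw : u1.1⁻¹ * u2.1 ∈ U := U.mul_mem (U.inv_mem u1.2) u2.2
        have e : (u1.1 * n)⁻¹ * (u2.1 * n) = n⁻¹ * (u1.1⁻¹ * u2.1) * n⁻¹⁻¹ := by group
        rw [e] at h1
        have h9 : (n⁻¹ * (u1.1⁻¹ * u2.1) * n⁻¹⁻¹) ^ 9 = 1 := by
          rw [conj_pow, hAx.exp9 _ hw, mul_one, mul_inv_cancel]
        have h2 := h3el _ h1 h9
        by_contra hne
        have hw1 : u1.1⁻¹ * u2.1 ≠ 1 := by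
          intro h0
          apply hne
          rw [inv_mul_eq_one] at h0
          exact congrArg some (Subtype.ext h0)
        have h3 : NU U n⁻¹ := hAx.ti n⁻¹ ⟨_, hw, hw1, h2⟩
        have h4 := nu_inv U h3
        rw [inv_inv] at h4
        exact hn h4
  have hFbij : Function.Bijective F :=
    hFinj.bijective_of_nat_card_le (by rw [hcardGN, Finite.card_option, hcardU])
  obtain ⟨o, ho⟩ := hFbij.2 (g : G ⧸ N)
  cases o with
  | none =>
    left
    rw [hFnone] at ho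
    have h1 : (1 : G)⁻¹ * g ∈ N := QuotientGroup.eq.1 ho
    rw [inv_one, one_mul] at h1
    exact (hmemN g).2 h1
  | some w =>
    right
    refine ⟨w.1, w.2, ?_⟩
    rw [hFsome] at ho
    have h1 : (w.1 * n)⁻¹ * g ∈ N := QuotientGroup.eq.1 ho
    have e : (w.1 * n)⁻¹ * g = n⁻¹ * w.1⁻¹ * g := by group
    rw [e] at h1
    exact (hmemN _).2 h1
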