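import Mathlib
import Cfsg.Agent.Lib.Helper42.ReeAutStmt
import Cfsg.Agent.Lib.Helper47.ReeAutNU

/-!
# S2127 piece GLOB (helper47)

An automorphism of a simple group with the doubly transitive geometry `Geo` that fixes `U` and
`H` pointwise is trivial.
-/

set_option autoImplicit false

namespace Cfsg.Agent.Lib.Helper47.ReeAutGLOB

open Cfsg.Agent.Lib.Helper42.ReeAutStmt
open Cfsg.Agent.Lib.Helper47.ReeAutNU

universe u

theorem main : Cfsg.Agent.Lib.Helper42.ReeAutStmt.GlobP.{u} := by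
  intro G _ _ U H n hGeo hsimp γ hγU hγH
  have hγN : ∀ g, NU U g → γ g = g := by
    intro g hg
    obtain ⟨u, hu, h, hh, rfl⟩ := hGeo.nuB g hg
    rw [map_mul, hγU u hu, hγH h hh]
  have hγn : ¬ NU U (γ n) := by
    intro h
    have h1 : γ (γ n) = γ n := hγN _ h
    have h2 : γ n = n := γ.injective h1
    rw [h2] at h
    exact hGeo.n_not h
  obtain ⟨u, hu, hb⟩ : ∃ u ∈ U, NU U (n⁻¹ * u⁻¹ * γ n) := by
    rcases hGeo.trans (γ n) with h | h
    · exact absurd h hγn
    · exact h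
  obtain ⟨b, hbdef⟩ : ∃ b, b = n⁻¹ * u⁻¹ * γ n := ⟨_, rfl⟩
  rw [← hbdef] at hb
  have hγn_eq : γ n = u * n * b := by
    rw [hbdef]
    group
  have hu1 : u = 1 := by
    apply hGeo.fpf u hu
    intro h hh
    apply hGeo.stab
    · exact nu_mul U (nu_mul U (nu_inv U (nu_of_mem U hu)) (hGeo.hN h hh)) (nu_of_mem U hu)
    · have h1 : γ (n⁻¹ * h * n) = n⁻¹ * h * n := hγH _ (hGeo.n_H h hh)
      rw [map_mul, map_mul, map_inv, hγH h hh, hγn_eq] at h1
      have h2 : n⁻¹ * (u⁻¹ * h * u) * n = b * (n⁻¹ * h * n) * b⁻¹ := by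
        rw [← h1]
        group
      rw [h2]
      exact nu_mul U (nu_mul U hb (hGeo.hN _ (hGeo.n_H h hh))) (nu_inv U hb)
  have hγn2 : γ n = n * b := by rw [hγn_eq, hu1, one_mul]
  have hdiff : ∀ g, NU U (g⁻¹ * γ g) := by
    intro g
    rcases hGeo.trans g with h | ⟨u', hu', hb'⟩
    · rw [hγN g h, inv_mul_cancel]
      exact nu_one U
    · obtain ⟨b', hb'def⟩ : ∃ b', b' = n⁻¹ * u'⁻¹ * g := ⟨_, rfl⟩
      rw [← hb'def] at hb'
      have hg : g = u' * n * b' := by
        rw [hb'def]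
        group
      have hγg : γ g = u' * n * b * b' := by
        have h1 : γ g = γ (u' * n * b') := by rw [← hg]
        rw [h1, map_mul, map_mul, hγU u' hu', hγn2, hγN b' hb']
        group
      have e : g⁻¹ * γ g = b'⁻¹ * b * b' := by
        rw [hγg]
        have h1 : g⁻¹ = (u' * n * b')⁻¹ := by rw [← hg]
        rw [h1]
        group
      rw [e]
      exact nu_mul U (nu_mul U (nu_inv U hb') hb) hb'
  have hcore : ∀ x g, NU U (g * (x⁻¹ * γ x) * g⁻¹) := by
    intro x g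
    have h1 := hdiff (x * g⁻¹)
    have h2 := nu_inv U (hdiff g⁻¹)
    have h3 := nu_mul U h1 h2
    have e : g * (x⁻¹ * γ x) * g⁻¹ = (x * g⁻¹)⁻¹ * γ (x * g⁻¹) * (g⁻¹⁻¹ * γ g⁻¹)⁻¹ := by
      rw [map_mul]
      group
    rw [e]
    exact h3
  have hmemC : ∀ x, x⁻¹ * γ x ∈ (nuSub U).normalCore := fun x g => hcore x g
  have hCtop : (nuSub U).normalCore ≠ ⊤ := by
    intro h
    have h1 : n ∈ (nuSub U).normalCore := by
      rw [h]
      exact Subgroup.mem_top n
    exact hGeo.n_not ((nuSub U).normalCore_le h1)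
  have hCbot : (nuSub U).normalCore = ⊥ := by
    rcases hsimp.eq_bot_or_eq_top_of_normal (nuSub U).normalCore
      (Subgroup.normalCore_normal _) with h | h
    · exact h
    · exact absurd h hCtop
  apply MulEquiv.ext
  intro x
  have h1 := hmemC x
  rw [hCbot, Subgroup.mem_bot] at h1
  have h2 : γ x = x := by
    have h3 : x * (x⁻¹ * γ x) = x * 1 := by rw [h1]
    rw [mul_inv_cancel_left, mul_one] at h3
    exact h3
  rw [h2]
  rfl
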