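import Mathlib
import Cfsg.Agent.Lib.Helper18.ReeMultStmt

/-!
# S2113 piece MIXFORM (helper47)

A biadditive map invariant under `(a, b) ↦ (s a, s²/φ(s)³ b)` is trivial.
-/

set_option autoImplicit false

namespace Cfsg.Agent.Lib.Helper47.ReeMultMIXFORM

universe v w

theorem main : Cfsg.Agent.Lib.Helper18.ReeMultStmt.MIXFORM.{v, w} := by
  intro K _ φ M _ B h3 hφ hs hadd1 hadd2 hinv
  obtain ⟨s, hs3⟩ := hs
  have hs0 : s ≠ 0 := by
    rintro rfl
    apply hs3
    ring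
  have hs1 : 1 - s ≠ 0 := by
    intro h
    apply hs3
    have e : s = 1 := by linear_combination -h
    rw [e]
    ring
  have hs2 : 1 + s ≠ 0 := by
    intro h
    apply hs3
    have e : s = -1 := by linear_combination h
    rw [e]
    ring
  have hφ0 : ∀ t : K, t ≠ 0 → φ t ≠ 0 := fun t ht => (map_ne_zero φ).2 ht
  have hfs : s ^ 3 - φ s ^ 3 ≠ 0 := by
    intro h
    have h1 : (φ s - s) ^ 3 = 0 := by
      linear_combination (-1 : K) * h - (φ s ^ 2 * s - φ s * s ^ 2) * h3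
    have h2 : φ s = s := sub_eq_zero.1 (pow_eq_zero_iff (n := 3) (by norm_num) |>.1 h1)
    apply hs3
    have h4 := hφ s
    rw [h2, h2] at h4
    exact h4
  have hB0 : ∀ a, B a 0 = 1 := by
    intro a
    have h := hadd2 a 0 0
    rw [add_zero] at h
    have h' : B a 0 * 1 = B a 0 * B a 0 := by
      rw [mul_one]
      exact h
    exact (mul_left_cancel h').symm
  have hneg : ∀ a b, B a (-b) = (B a b)⁻¹ := by
    intro a b
    have h := hadd2 a b (-b)
    rw [add_neg_cancel, hB0] at h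
    exact eq_inv_of_mul_eq_one_right h.symm
  have hshift : ∀ t : K, t ≠ 0 → ∀ a b, B (t * a) b = B a (φ t ^ 3 / t ^ 2 * b) := by
    intro t ht a b
    have h := hinv t a (φ t ^ 3 / t ^ 2 * b) ht
    have e : t ^ 2 / φ t ^ 3 * (φ t ^ 3 / t ^ 2 * b) = b := by
      have h0 := hφ0 t ht
      field_simp
    rw [e] at h
    exact h
  obtain ⟨D, hD⟩ : ∃ D : K, D = φ (1 + s) ^ 3 / (1 + s) ^ 2 - 1 - φ s ^ 3 / s ^ 2 := ⟨_, rfl⟩
  have hkey : ∀ a b, B a (D * b) = 1 := by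
    intro a b
    have h1 : B ((1 + s) * a) b = B a b * B (s * a) b := by
      rw [add_mul, one_mul, hadd1]
    rw [hshift _ hs2, hshift _ hs0, ← hadd2] at h1
    have e : D * b = φ (1 + s) ^ 3 / (1 + s) ^ 2 * b + -(b + φ s ^ 3 / s ^ 2 * b) := by
      rw [hD]
      ring
    rw [e, hadd2, hneg, h1, mul_inv_cancel]
  have hDne : D ≠ 0 := by
    have e1 : D * (s ^ 2 * (1 + s) ^ 2) =
        (1 + φ s) ^ 3 * s ^ 2 - s ^ 2 * (1 + s) ^ 2 - φ s ^ 3 * (1 + s) ^ 2 := by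
      rw [hD, map_add, map_one]
      field_simp
    have e2 : (1 + φ s) ^ 3 * s ^ 2 - s ^ 2 * (1 + s) ^ 2 - φ s ^ 3 * (1 + s) ^ 2 =
        (1 - s) * (s ^ 3 - φ s ^ 3) := by
      linear_combination (s ^ 2 * φ s + s ^ 2 * φ s ^ 2 - s ^ 3 - s * φ s ^ 3) * h3
    intro h0
    rw [h0, zero_mul, e2] at e1
    rcases mul_eq_zero.1 e1.symm with h | h
    · exact hs1 h
    · exact hfs h
  intro a b
  have h := hkey a (D⁻¹ * b)
  rw [← mul_assoc, mul_inv_cancel₀ hDne, one_mul] at h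
  exact h
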