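import Mathlib
import Cfsg.Agent.Lib.Helper18.ReeMultStmt

/-!
# S2113 piece SQFORM (helper47)

A biadditive map invariant under simultaneous scaling by the nonzero squares is trivial
(characteristic 3, some `r ≠ 0` with `r⁸ ≠ 1`).
-/

set_option autoImplicit false

namespace Cfsg.Agent.Lib.Helper47.ReeMultSQFORM

universe v w

theorem main : Cfsg.Agent.Lib.Helper18.ReeMultStmt.SQFORM.{v, w} := by
  intro K _ M _ B h3 hr hadd1 hadd2 hinv
  obtain ⟨r, hr0, hr8⟩ := hr
  have hB0 : ∀ b, B 0 b = 1 := by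
    intro b
    have h := hadd1 0 0 b
    rw [add_zero] at h
    have h' : B 0 b * 1 = B 0 b * B 0 b := by
      rw [mul_one]
      exact h
    exact (mul_left_cancel h').symm
  have hc1 : 1 + r ≠ 0 := by
    intro h
    apply hr8
    have e : r = -1 := by linear_combination h
    rw [e]
    norm_num
  have hc2 : 1 - r ≠ 0 := by
    intro h
    apply hr8
    have e : r = 1 := by linear_combination -h
    rw [e]
    norm_num
  have hshift : ∀ s : K, s ≠ 0 → ∀ a b, B (s ^ 2 * a) b = B a ((s ^ 2)⁻¹ * b) := by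
    intro s hs a b
    have h := hinv s a ((s ^ 2)⁻¹ * b) hs
    rw [← mul_assoc, mul_inv_cancel₀ (pow_ne_zero 2 hs), one_mul] at h
    exact h
  obtain ⟨E, hEdef⟩ : ∃ E : K, E = ((1 + r) ^ 2)⁻¹ + ((1 - r) ^ 2)⁻¹ + 1 + (r ^ 2)⁻¹ :=
    ⟨_, rfl⟩
  have hkey : ∀ a b, B a (E * b) = 1 := by
    intro a b
    have hsum : (1 + r) ^ 2 * a + (1 - r) ^ 2 * a + a + r ^ 2 * a = 0 := by
      linear_combination (a * (1 + r ^ 2)) * h3
    have h1 : B ((1 + r) ^ 2 * a + (1 - r) ^ 2 * a + a + r ^ 2 * a) b = 1 := by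
      rw [hsum]
      exact hB0 b
    rw [hadd1, hadd1, hadd1, hshift _ hc1, hshift _ hc2, hshift _ hr0, ← hadd2, ← hadd2,
      ← hadd2] at h1
    have h2 : ((1 + r) ^ 2)⁻¹ * b + ((1 - r) ^ 2)⁻¹ * b + b + (r ^ 2)⁻¹ * b = E * b := by
      rw [hEdef]
      ring
    rw [h2] at h1
    exact h1
  have hE : E * (r ^ 2 * (1 - r ^ 2) ^ 2) = (r ^ 2 + 1) * (r ^ 4 + 1) := by
    rw [hEdef]
    have e : (1 - r ^ 2) = (1 - r) * (1 + r) := by ring
    rw [e]
    field_simp
    ring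
  have hE0 : E ≠ 0 := by
    intro h
    rw [h, zero_mul] at hE
    apply hr8
    linear_combination (-(r ^ 2 - 1)) * hE
  intro a b
  have h := hkey a (E⁻¹ * b)
  rw [← mul_assoc, mul_inv_cancel₀ hE0, one_mul] at h
  exact h
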