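import Mathlib
import Cfsg.Agent.Lib.Helper42.ReeSpStmt2
import Cfsg.Agent.Lib.Helper7.RHORBP

/-!
# S1158 (helper42's call), piece ORB2 (helper47)

`ReeSpStmt2.Orb2` is verbatim `Helper18.ReeHallStmt.OrbP`, proved by helper7 in
`Cfsg.Agent.Lib.Helper7.RHORBP`; this file re-exports it.
-/

set_option autoImplicit false

namespace Cfsg.Agent.Lib.Helper47.ReeSpORB2

universe u v

theorem main : Cfsg.Agent.Lib.Helper42.ReeSpStmt2.Orb2.{u, v} :=
  Cfsg.Agent.Lib.Helper7.RHORBP.main.{u, v}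

end Cfsg.Agent.Lib.Helper47.ReeSpORB2
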