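import Mathlib
import Cfsg.Agent.Lib.Helper42.ReeSpStmt2

/-!
# S1158 (helper42's call), piece TR3 (helper47)

Transport of the count of elements of order `3` from `↥(Up ⊓ R)` to `↥(Usub R Up)`.
-/

set_option autoImplicit false

namespace Cfsg.Agent.Lib.Helper47.ReeSpTR3

open Cfsg.Agent.Lib.Helper42.ReeSpStmt

universe u v

theorem main : Cfsg.Agent.Lib.Helper42.ReeSpStmt2.TR3.{u, v} := by
  intro Γ _ R D Up K _ _ m hraw
  have e : ↥(Usub R Up) ≃* ↥(Up ⊓ R) := Subgroup.subgroupOfEquivOfLe inf_le_right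
  rw [← hraw.s1154]
  exact Nat.card_congr (Equiv.subtypeEquiv e.toEquiv (fun u => by
    simp only [MulEquiv.toEquiv_eq_coe, EquivLike.coe_coe, MulEquiv.orderOf_eq]))

end Cfsg.Agent.Lib.Helper47.ReeSpTR3
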