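import Mathlib
import Cfsg.Agent.Lib.Helper93.S64Stmt

/-!
# S1364 piece NC (helper47)

A cyclic normal Hall subgroup `N` of `M` meets `M''` trivially.  `M'` centralizes `N`
(conjugation on a cyclic group is a power map); `N` is central in `C = C_M(N) ≥ M'`, and the
transfer `C → Z(C)`, `g ↦ g ^ |C : Z(C)|`, is a homomorphism killing `C' ≥ M''`, while
`|C : Z(C)|` divides `|M : N|`, prime to `|N|`.
-/

set_option autoImplicit false

namespace Cfsg.Agent.Lib.Helper47.S64NC

open Cfsg.Agent.Lib.Helper93.S64Stmt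
open scoped commutatorElement

universe u

/-- conjugation by any element is a power map on a cyclic normal subgroup -/
theorem conj_pow {M : Type u} [Group M] (N : Subgroup M) [N.Normal] [IsCyclic ↥N] (a : M) :
    ∃ k : ℤ, ∀ n ∈ N, a * n * a⁻¹ = n ^ k := by
  obtain ⟨k, hk⟩ := MonoidHom.map_cyclic ((MulAut.conjNormal a : MulAut ↥N).toMonoidHom)
  refine ⟨k, fun n hn => ?_⟩
  have h := congrArg Subtype.val (hk ⟨n, hn⟩)
  simpa [MulAut.conjNormal_apply] using h

theorem derived_le_centralizer {M : Type u} [Group M] (N : Subgroup M) [N.Normal]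
    [IsCyclic ↥N] :
    ⁅(⊤ : Subgroup M), (⊤ : Subgroup M)⁆ ≤ Subgroup.centralizer (N : Set M) := by
  rw [Subgroup.commutator_le]
  intro a _ b _
  rw [Subgroup.mem_centralizer_iff]
  intro n hn
  have hn' : n ∈ N := hn
  have key : ∀ a b : M, a * b * n * b⁻¹ * a⁻¹ = b * a * n * a⁻¹ * b⁻¹ := by
    intro a b
    obtain ⟨k, hk⟩ := conj_pow N a
    obtain ⟨l, hl⟩ := conj_pow N b
    have e1 : a * b * n * b⁻¹ * a⁻¹ = n ^ (l * k) := by
      have h0 : a * b * n * b⁻¹ * a⁻¹ = a * (b * n * b⁻¹) * a⁻¹ := by group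
      rw [h0, hl n hn', hk _ (N.zpow_mem hn' l), zpow_mul]
    have e2 : b * a * n * a⁻¹ * b⁻¹ = n ^ (k * l) := by
      have h0 : b * a * n * a⁻¹ * b⁻¹ = b * (a * n * a⁻¹) * b⁻¹ := by group
      rw [h0, hk n hn', hl _ (N.zpow_mem hn' k), zpow_mul]
    rw [e1, e2, mul_comm]
  have h := key a⁻¹ b⁻¹
  rw [inv_inv, inv_inv] at h
  symm
  calc ⁅a, b⁆ * n = a * b * (a⁻¹ * b⁻¹ * n * b * a) * a⁻¹ * b⁻¹ := by
        rw [commutatorElement_def]; group
    _ = a * b * (b⁻¹ * a⁻¹ * n * a * b) * a⁻¹ * b⁻¹ := by rw [h]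
    _ = n * ⁅a, b⁆ := by rw [commutatorElement_def]; group

/-- the transfer into the centre kills the derived subgroup -/
theorem commutator_le_ker_transfer {M : Type u} [Group M] [Finite M] (C : Subgroup M) :
    commutator ↥C ≤ (MonoidHom.transferCenterPow ↥C).ker := by
  rw [commutator_eq_closure, Subgroup.closure_le]
  rintro x ⟨a, b, rfl⟩
  rw [SetLike.mem_coe, MonoidHom.mem_ker, map_commutatorElement, commutatorElement_def]
  have hcomm : MonoidHom.transferCenterPow ↥C a * MonoidHom.transferCenterPow ↥C b =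
      MonoidHom.transferCenterPow ↥C b * MonoidHom.transferCenterPow ↥C a := by
    apply Subtype.ext
    rw [Subgroup.coe_mul, Subgroup.coe_mul]
    exact Subgroup.mem_center_iff.1 (MonoidHom.transferCenterPow ↥C b).2 _
  rw [hcomm]
  group

theorem pow_index_center_eq_one {M : Type u} [Group M] [Finite M] (C : Subgroup M) (c : ↥C)
    (hc : c ∈ commutator ↥C) : c ^ (Subgroup.center ↥C).index = 1 := by
  have h1 : MonoidHom.transferCenterPow ↥C c = 1 :=
    MonoidHom.mem_ker.1 (commutator_le_ker_transfer C hc)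
  rw [← MonoidHom.transferCenterPow_apply, h1, Subgroup.coe_one]

theorem main : NC.{u} := by
  intro M _ _ N hNn hNc hcop
  rw [eq_bot_iff]
  intro z hz
  obtain ⟨hzN, hzD⟩ := Subgroup.mem_inf.1 hz
  rw [Subgroup.mem_bot]
  obtain ⟨C, hCdef⟩ : ∃ C : Subgroup M, C = Subgroup.centralizer (N : Set M) := ⟨_, rfl⟩
  have hDC : ⁅(⊤ : Subgroup M), (⊤ : Subgroup M)⁆ ≤ C := by
    rw [hCdef]
    exact derived_le_centralizer N
  have hzC' : z ∈ ⁅C, C⁆ := Subgroup.commutator_mono hDC hDC hzD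
  rw [← Subgroup.map_subtype_commutator C] at hzC'
  obtain ⟨c, hc, hcz⟩ := Subgroup.mem_map.1 hzC'
  have hcz' : (c : M) = z := hcz
  have h2 : c ^ (Subgroup.center ↥C).index = 1 := pow_index_center_eq_one C c hc
  have hpow : z ^ (Subgroup.center ↥C).index = 1 := by
    rw [← hcz', ← Subgroup.coe_pow, h2, Subgroup.coe_one]
  have hNle : N.subgroupOf C ≤ Subgroup.center ↥C := by
    intro g hg
    rw [Subgroup.mem_center_iff]
    intro h
    apply Subtype.ext
    have hgN : (g : M) ∈ N := Subgroup.mem_subgroupOf.1 hg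
    have hh : (h : M) ∈ Subgroup.centralizer (N : Set M) := hCdef ▸ h.2
    have h3 := (Subgroup.mem_centralizer_iff.1 hh) (g : M) hgN
    rw [Subgroup.coe_mul, Subgroup.coe_mul]
    exact h3.symm
  have hdvd1 : (Subgroup.center ↥C).index ∣ (N.subgroupOf C).index :=
    Subgroup.index_dvd_of_le hNle
  have hdvd2 : (N.subgroupOf C).index ∣ N.index := Subgroup.relIndex_dvd_index_of_normal N C
  have ho1 : orderOf z ∣ N.index :=
    (orderOf_dvd_of_pow_eq_one hpow).trans (hdvd1.trans hdvd2)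
  have ho2 : orderOf z ∣ Nat.card ↥N := by
    have h4 : orderOf (⟨z, hzN⟩ : ↥N) = orderOf z := Subgroup.orderOf_mk z hzN
    rw [← h4]
    exact orderOf_dvd_natCard _
  have ho3 : orderOf z ∣ 1 := by
    have h5 := Nat.dvd_gcd ho2 ho1
    rw [Nat.Coprime] at hcop
    rwa [hcop] at h5
  exact orderOf_eq_one_iff.1 (Nat.dvd_one.1 ho3)

end Cfsg.Agent.Lib.Helper47.S64NC
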