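import Mathlib
import Cfsg.Agent.Lib.Helper16.SNStmt
import Cfsg.Agent.H32.PGroup

/-!
S3641, piece `DTRIV`: the Sylow 17-subgroups have order 17.
`D = P ⊓ K` (`K` the kernel of the action on the Sylow 17-subgroups) is normal in `G`,
centralized by a Sylow 2- and a Sylow 3-subgroup, so `D ⊓ Z(P) ≤ Z(G) = 1` and `D = 1`.
-/

set_option autoImplicit false

namespace Cfsg.Agent.Lib.Helper47.SNDTRIV

open Cfsg.Agent.Lib.Helper16.SNStmt

universe u

section
variable {G : Type u} [Group G]

/-- elements of the kernel fix every Sylow 17-subgroup -/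
theorem ker_smul {g : G} (hg : g ∈ (act G).ker) (Q : Sylow 17 G) : g • Q = Q := by
  have h1 : act G g = 1 := MonoidHom.mem_ker.mp hg
  have h2 : (act G g) Q = Q := by rw [h1]; rfl
  exact h2

/-- a 17-subgroup of the kernel lies in every Sylow 17-subgroup -/
theorem le_sylow_of_le_ker [Fact (Nat.Prime 17)] {H : Subgroup G} (hH : IsPGroup 17 H)
    (hK : H ≤ (act G).ker) (Q : Sylow 17 G) : H ≤ Q := by
  rw [← hH.sylow_mem_fixedPoints_iff]
  intro h
  exact ker_smul (hK h.2) Q

end

theorem main : DTriv.{u} := by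
  intro hImg G _ _ hZ h17 h2 h3 hprimes d hd hrange P
  have : Fact (Nat.Prime 17) := ⟨by norm_num⟩
  have : Fact (Nat.Prime 2) := ⟨Nat.prime_two⟩
  have : Fact (Nat.Prime 3) := ⟨Nat.prime_three⟩
  obtain ⟨K, hKdef⟩ : ∃ K : Subgroup G, K = (act G).ker := ⟨_, rfl⟩
  have hKnormal : K.Normal := by rw [hKdef]; exact MonoidHom.normal_ker _
  have hle17 : ∀ {H : Subgroup G}, IsPGroup 17 H → H ≤ K → ∀ Q : Sylow 17 G,
      H ≤ (Q : Subgroup G) := by
    intro H hH hHK Q
    exact le_sylow_of_le_ker hH (hKdef ▸ hHK) Q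
  -- `P ≰ K`
  have hPK : ¬ ((P : Subgroup G) ≤ K) := by
    intro hle
    have hall : ∀ Q : Sylow 17 G, Q = P := by
      intro Q
      have h1 : (P : Subgroup G) ≤ Q := hle17 P.2 hle Q
      exact Sylow.ext (P.3 Q.2 h1)
    have h1 : Nat.card (Sylow 17 G) = 1 := by
      rw [Nat.card_eq_one_iff_unique]
      exact ⟨⟨fun a b => (hall a).trans (hall b).symm⟩, ⟨P⟩⟩
    omega
  -- `D = P ⊓ K`
  obtain ⟨D, hDdef⟩ : ∃ D : Subgroup G, D = (P : Subgroup G) ⊓ K := ⟨_, rfl⟩
  have hDP : D ≤ (P : Subgroup G) := by rw [hDdef]; exact inf_le_left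
  have hDK : D ≤ K := by rw [hDdef]; exact inf_le_right
  have hD17 : IsPGroup 17 D := P.2.to_le hDP
  have hDnormal : D.Normal := by
    constructor
    intro x hx g
    have hD' : IsPGroup 17 (D.map (MulAut.conj g).toMonoidHom) := hD17.map _
    have hD'K : D.map (MulAut.conj g).toMonoidHom ≤ K := by
      rintro _ ⟨y, hy, rfl⟩
      exact hKnormal.conj_mem y (hDK hy) g
    have hmem : g * x * g⁻¹ ∈ D.map (MulAut.conj g).toMonoidHom := ⟨x, hx, rfl⟩
    rw [hDdef]
    exact ⟨hle17 hD' hD'K P hmem, hD'K hmem⟩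
  -- cardinalities
  obtain ⟨a, ha⟩ := IsPGroup.iff_card.mp P.isPGroup'
  obtain ⟨c, hc⟩ := IsPGroup.iff_card.mp hD17
  have hca : c < a := by
    rcases Nat.lt_or_ge c a with h | h
    · exact h
    · exfalso
      have hEq : D = (P : Subgroup G) :=
        Subgroup.eq_of_le_of_card_ge hDP
          (by rw [ha, hc]; exact Nat.pow_le_pow_right (by norm_num) h)
      exact hPK (hEq ▸ hDK)
  -- the key step for `r = 2, 3`
  have key : ∀ (r : ℕ) [Fact r.Prime], (r = 2 ∨ r = 3) → ∀ (R : Sylow r G) (m : ℕ),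
      (Subgroup.normalizer ((R : Subgroup G) : Set G)).index = m * 17 → ¬ 17 ∣ m →
      a ≤ c + 1 ∧ ∀ x ∈ D, ∀ y ∈ (R : Subgroup G), x * y = y * x := by
    intro r _ hr R m hidx hm
    obtain ⟨N, hN⟩ : ∃ N : Subgroup G, N = Subgroup.normalizer ((R : Subgroup G) : Set G) :=
      ⟨_, rfl⟩
    rw [← hN] at hidx
    obtain ⟨Q₀⟩ : Nonempty (Sylow 17 N) := inferInstance
    obtain ⟨Q, hQ⟩ : ∃ Q : Subgroup G, Q = (Q₀ : Subgroup N).map N.subtype := ⟨_, rfl⟩
    have hQ17 : IsPGroup 17 Q := by rw [hQ]; exact Q₀.2.map _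
    have hQN : Q ≤ N := by
      rw [hQ]
      rintro _ ⟨y, _, rfl⟩
      exact y.2
    have hQK : Q ≤ K := by
      rw [hKdef]
      exact hImg G h17 d hd hrange r hr R Q hQ17 (hN ▸ hQN)
    have hQP : Q ≤ (P : Subgroup G) := hle17 hQ17 hQK P
    have hQD : Q ≤ D := by rw [hDdef]; exact le_inf hQP hQK
    obtain ⟨b, hb⟩ := IsPGroup.iff_card.mp hQ17
    have hQidx : Q.index = (Q₀ : Subgroup N).index * (m * 17) := by
      rw [hQ, Subgroup.index_map_subtype, hidx]
    have hQ₀ : ¬ 17 ∣ (Q₀ : Subgroup N).index := Q₀.not_dvd_index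
    have e1 := (P : Subgroup G).card_mul_index
    have e2 := Q.card_mul_index
    rw [ha] at e1
    rw [hb, hQidx] at e2
    have hab : a ≤ b + 1 := by
      have h1 : 17 ^ a ∣ 17 ^ (b + 1) * ((Q₀ : Subgroup N).index * m) := by
        have h2 : 17 ^ (b + 1) * ((Q₀ : Subgroup N).index * m) = Nat.card G := by
          rw [← e2]; ring
        rw [h2, ← e1]
        exact dvd_mul_right _ _
      have hcop : Nat.Coprime (17 ^ a) ((Q₀ : Subgroup N).index * m) := by
        apply Nat.Coprime.pow_left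
        rw [Nat.Prime.coprime_iff_not_dvd (by norm_num)]
        intro h
        rcases (Nat.Prime.dvd_mul (by norm_num)).mp h with h | h
        · exact hQ₀ h
        · exact hm h
      exact (Nat.pow_dvd_pow_iff_le_right (by norm_num)).mp (hcop.dvd_of_dvd_mul_right h1)
    have hbc : b ≤ c := by
      have h1 := Subgroup.card_le_of_le hQD
      rw [hb, hc] at h1
      exact (Nat.pow_le_pow_iff_right (by norm_num)).mp h1
    refine ⟨by omega, ?_⟩
    intro x hx y hy
    have hcb : c ≤ b := by omega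
    have hQDeq : Q = D :=
      Subgroup.eq_of_le_of_card_ge hQD
        (by rw [hb, hc]; exact Nat.pow_le_pow_right (by norm_num) hcb)
    have hxN : x ∈ Subgroup.normalizer ((R : Subgroup G) : Set G) := by
      rw [← hN]; exact hQN (hQDeq ▸ hx)
    have hcomm1 : x * y * x⁻¹ * y⁻¹ ∈ (R : Subgroup G) := by
      have h1 : x * y * x⁻¹ ∈ (R : Subgroup G) :=
        (Subgroup.mem_normalizer_iff.mp hxN y).mp hy
      exact Subgroup.mul_mem _ h1 (Subgroup.inv_mem _ hy)
    have hcomm2 : x * y * x⁻¹ * y⁻¹ ∈ D := by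
      have h1 : y * x⁻¹ * y⁻¹ ∈ D := hDnormal.conj_mem _ (D.inv_mem hx) y
      have h2 : x * y * x⁻¹ * y⁻¹ = x * (y * x⁻¹ * y⁻¹) := by group
      rw [h2]; exact D.mul_mem hx h1
    have hdisj : Disjoint D (R : Subgroup G) :=
      IsPGroup.disjoint_of_ne 17 r (by rcases hr with rfl | rfl <;> norm_num) D R hD17 R.2
    have h1 : x * y * x⁻¹ * y⁻¹ = 1 := Subgroup.disjoint_def.mp hdisj hcomm2 hcomm1
    rw [mul_inv_eq_one, mul_inv_eq_iff_eq_mul] at h1
    exact h1
  obtain ⟨R₂⟩ : Nonempty (Sylow 2 G) := inferInstance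
  obtain ⟨R₃⟩ : Nonempty (Sylow 3 G) := inferInstance
  have hi2 : Nat.card (Sylow 2 G) =
      (Subgroup.normalizer ((R₂ : Subgroup G) : Set G)).index := R₂.card_eq_index_normalizer
  have hi3 : Nat.card (Sylow 3 G) =
      (Subgroup.normalizer ((R₃ : Subgroup G) : Set G)).index := R₃.card_eq_index_normalizer
  have hc2 := key 2 (Or.inl rfl) R₂ 9 (by rw [← hi2, h2]) (by norm_num)
  have hc3 := key 3 (Or.inr rfl) R₃ 8 (by rw [← hi3, h3]) (by norm_num)
  -- `D = ⊥`
  have hDbot : D = ⊥ := by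
    by_contra hne
    have hsub : D.subgroupOf (P : Subgroup G) ≠ ⊥ := by
      intro h
      rw [Subgroup.subgroupOf_eq_bot] at h
      exact hne (le_bot_iff.mp (h le_rfl hDP))
    have hsn : (D.subgroupOf (P : Subgroup G)).Normal := inferInstance
    obtain ⟨z, hzD, hz1, hzc⟩ := Cfsg.Agent.H32.exists_mem_center_of_normal P.isPGroup'
      (D.subgroupOf (P : Subgroup G)) hsub
    have hzG : (z : G) ∈ D := Subgroup.mem_subgroupOf.mp hzD
    have hzP : ∀ y ∈ (P : Subgroup G), (z : G) * y = y * (z : G) := by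
      intro y hy
      have h1 := Subgroup.mem_center_iff.mp hzc ⟨y, hy⟩
      exact (congrArg Subtype.val h1).symm
    have hcent : (R₂ : Subgroup G) ⊔ (R₃ : Subgroup G) ⊔ (P : Subgroup G) ≤
        Subgroup.centralizer ({(z : G)} : Set G) := by
      refine sup_le (sup_le ?_ ?_) ?_
      · intro y hy
        rw [Subgroup.mem_centralizer_singleton_iff]
        exact (hc2.2 _ hzG y hy).symm
      · intro y hy
        rw [Subgroup.mem_centralizer_singleton_iff]
        exact (hc3.2 _ hzG y hy).symm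
      · intro y hy
        rw [Subgroup.mem_centralizer_singleton_iff]
        exact (hzP y hy).symm
    have htop : (R₂ : Subgroup G) ⊔ (R₃ : Subgroup G) ⊔ (P : Subgroup G) = ⊤ := by
      rw [← Subgroup.index_eq_one, Nat.eq_one_iff_not_exists_prime_dvd]
      intro r hr hdvd
      have hrG : r ∣ Nat.card G := dvd_trans hdvd (Subgroup.index_dvd_card _)
      rcases hprimes r hr hrG with rfl | rfl | rfl
      · exact R₂.not_dvd_index (dvd_trans hdvd
          (Subgroup.index_dvd_of_le (le_sup_of_le_left le_sup_left)))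
      · exact R₃.not_dvd_index (dvd_trans hdvd
          (Subgroup.index_dvd_of_le (le_sup_of_le_left le_sup_right)))
      · exact P.not_dvd_index (dvd_trans hdvd (Subgroup.index_dvd_of_le le_sup_right))
    have hzcenter : (z : G) ∈ Subgroup.center G := by
      rw [Subgroup.mem_center_iff]
      intro g
      have h1 : g ∈ Subgroup.centralizer ({(z : G)} : Set G) :=
        hcent (htop ▸ Subgroup.mem_top g)
      rw [Subgroup.mem_centralizer_singleton_iff] at h1
      exact h1
    rw [hZ, Subgroup.mem_bot] at hzcenter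
    exact hz1 (Subtype.ext hzcenter)
  have hc0 : c = 0 := by
    rw [hDbot, Subgroup.card_bot] at hc
    by_contra h
    have h1 : 17 ∣ 17 ^ c := dvd_pow_self 17 h
    rw [← hc] at h1
    norm_num at h1
  have ha1 : a = 1 := by
    have h1 := hc2.1
    omega
  rw [ha, ha1]
  norm_num

end Cfsg.Agent.Lib.Helper47.SNDTRIV
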