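import Mathlib
import Cfsg.Agent.Lib.Helper79.SNStmt

/-!
# S4931 piece NORMQ (helper47)

If `g P g⁻¹ ≤ P R` (`R` normal) then `g ∈ N_G(P) R`: `P` and `g P g⁻¹` are Sylow subgroups of
`P ⊔ R`, hence conjugate there.
-/

set_option autoImplicit false

namespace Cfsg.Agent.Lib.Helper47.SNNORMQ

open Cfsg
open scoped Pointwise

universe u

theorem main : Cfsg.Agent.Lib.Helper79.SNStmt.NormQ.{u} := by
  intro G _ _ p _ P R hR g hg
  have hPH : (P : Subgroup G) ≤ (P : Subgroup G) ⊔ R := le_sup_left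
  have hgPH : ((g • P : Sylow p G) : Subgroup G) ≤ (P : Subgroup G) ⊔ R := by
    intro x' hx'
    rw [Sylow.coe_subgroup_smul, Subgroup.mem_smul_pointwise_iff_exists] at hx'
    obtain ⟨x, hx, rfl⟩ := hx'
    rw [MulAut.smul_def, MulAut.conj_apply]
    exact hg x hx
  obtain ⟨y, hy⟩ := MulAction.exists_smul_eq ↥((P : Subgroup G) ⊔ R) (P.subtype hPH)
    ((g • P).subtype hgPH)
  rw [Sylow.smul_subtype] at hy
  have h1 : (y : G) • P = g • P := Sylow.subtype_injective hy
  have h2 : ((y : G)⁻¹ * g) • P = P := by rw [mul_smul, ← h1, inv_smul_smul]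
  have h3 : (y : G)⁻¹ * g ∈ Subgroup.normalizer ((P : Subgroup G) : Set G) :=
    Sylow.smul_eq_iff_mem_normalizer.1 h2
  have h4 : g = (y : G) * ((y : G)⁻¹ * g) := by group
  rw [h4]
  refine Subgroup.mul_mem _ ?_ (Subgroup.mem_sup_left h3)
  exact (sup_le (Subgroup.le_normalizer.trans le_sup_left) le_sup_right) y.2

end Cfsg.Agent.Lib.Helper47.SNNORMQ
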