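import Mathlib
import Cfsg.Prelude.Def_RootSubgroups
import Cfsg.Agent.Lib.Helper83.SgStmt

/-!
# Piece TR of S5072: transfer of a family of subgroups to the subgroup it generates
-/

set_option autoImplicit false

namespace Cfsg.Agent.Lib.Helper47.SgTR

open Cfsg

universe u v

section Transfer

variable {G : Type u} [Group G] (H : Subgroup G)

theorem map_conjBy (X : Subgroup ↥H) (g : ↥H) :
    (conjBy X g).map H.subtype = conjBy (X.map H.subtype) (g : G) := by
  show (X.map (MulAut.conj g).toMonoidHom).map H.subtype =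
    (X.map H.subtype).map (MulAut.conj (g : G)).toMonoidHom
  rw [Subgroup.map_map, Subgroup.map_map]
  congr 1

theorem map_inj {X Y : Subgroup ↥H} : X.map H.subtype = Y.map H.subtype ↔ X = Y :=
  (Subgroup.map_injective H.subtype_injective).eq_iff

theorem subtype_ne_one {a : ↥H} (ha : a ≠ 1) : H.subtype a ≠ 1 := fun h0 =>
  ha (H.subtype_injective (by rw [h0, map_one]))

theorem cond_map {X Y : Subgroup ↥H} (h : RankOneCondition X Y) :
    RankOneCondition (X.map H.subtype) (Y.map H.subtype) := by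
  intro a ha ha1
  obtain ⟨a', ha', rfl⟩ := Subgroup.mem_map.mp ha
  have ha1' : a' ≠ 1 := by
    rintro rfl
    exact ha1 (map_one _)
  obtain ⟨b', hb', hb1, hab⟩ := h a' ha' ha1'
  refine ⟨H.subtype b', Subgroup.mem_map_of_mem _ hb', subtype_ne_one H hb1, ?_⟩
  have e1 := map_conjBy H X b'⁻¹
  have e2 := map_conjBy H Y a'⁻¹
  rw [hab] at e1
  exact e1.symm.trans e2

theorem cond_of_map {X Y : Subgroup ↥H}
    (h : RankOneCondition (X.map H.subtype) (Y.map H.subtype)) : RankOneCondition X Y := by
  intro a' ha' ha1'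
  obtain ⟨b, hb, hb1, hab⟩ := h (H.subtype a') (Subgroup.mem_map_of_mem _ ha')
    (subtype_ne_one H ha1')
  obtain ⟨b', hb', rfl⟩ := Subgroup.mem_map.mp hb
  refine ⟨b', hb', ?_, ?_⟩
  · rintro rfl
    exact hb1 (map_one _)
  · apply (map_inj H).mp
    rw [map_conjBy, map_conjBy]
    exact hab

theorem pair_map_iff {X Y : Subgroup ↥H} :
    IsRankOnePair (X.map H.subtype) (Y.map H.subtype) ↔ IsRankOnePair X Y := by
  constructor
  · intro hp
    refine ⟨fun h => hp.ne (by rw [h]), ?_, ?_, cond_of_map H hp.cond_left,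
      cond_of_map H hp.cond_right⟩
    · have := hp.nilpotent_left
      exact Group.nilpotent_of_mulEquiv
        (X.equivMapOfInjective H.subtype H.subtype_injective).symm
    · have := hp.nilpotent_right
      exact Group.nilpotent_of_mulEquiv
        (Y.equivMapOfInjective H.subtype H.subtype_injective).symm
  · intro hp
    refine ⟨fun h => hp.ne ((map_inj H).mp h), ?_, ?_, cond_map H hp.cond_left,
      cond_map H hp.cond_right⟩
    · have := hp.nilpotent_left
      exact Group.nilpotent_of_mulEquiv (X.equivMapOfInjective H.subtype H.subtype_injective)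
    · have := hp.nilpotent_right
      exact Group.nilpotent_of_mulEquiv (Y.equivMapOfInjective H.subtype H.subtype_injective)

theorem commCase_of_map {S : Set (Subgroup G)} {S' : Set (Subgroup ↥H)}
    (hS : ∀ Z : Subgroup ↥H, Z.map H.subtype ∈ S → Z ∈ S') {X Y : Subgroup ↥H}
    (hc : RootCommutatorCase S (X.map H.subtype) (Y.map H.subtype)) :
    RootCommutatorCase S' X Y := by
  obtain ⟨h1, h2, h3, h4⟩ := hc
  have hcomm : (⁅X, Y⁆).map H.subtype = ⁅X.map H.subtype, Y.map H.subtype⁆ :=
    Subgroup.map_commutator X Y H.subtype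
  refine ⟨hS _ (by rw [hcomm]; exact h1), ?_, ?_, ?_⟩
  · intro c hc x hx
    apply Subtype.ext
    have hc' : H.subtype c ∈ ⁅X.map H.subtype, Y.map H.subtype⁆ := by
      rw [← hcomm]
      exact Subgroup.mem_map_of_mem _ hc
    have hx' : H.subtype x ∈ X.map H.subtype ⊔ Y.map H.subtype := by
      rw [← Subgroup.map_sup]
      exact Subgroup.mem_map_of_mem _ hx
    exact h2 _ hc' _ hx'
  · intro a ha ha1
    apply (map_inj H).mp
    rw [hcomm, MonoidHom.map_closure,
      ← h3 (H.subtype a) (Subgroup.mem_map_of_mem _ ha) (subtype_ne_one H ha1)]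
    congr 1
    rw [Subgroup.coe_map, Set.image_image, Set.image_image]
    rfl
  · intro b hb hb1
    apply (map_inj H).mp
    rw [hcomm, MonoidHom.map_closure,
      ← h4 (H.subtype b) (Subgroup.mem_map_of_mem _ hb) (subtype_ne_one H hb1)]
    congr 1
    rw [Subgroup.coe_map, Set.image_image, Set.image_image]
    rfl

end Transfer

theorem main : Cfsg.Agent.Lib.Helper83.SgStmt.TR.{u, v} := by
  intro G _ k _ S hcomm hne hconj hpair hpsl
  generalize hH : (⨆ B ∈ S, B) = H
  have hle : ∀ A ∈ S, A ≤ H := fun A hA => by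
    rw [← hH]
    exact le_biSup (fun B : Subgroup G => B) hA
  have hmap : ∀ A ∈ S, (A.subgroupOf H).map H.subtype = A := fun A hA =>
    Subgroup.map_subgroupOf_eq_of_le (hle A hA)
  have hS' : ∀ Z : Subgroup ↥H, Z.map H.subtype ∈ S →
      Z ∈ (fun A : Subgroup G => A.subgroupOf H) '' S := by
    intro Z hZ
    refine ⟨Z.map H.subtype, hZ, ?_⟩
    apply (map_inj H).mp
    exact hmap _ hZ
  refine ⟨⟨?_, ?_, ?_, ?_, ?_⟩, ?_⟩
  · rintro _ ⟨A, hA, rfl⟩
    have := hcomm A hA
    infer_instance
  · rintro _ ⟨A, hA, rfl⟩ h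
    replace h : A.subgroupOf H = ⊥ := h
    apply hne A hA
    have h2 := hmap A hA
    rw [h, Subgroup.map_bot] at h2
    exact h2.symm
  · rw [iSup_image]
    apply (map_inj H).mp
    have h1 : (⨆ A ∈ S, A.subgroupOf H).map H.subtype = H := by
      rw [Subgroup.map_iSup]
      simp_rw [Subgroup.map_iSup]
      rw [← hH]
      apply biSup_congr
      intro A hA
      rw [hH]
      exact hmap A hA
    rw [h1, ← MonoidHom.range_eq_map, Subgroup.range_subtype]
  · rintro _ ⟨A, hA, rfl⟩ g
    apply hS'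
    rw [map_conjBy, hmap A hA]
    exact hconj A hA g
  · rintro _ ⟨A, hA, rfl⟩ _ ⟨B, hB, rfl⟩
    rcases hpair A hA B hB with h | h | h
    · left
      apply (map_inj H).mp
      rw [Subgroup.map_commutator, hmap A hA, hmap B hB, h, Subgroup.map_bot]
    · right; left
      apply (pair_map_iff H).mp
      rw [hmap A hA, hmap B hB]
      exact h
    · right; right
      apply commCase_of_map H hS'
      rw [hmap A hA, hmap B hB]
      exact h
  · rintro _ ⟨A, hA, rfl⟩ _ ⟨B, hB, rfl⟩ hp
    have hp' : IsRankOnePair A B := by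
      have h0 := (pair_map_iff H).mpr hp
      rwa [hmap A hA, hmap B hB] at h0
    obtain ⟨φ, hr, hk, hu, hl⟩ := hpsl A hA B hB hp'
    have hφ : ∀ x, φ x ∈ H := fun x => by
      have h0 : φ x ∈ φ.range := ⟨x, rfl⟩
      rw [hr] at h0
      exact (sup_le (hle A hA) (hle B hB)) h0
    have hcomp : H.subtype.comp (φ.codRestrict H hφ) = φ := by
      ext x
      rfl
    refine ⟨φ.codRestrict H hφ, ?_, ?_, ?_, ?_⟩
    · apply (map_inj H).mp
      rw [MonoidHom.map_range, hcomp, hr, Subgroup.map_sup, hmap A hA, hmap B hB]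
    · rw [MonoidHom.ker_codRestrict]
      exact hk
    · apply (map_inj H).mp
      rw [Subgroup.map_map, hcomp, hu, hmap A hA]
    · apply (map_inj H).mp
      rw [Subgroup.map_map, hcomp, hl, hmap B hB]

end Cfsg.Agent.Lib.Helper47.SgTR
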