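import Mathlib
import Cfsg.Agent.Lib.Helper26.T64Stmt
import Cfsg.Agent.Lib.Helper47.T64FPF

/-!
# S3157 piece MOD3 (helper47)

A `ρ`-invariant subgroup has order `≡ 1 (mod 3)`: `ρ` restricted to it is a map of order
dividing 3 with the single fixed point `1`.
-/

set_option autoImplicit false

namespace Cfsg.Agent.Lib.Helper47.T64MOD3

open Cfsg.Agent.Lib.Helper26.T64Stmt

universe u

theorem main : Cfsg.Agent.Lib.Helper26.T64Stmt.MOD3.{u} := by
  intro T _ _ ρ hord hfpf N hN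
  classical
  have : Fintype ↥N := Fintype.ofFinite _
  have h3 : ∀ y : T, ρ (ρ (ρ y)) = y := Cfsg.Agent.Lib.Helper47.T64FPF.cube_apply ρ hord
  obtain ⟨f, hf0⟩ : ∃ f : Function.End ↥N, ∀ n : ↥N, ((f n : ↥N) : T) = ρ n :=
    ⟨fun n => ⟨ρ n, hN n n.2⟩, fun n => rfl⟩
  have hf : f ^ 3 ^ 1 = 1 := by
    funext n
    apply Subtype.ext
    have e : (f ^ 3 ^ 1) n = f (f (f n)) := by
      rw [pow_one, pow_succ, pow_succ, pow_one]; rfl
    rw [e, hf0, hf0, hf0, h3]
    rfl
  have : Fact (Nat.Prime 3) := ⟨Nat.prime_three⟩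
  have hmod := Equiv.Perm.card_fixedPoints_modEq (p := 3) (n := 1) hf
  have hone : ∀ n : ↥N, f n = n → n = 1 := by
    intro n h1
    apply Subtype.ext
    have h2 : ρ (n : T) = n := by rw [← hf0, h1]
    exact hfpf _ h2
  have hfix : Nat.card (Function.fixedPoints f) = 1 := by
    rw [Nat.card_eq_one_iff_unique]
    refine ⟨⟨?_⟩, ⟨⟨1, ?_⟩⟩⟩
    · rintro ⟨n, hn⟩ ⟨n', hn'⟩
      apply Subtype.ext
      exact (hone n hn).trans (hone n' hn').symm
    · show f 1 = 1
      apply Subtype.ext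
      rw [hf0]
      exact map_one ρ
  have key : ∀ (inst : Fintype ↑(Function.fixedPoints f)), @Fintype.card _ inst = 1 := by
    intro inst
    rw [← Nat.card_eq_fintype_card]
    exact hfix
  rw [key] at hmod
  rw [Nat.card_eq_fintype_card]
  exact hmod

end Cfsg.Agent.Lib.Helper47.T64MOD3
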