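import Mathlib
import Cfsg.Agent.Lib.Helper26.T64Stmt
import Cfsg.Agent.Lib.Helper47.T64MOD3

/-!
# S3157 piece ZEXP (helper47)

The centre (of order 4) is elementary abelian: its involutions form a `ρ`-invariant subgroup of
order `≡ 1 (mod 3)`, dividing 4 and at least 2, hence of order 4.
-/

set_option autoImplicit false

namespace Cfsg.Agent.Lib.Helper47.T64ZEXP

open Cfsg.Agent.Lib.Helper26.T64Stmt

universe u

/-- the involutions of the centre -/
def invC (T : Type u) [Group T] : Subgroup T where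
  carrier := {z | z ∈ Subgroup.center T ∧ z * z = 1}
  mul_mem' := by
    rintro a b ⟨ha, ha2⟩ ⟨hb, hb2⟩
    refine ⟨Subgroup.mul_mem _ ha hb, ?_⟩
    have hcomm : b * a = a * b := (Subgroup.mem_center_iff.1 ha) b
    calc a * b * (a * b) = a * (b * a) * b := by group
      _ = a * (a * b) * b := by rw [hcomm]
      _ = (a * a) * (b * b) := by group
      _ = 1 := by rw [ha2, hb2, one_mul]
  one_mem' := ⟨Subgroup.one_mem _, one_mul 1⟩
  inv_mem' := by
    rintro a ⟨ha, ha2⟩
    refine ⟨Subgroup.inv_mem _ ha, ?_⟩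
    rw [← mul_inv_rev, ha2, inv_one]

theorem main : Cfsg.Agent.Lib.Helper26.T64Stmt.ZEXP.{u} := by
  intro T _ _ ρ hord hfpf hZ4
  have hmod := Cfsg.Agent.Lib.Helper47.T64MOD3.main T ρ hord hfpf
  have hρZ : ∀ z ∈ Subgroup.center T, ρ z ∈ Subgroup.center T := by
    intro z hz
    rw [Subgroup.mem_center_iff] at hz ⊢
    intro g
    have h1 := hz (ρ⁻¹ g)
    have h2 := congrArg ρ h1
    rw [map_mul, map_mul] at h2
    simpa using h2
  have hSZ : invC T ≤ Subgroup.center T := fun z hz => hz.1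
  have hSinv : ∀ n ∈ invC T, ρ n ∈ invC T := by
    rintro n ⟨hn, hn2⟩
    exact ⟨hρZ n hn, by rw [← map_mul, hn2, map_one]⟩
  have hS3 : Nat.card ↥(invC T) % 3 = 1 := hmod (invC T) hSinv
  have hSdvd : Nat.card ↥(invC T) ∣ 4 := by
    rw [← hZ4]; exact Subgroup.card_dvd_of_le hSZ
  have hS2 : 2 ≤ Nat.card ↥(invC T) := by
    have : Fact (Nat.Prime 2) := ⟨Nat.prime_two⟩
    obtain ⟨z, hz⟩ := exists_prime_orderOf_dvd_card' (G := ↥(Subgroup.center T)) 2
      (by rw [hZ4]; norm_num)
    have hzS : (z : T) ∈ invC T := by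
      refine ⟨z.2, ?_⟩
      have h1 : z ^ 2 = 1 := by rw [← hz]; exact pow_orderOf_eq_one z
      have h2 := congrArg (fun y : ↥(Subgroup.center T) => (y : T)) h1
      simpa [pow_two] using h2
    have hz1 : (z : T) ≠ 1 := by
      intro h
      have h1 : z = 1 := Subtype.ext h
      rw [h1, orderOf_one] at hz
      norm_num at hz
    have hne : invC T ≠ ⊥ := by
      intro hbot
      rw [hbot] at hzS
      exact hz1 (Subgroup.mem_bot.1 hzS)
    have h1 := (Subgroup.one_lt_card_iff_ne_bot (invC T)).2 hne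
    omega
  have hS4 : Nat.card ↥(invC T) = 4 := by
    have hle : Nat.card ↥(invC T) ≤ 4 := Nat.le_of_dvd (by norm_num) hSdvd
    generalize Nat.card ↥(invC T) = c at hS3 hSdvd hS2 hle
    interval_cases c
    · omega
    · norm_num at hSdvd
    · rfl
  have hSeq : invC T = Subgroup.center T :=
    Subgroup.eq_of_le_of_card_ge hSZ (by rw [hS4, hZ4])
  intro z hz
  have hzS : z ∈ invC T := by rw [hSeq]; exact hz
  exact hzS.2

end Cfsg.Agent.Lib.Helper47.T64ZEXP
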