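import Mathlib
import Cfsg.Agent.Lib.Helper41.TMStmt
import Cfsg.Agent.Lib.Helper47.MinusWitt

/-!
# S5987 piece TOP (helper47): the standard minus form is nondegenerate and not of plus type
(all `q`), from `Helper47.MinusWitt`.
-/

set_option autoImplicit false

namespace Cfsg.Agent.Lib.Helper47.TMTOP

open Cfsg.Agent.Lib.Helper41.TMStmt
open Cfsg.Agent.Lib.Helper45.OMiStmt (M Aniso FxM NDegM StabM)
open Cfsg.Agent.Lib.Helper41.TMTwoStmt (TSubM PlusM FixTSM)

universe u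

theorem main : Top.{u} := by
  intro F _ _ a₀ b₀ hab d
  exact ⟨Cfsg.Agent.Lib.Helper47.MinusWitt.ndeg_top (d - 1) a₀ b₀ hab,
    Cfsg.Agent.Lib.Helper47.MinusWitt.not_plus_top (d - 1) a₀ b₀ hab⟩

end Cfsg.Agent.Lib.Helper47.TMTOP
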