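import Mathlib
import Cfsg.Agent.Lib.Helper41.TMStmt
import Cfsg.Agent.Lib.Helper47.MinusWitt

/-!
# S5987 piece TSEX (helper47): totally singular `m`-spaces exist for `m + 1 ≤ d` in the standard
minus form, from `Helper47.MinusWitt.exists_ts_minus`.
-/

set_option autoImplicit false

namespace Cfsg.Agent.Lib.Helper47.TMTSEX

open Cfsg.Agent.Lib.Helper41.TMStmt
open Cfsg.Agent.Lib.Helper45.OMiStmt (M Aniso FxM NDegM StabM)
open Cfsg.Agent.Lib.Helper41.TMTwoStmt (TSubM PlusM FixTSM)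

universe u

theorem main : TsEx.{u} := by
  intro F _ _ a₀ b₀ _ d m hm
  exact Cfsg.Agent.Lib.Helper47.MinusWitt.exists_ts_minus d m (by omega) a₀ b₀

end Cfsg.Agent.Lib.Helper47.TMTSEX
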