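import Mathlib
import Cfsg.Agent.Lib.Helper44.TPStmt
import Cfsg.Agent.Lib.Helper44.NegPairs

/-!
# S5973 piece SUBPERP (helper47, second seat)

Relative orthogonal complement of a nondegenerate `B` inside a nondegenerate `Y` for the plus
form: `Y' = Y ⊓ B^⊥`, with `B^⊥` from `TPStmt.Perp` (hypothesis in front).
-/

set_option autoImplicit false

namespace Cfsg.Agent.Lib.Helper47.TPSUBPERP

open Cfsg.Agent.Lib.Helper44.TPStmt
open Cfsg.Agent.Lib.Helper44.NegPairs

universe u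

theorem main (hPerp : Perp.{u}) : SubPerp.{u} := by
  intro F _ _ d Y B hY hB hBY
  obtain ⟨Z, hBZ, hZ, hinf, hdim, hstab⟩ := hPerp F d B hB
  have hV : Module.finrank F (J d → F) = 2 * d := by
    rw [Module.finrank_fintype_fun_eq_card, Fintype.card_sum, Fintype.card_fin]
    omega
  have hsup : B ⊔ Z = ⊤ := by
    apply Submodule.eq_top_of_finrank_eq
    have h1 := Submodule.finrank_sup_add_finrank_inf_eq B Z
    rw [hinf, finrank_bot, add_zero] at h1
    rw [h1, hdim, hV]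
  have hmod : B ⊔ (Y ⊓ Z) = Y := by
    have h1 := sup_inf_assoc_of_le Z hBY
    rw [hsup, top_inf_eq, inf_comm] at h1
    exact h1.symm
  have hinf2 : B ⊓ (Y ⊓ Z) = ⊥ := by
    rw [eq_bot_iff]
    intro v hv
    have h1 : v ∈ B ⊓ Z := ⟨hv.1, hv.2.2⟩
    rw [hinf] at h1
    exact h1
  refine ⟨Y ⊓ Z, inf_le_left, ?_, hinf2, ?_, ?_, ?_⟩
  · intro w hw hw0
    obtain ⟨hwY, hwZ⟩ := Submodule.mem_inf.1 hw
    obtain ⟨⟨y, hy, hyw⟩, -⟩ := hY w hwY hw0
    rw [← hmod] at hy
    obtain ⟨b, hb, z', hz', rfl⟩ := Submodule.mem_sup.1 hy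
    have h1 : QuadraticMap.polar (Cfsg.quadFormPlus d F) (b + z') w =
        QuadraticMap.polar (Cfsg.quadFormPlus d F) b w +
          QuadraticMap.polar (Cfsg.quadFormPlus d F) z' w :=
      QuadraticMap.polar_add_left (plusQ d F) b z' w
    rw [h1, hBZ b hb w hwZ, zero_add] at hyw
    refine ⟨⟨z', hz', hyw⟩, ⟨z', hz', ?_⟩⟩
    intro h
    apply hyw
    rw [QuadraticMap.polar_comm]
    exact h
  · intro b hb y hy
    exact hBZ b hb y hy.2
  · have h1 := Submodule.finrank_sup_add_finrank_inf_eq B (Y ⊓ Z)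
    rw [hinf2, finrank_bot, add_zero, hmod] at h1
    exact h1.symm
  · intro x hx hxY hxB
    have hxZ := hstab x hx hxB
    unfold Stab at *
    exact (Submodule.map_inf_le _).trans (inf_le_inf hxY hxZ)
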