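import Mathlib
import Cfsg.Agent.Lib.Helper47.Syl

set_option autoImplicit false

namespace Cfsg.Agent.Lib.Helper47.Trace

open Cfsg
open Cfsg.Agent.Lib.Helper47.Syl

variable {G : Type*} [Group G]

/-- conjugation by an element of the normalizer, as an endomorphism of the subgroup -/
def conjHom (V : Subgroup G) (g : G) (hg : g ∈ Subgroup.normalizer (V : Set G)) : V →* V where
  toFun v := ⟨g * v * g⁻¹, conj_mem_of_mem_normalizer hg v.2⟩
  map_one' := by ext; simp
  map_mul' a b := by ext; simp [mul_assoc]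

/-- averaging over the cosets of a subgroup `S` of `L`: an element `z` of the abelian group `V`
fixed by `S` and fixed by `L` modulo `W` is congruent modulo `W`, after raising to the power
`|L : S|`, to an element fixed by `L`. -/
theorem exists_fixed_mul [Finite G] {L S V W : Subgroup G}
    (hab : ∀ a ∈ V, ∀ b ∈ V, a * b = b * a) (hLV : L ≤ Subgroup.normalizer (V : Set G))
    {z : G} (hz : z ∈ V) (hzS : z ∈ Subgroup.centralizer (S : Set G))
    (hzW : ∀ g ∈ L, g * z * g⁻¹ * z⁻¹ ∈ W) :
    ∃ u ∈ V, u ∈ Subgroup.centralizer (L : Set G) ∧ u * (z ^ S.relIndex L)⁻¹ ∈ W := by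
  classical
  let : CommGroup V :=
    { (inferInstance : Group V) with mul_comm := fun a b => Subtype.ext (hab a a.2 b b.2) }
  have : Fintype (L ⧸ S.subgroupOf L) := Fintype.ofFinite _
  let f : L ⧸ S.subgroupOf L → V := fun q =>
    ⟨(q.out : G) * z * (q.out : G)⁻¹, conj_mem_of_mem_normalizer (hLV q.out.2) hz⟩
  have hf : ∀ g : L, (f (QuotientGroup.mk g) : G) = (g : G) * z * (g : G)⁻¹ := by
    intro g
    obtain ⟨s, hs⟩ := QuotientGroup.mk_out_eq_mul (S.subgroupOf L) g
    have hsS : ((s : L) : G) ∈ S := Subgroup.mem_subgroupOf.mp s.2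
    have hcomm : ((s : L) : G) * z = z * ((s : L) : G) :=
      (Subgroup.mem_centralizer_iff.mp hzS) _ hsS
    show (((QuotientGroup.mk g : L ⧸ S.subgroupOf L).out : L) : G) * z *
      (((QuotientGroup.mk g : L ⧸ S.subgroupOf L).out : L) : G)⁻¹ = _
    rw [hs]
    simp only [Subgroup.coe_mul, mul_inv_rev]
    calc (g : G) * ((s : L) : G) * z * ((((s : L) : G))⁻¹ * (g : G)⁻¹)
        = g * (((s : L) : G) * z) * (((s : L) : G))⁻¹ * (g : G)⁻¹ := by group
      _ = g * (z * ((s : L) : G)) * (((s : L) : G))⁻¹ * (g : G)⁻¹ := by rw [hcomm]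
      _ = g * z * (g : G)⁻¹ := by group
  refine ⟨((∏ q, f q : V) : G), (∏ q, f q : V).2, ?_, ?_⟩
  · rw [Subgroup.mem_centralizer_iff]
    intro g hg
    have h1 : conjHom V g (hLV hg) (∏ q, f q) = ∏ q, f q := by
      rw [map_prod]
      have h2 : ∀ q, conjHom V g (hLV hg) (f q) = f ((⟨g, hg⟩ : L) • q) := by
        intro q
        have hq : (QuotientGroup.mk q.out : L ⧸ S.subgroupOf L) = q := QuotientGroup.out_eq' q
        have h3 : (⟨g, hg⟩ : L) • q = QuotientGroup.mk ((⟨g, hg⟩ : L) * q.out) := by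
          conv_lhs => rw [← hq]
          rfl
        rw [h3]
        apply Subtype.ext
        rw [hf]
        show g * ((q.out : G) * z * (q.out : G)⁻¹) * g⁻¹ = _
        simp only [Subgroup.coe_mul, mul_inv_rev]
        group
      simp only [h2]
      exact Fintype.prod_equiv (MulAction.toPerm (⟨g, hg⟩ : L)) _ _ (fun q => rfl)
    have h4 : g * ((∏ q, f q : V) : G) * g⁻¹ = ((∏ q, f q : V) : G) := congrArg Subtype.val h1
    calc g * ((∏ q, f q : V) : G) = (g * ((∏ q, f q : V) : G) * g⁻¹) * g := by group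
      _ = ((∏ q, f q : V) : G) * g := by rw [h4]
  · have h5 : (∏ q, (f q * (⟨z, hz⟩ : V)⁻¹)) ∈ W.subgroupOf V := by
      apply Subgroup.prod_mem
      intro q _
      rw [Subgroup.mem_subgroupOf]
      exact hzW _ q.out.2
    rw [Finset.prod_mul_distrib, Finset.prod_const, Finset.card_univ] at h5
    have h6 : Fintype.card (L ⧸ S.subgroupOf L) = S.relIndex L := by
      rw [← Nat.card_eq_fintype_card]
      rfl
    rw [h6, Subgroup.mem_subgroupOf] at h5
    simpa using h5

end Cfsg.Agent.Lib.Helper47.Trace
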