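import Mathlib
import Cfsg.Agent.Lib.Helper4.UniStmt

/-!
S4395, piece `WIN`: in a field `F` with `p ^ a` elements on which multiplication by `lam` is
irreducible, the powers `lam^0, …, lam^(a-1)` span `F` additively.
-/

set_option autoImplicit false

namespace Cfsg.Agent.Lib.Helper47.UniWIN

open Cfsg.Agent.Lib.Helper4.UniStmt

theorem main : WIN := by
  intro p _ F _ _ _ lam a hlam hcard hirr x
  let _ : Algebra (ZMod p) F := ZMod.algebra F p
  have hfin : Module.finrank (ZMod p) F = a := by
    have h1 : Nat.card F = Nat.card (ZMod p) ^ Module.finrank (ZMod p) F :=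
      Module.natCard_eq_pow_finrank
    rw [Nat.card_zmod, hcard] at h1
    exact (Nat.pow_right_injective (Fact.out : p.Prime).two_le h1).symm
  have hint : IsIntegral (ZMod p) lam := IsIntegral.of_finite (ZMod p) lam
  have hmonic : (minpoly (ZMod p) lam).Monic := minpoly.monic hint
  have hdeg : (minpoly (ZMod p) lam).natDegree ≤ a := hfin ▸ minpoly.natDegree_le lam
  have hroot : Polynomial.aeval lam (minpoly (ZMod p) lam) = 0 := minpoly.aeval _ _
  have hm1 : minpoly (ZMod p) lam ≠ 1 := minpoly.ne_one _ _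
  let A : AddSubgroup F :=
    { carrier := {y | ∃ f : Polynomial (ZMod p), Polynomial.aeval lam f = y}
      add_mem' := by
        rintro _ _ ⟨f, rfl⟩ ⟨g, rfl⟩
        exact ⟨f + g, map_add _ _ _⟩
      zero_mem' := ⟨0, map_zero _⟩
      neg_mem' := by
        rintro _ ⟨f, rfl⟩
        exact ⟨-f, map_neg _ _⟩ }
  have hA : A = ⊤ := by
    have hstab : ∀ y ∈ A, lam * y ∈ A := by
      rintro _ ⟨f, rfl⟩
      exact ⟨Polynomial.X * f, by rw [map_mul, Polynomial.aeval_X]⟩
    rcases hirr A hstab with h | h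
    · exfalso
      have h1 : (1 : F) ∈ A := ⟨1, map_one _⟩
      rw [h] at h1
      exact one_ne_zero (AddSubgroup.mem_bot.mp h1)
    · exact h
  obtain ⟨f, hf⟩ : ∃ f : Polynomial (ZMod p), Polynomial.aeval lam f = x := by
    have h1 : x ∈ A := hA ▸ AddSubgroup.mem_top x
    exact h1
  have hgx : Polynomial.aeval lam (f %ₘ minpoly (ZMod p) lam) = x := by
    rw [Polynomial.aeval_modByMonic_eq_self_of_root hroot, hf]
  have hgdeg : (f %ₘ minpoly (ZMod p) lam).natDegree < (minpoly (ZMod p) lam).natDegree :=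
    Polynomial.natDegree_modByMonic_lt f hmonic hm1
  have hga : (f %ₘ minpoly (ZMod p) lam).natDegree < a := lt_of_lt_of_le hgdeg hdeg
  refine ⟨fun i => ((f %ₘ minpoly (ZMod p) lam).coeff i).val, ?_⟩
  rw [← hgx, Polynomial.aeval_eq_sum_range' hga]
  apply Finset.sum_congr rfl
  intro i _
  rw [← Nat.cast_smul_eq_nsmul (ZMod p), ZMod.natCast_zmod_val]

end Cfsg.Agent.Lib.Helper47.UniWIN
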