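import Mathlib
import Cfsg.Agent.Lib.Helper88.VFStmt

/-!
# S5286 piece CBASE (helper47, second seat)

`CF F R 1`, and `CF F R b → CF F R (b * s)` for `s` in the image of `lam`.
-/

set_option autoImplicit false

namespace Cfsg.Agent.Lib.Helper47.VFCBASE

open Cfsg Cfsg.Agent.Lib.Helper88.VFDefs Cfsg.Agent.Lib.Helper88.VFStmt

universe u

theorem main : CBaseP.{u} := by
  intro Ω _ S F
  have hlam_inj : ∀ a b : S, lam S a = lam S b → a = b := by
    intro a b h
    have h1 := congrArg (fun σ : Equiv.Perm S => σ 1) h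
    simp only [lam_apply, mul_one] at h1
    exact h1
  refine ⟨?_, ?_⟩
  · intro R P hP ψ hψ _ hb
    have h1 : ∀ x : P, ψ x = (x : Ω) := by
      intro x
      have h2 := hb x
      rw [one_mul, mul_one] at h2
      have h3 := hlam_inj _ _ h2
      exact (congrArg (fun z : ↥S => (z : Ω)) h3).symm
    have h4 : ψ = conjHom P 1 := by
      ext x
      rw [h1]
      simp [conjHom]
    rw [h4]
    exact F.conj_mem hP S.one_mem
  · intro R b s hs hCF P hP ψ hψ hR hb
    obtain ⟨t, rfl⟩ := hs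
    have hinj : Function.Injective (MulAut.conj (t : Ω)).toMonoidHom :=
      (MulAut.conj (t : Ω)).injective
    obtain ⟨e, he⟩ : ∃ e : P ≃* P.map (MulAut.conj (t : Ω)).toMonoidHom,
        ∀ x : P, ((e x : P.map (MulAut.conj (t : Ω)).toMonoidHom) : Ω) = t * x * (t : Ω)⁻¹ :=
      ⟨P.equivMapOfInjective _ hinj, fun x => by
        rw [Subgroup.coe_equivMapOfInjective_apply]
        rfl⟩
    have hP' : P.map (MulAut.conj (t : Ω)).toMonoidHom ≤ S := by
      rintro y ⟨x, hx, rfl⟩
      exact S.mul_mem (S.mul_mem t.2 (hP hx)) (S.inv_mem t.2)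
    obtain ⟨ψ', hψ'def⟩ : ∃ ψ' : P.map (MulAut.conj (t : Ω)).toMonoidHom →* Ω,
        ∀ y, ψ' y = ψ (e.symm y) := ⟨ψ.comp e.symm.toMonoidHom, fun y => rfl⟩
    have hψ' : ∀ y, ψ' y ∈ S := by
      intro y
      rw [hψ'def]
      exact hψ _
    have hmem : ψ' ∈ F.Hom (P.map (MulAut.conj (t : Ω)).toMonoidHom) := by
      apply hCF _ hP' ψ' hψ'
      · intro y
        have e3 : (⟨ψ' y, hψ' y⟩ : S) = ⟨ψ (e.symm y), hψ (e.symm y)⟩ := Subtype.ext (hψ'def y)
        rw [e3]
        exact hR _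
      · intro y
        obtain ⟨x, rfl⟩ := e.surjective y
        have hx := hb x
        have e1 : (⟨((e x : P.map (MulAut.conj (t : Ω)).toMonoidHom) : Ω), hP' (e x).2⟩ : S) =
            t * ⟨x, hP x.2⟩ * t⁻¹ := Subtype.ext (he x)
        have e3 : (⟨ψ' (e x), hψ' (e x)⟩ : S) = ⟨ψ x, hψ x⟩ := by
          apply Subtype.ext
          show ψ' (e x) = ψ x
          rw [hψ'def, MulEquiv.symm_apply_apply]
        rw [e1, e3, map_mul, map_mul, map_inv]
        calc b * (lam S t * lam S ⟨x, hP x.2⟩ * (lam S t)⁻¹)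
            = (b * lam S t * lam S ⟨x, hP x.2⟩) * (lam S t)⁻¹ := by group
          _ = (lam S ⟨ψ x, hψ x⟩ * (b * lam S t)) * (lam S t)⁻¹ := by rw [hx]
          _ = lam S ⟨ψ x, hψ x⟩ * b := by group
    have hh : ∀ x : P, conjHom P (t : Ω) x ∈ P.map (MulAut.conj (t : Ω)).toMonoidHom :=
      fun x => ⟨x, x.2, rfl⟩
    have hcomp := F.comp_mem (F.conj_mem hP t.2) hmem hh
    have heq : ψ'.comp ((conjHom P (t : Ω)).codRestrict _ hh) = ψ := by
      ext x
      rw [MonoidHom.comp_apply]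
      have e4 : (conjHom P (t : Ω)).codRestrict _ hh x = e x := by
        apply Subtype.ext
        rw [he]
        rfl
      rw [e4, hψ'def, MulEquiv.symm_apply_apply]
    rw [← heq]
    exact hcomp
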